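/-
Local criteria for quasi-coherent and finite type modules on schemes.
-/
import Groth.Prelude.Def_CohB1
import Mathlib.AlgebraicGeometry.Modules.Tilde

set_option autoImplicit false

universe u

open CategoryTheory AlgebraicGeometry CategoryTheory.Limits

namespace Groth.L00.Local

variable {X : Scheme.{u}}

/-- `M.over U` from the restriction of `M` to `U`. -/
noncomputable def overIso (M : X.Modules) (U : X.Opens) :
    (Scheme.Modules.overEquiv U).inverse.obj (M.restrict U.ι) ≅ SheafOfModules.over M U :=
  (Scheme.Modules.overEquiv U).inverse.mapIso ((Scheme.Modules.overFunctorEquiv U).app M).symm ≪≫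
    ((Scheme.Modules.overEquiv U).unitIso.app _).symm

/-- the inverse of `overEquiv` sends the structure sheaf to the structure sheaf -/
noncomputable def overInverseUnit (U : X.Opens) :
    SheafOfModules.unit (X.ringCatSheaf.over U) ≅
      (Scheme.Modules.overEquiv U).inverse.obj (SheafOfModules.unit (U : Scheme.{u}).ringCatSheaf) :=
  (TopologicalSpace.Opens.sheafOfModulesEquivOverInverseUnit U X.ringCatSheaf).symm

/-- a family of opens meeting every point covers -/
lemma coversTop_of_forall_exists {ι : Type u} (U : ι → X.Opens) (h : ∀ x, ∃ i, x ∈ U i) :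
    (Opens.grothendieckTopology X).CoversTop U := by
  rw [Opens.coversTop_iff]
  exact top_le_iff.1 fun x _ => TopologicalSpace.Opens.mem_iSup.2 (h x)

/-- presentations on an open cover give quasi-coherence -/
theorem isQCoh_of_presentation (M : X.Modules)
    (h : ∀ x : X, ∃ U : X.Opens, x ∈ U ∧ Nonempty (M.restrict U.ι).Presentation) : Coh.IsQCoh M := by
  choose U hU hP using h
  let q : SheafOfModules.QuasicoherentData.{u} (R := X.ringCatSheaf) M :=
    SheafOfModules.QuasicoherentData.mk.{u, u, u, u} (R := X.ringCatSheaf) (M := M) (↥X) U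
      (coversTop_of_forall_exists U fun x => ⟨x, hU x⟩) fun x =>
        SheafOfModules.Presentation.ofIsIso.{u, u, u} (overIso M (U x)).hom
          ((hP x).some.map (Scheme.Modules.overEquiv (U x)).inverse (overInverseUnit (U x)))
  exact q.isQuasicoherent

/-- quasi-coherence may be tested on affine charts -/
theorem isQCoh_of_tilde_charts (M : X.Modules)
    (h : ∀ x : X, ∃ (R : CommRingCat.{u}) (j : Spec R ⟶ X) (_ : IsOpenImmersion j) (N : ModuleCat.{u} R),
      x ∈ j.opensRange ∧ Nonempty (M.restrict j ≅ tilde N)) : Coh.IsQCoh M := by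
  refine isQCoh_of_presentation M fun x => ?_
  obtain ⟨R, j, hj, N, hx, ⟨e⟩⟩ := h x
  refine ⟨j.opensRange, hx, ⟨?_⟩⟩
  let P : (M.restrict j).Presentation :=
    SheafOfModules.Presentation.ofIsIso.{u, u, u} e.inv
      (presentationTilde N .univ (by simp) _ (Submodule.span_eq _))
  exact SheafOfModules.Presentation.ofIsIso.{u, u, u}
    ((Scheme.Modules.restrictFunctorComp j.isoOpensRange.inv j).symm.app M ≪≫
      (Scheme.Modules.restrictFunctorCongr (j.isoOpensRange_inv_comp)).app M).hom
    (Scheme.Modules.presentationRestrict j.isoOpensRange.inv P)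

/-- finitely many generators on an open cover give finite type -/
theorem isFT_of_generators (M : X.Modules)
    (h : ∀ x : X, ∃ (U : X.Opens) (σ : (M.restrict U.ι).GeneratingSections), x ∈ U ∧ Finite σ.I) :
    CohB1.IsFT M := by
  choose U σ hU hf using h
  let d : SheafOfModules.LocalGeneratorsData.{u} (R := X.ringCatSheaf) M :=
    SheafOfModules.LocalGeneratorsData.mk.{u, u, u, u} (R := X.ringCatSheaf) (M := M) (↥X) U
      (coversTop_of_forall_exists U fun x => ⟨x, hU x⟩) fun x =>
        ((σ x).map (Scheme.Modules.overEquiv (U x)).inverse (overInverseUnit (U x))).ofEpi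
          (overIso M (U x)).hom
  have hd : ∀ x : ↥X, (d.generators x).IsFiniteType := fun x => ⟨hf x⟩
  haveI : SheafOfModules.LocalGeneratorsData.IsFiniteType.{u, u, u, u} (R := X.ringCatSheaf) (M := M) d :=
    SheafOfModules.LocalGeneratorsData.IsFiniteType.mk (R := X.ringCatSheaf) (M := M) (p := d) hd
  refine SheafOfModules.IsFiniteType.mk (R := X.ringCatSheaf) (M := M) ?_
  exact ⟨d, this⟩

/-- finite type gives finitely many generators on an open cover -/
theorem exists_generators_of_isFT (M : X.Modules) (hM : CohB1.IsFT M) (x : X) :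
    ∃ (U : X.Opens) (σ : (M.restrict U.ι).GeneratingSections), x ∈ U ∧ Finite σ.I := by
  obtain ⟨d, hd⟩ := hM.exists_localGeneratorsData
  have hc : TopologicalSpace.IsOpenCover d.X := (Opens.coversTop_iff _ d.X).1 d.coversTop
  obtain ⟨i, hi⟩ := TopologicalSpace.Opens.mem_iSup.1
    (show x ∈ ⨆ i, d.X i from hc.symm ▸ TopologicalSpace.Opens.mem_top x)
  haveI : PreservesColimitsOfSize.{u, u} (Scheme.Modules.overEquiv (d.X i)).functor := inferInstance
  refine ⟨d.X i, ((d.generators i).map (Scheme.Modules.overEquiv (d.X i)).functor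
    (TopologicalSpace.Opens.sheafOfModulesEquivOverUnit (d.X i) X.ringCatSheaf).symm).ofEpi
      ((Scheme.Modules.overFunctorEquiv (d.X i)).app M).hom, hi, ?_⟩
  exact (hd.isFiniteType i).finite

/-- restricting generators to a smaller open -/
theorem exists_generators_restrict_le (M : X.Modules) {U V : X.Opens} (h : V ≤ U)
    (σ : (M.restrict U.ι).GeneratingSections) :
    ∃ τ : (M.restrict V.ι).GeneratingSections, τ.I = σ.I := by
  let e : (Scheme.Modules.restrictFunctor (X.homOfLE h)).obj (M.restrict U.ι) ≅ M.restrict V.ι :=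
    ((Scheme.Modules.restrictFunctorComp (X.homOfLE h) U.ι).symm ≪≫
      Scheme.Modules.restrictFunctorCongr (X.homOfLE_ι h)).app M
  let F : SheafOfModules.{u} (U : Scheme.{u}).ringCatSheaf ⥤ SheafOfModules.{u} (V : Scheme.{u}).ringCatSheaf :=
    Scheme.Modules.restrictFunctor (X.homOfLE h)
  haveI : PreservesColimitsOfSize.{u, u} F :=
    (Scheme.Modules.restrictAdjunction (X.homOfLE h)).leftAdjoint_preservesColimits
  exact ⟨(σ.map F
    (Scheme.Modules.restrictUnitIso (X.homOfLE h)).symm).ofEpi e.hom, rfl⟩

/-- quasi-coherent modules restricted to an affine chart are tildes -/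
theorem exists_tilde_iso_restrict {R : CommRingCat.{u}} (j : Spec R ⟶ X) [IsOpenImmersion j]
    (M : X.Modules) [Coh.IsQCoh M] : ∃ N : ModuleCat.{u} R, Nonempty (M.restrict j ≅ tilde N) := by
  haveI : (M.restrict j).IsQuasicoherent := Scheme.Modules.isQuasicoherent_restrictFunctor j M
  exact ⟨(moduleSpecΓFunctor (R := R)).obj (M.restrict j), ⟨(asIso (M.restrict j).fromTildeΓ).symm⟩⟩

end Groth.L00.Local
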