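import Groth.Agent.L00.QCAlgModule
import Groth.Agent.L17.Approx.Extend
import Groth.Agent.L16.QCohSections
import Groth.Agent.L16.EpiFrames
import Mathlib.RingTheory.FiniteType

/-!
# Finite type submodules generating a quasi-coherent algebra
-/

set_option autoImplicit false
set_option linter.style.haveILetI false
set_option backward.isDefEq.respectTransparency false

universe u

open CategoryTheory AlgebraicGeometry TopologicalSpace Opposite

noncomputable section

namespace Groth.L00.AlgGen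

open Groth.L18.Frame (rs ro)
open Groth.L00.QCAlgModule (smul_eq res_str)

variable {X : Scheme.{u}} (B : RelSpec.QCAlg X) {E : X.Modules} (j : E ⟶ B.toModule)

/-- The subring generated by the functions and the submodule. -/
def gen (U : X.Opens) : Subring (B.presheaf.obj (op U)) :=
  Subring.closure (Set.range (B.str.app (op U)).hom ∪
    Set.range (fun e : E.val.obj (op U) ↦ (show B.presheaf.obj (op U) from (j.val.app (op U)).hom e)))

theorem str_mem (U : X.Opens) (r : Γ(X, U)) : (B.str.app (op U)).hom r ∈ gen B j U :=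
  Subring.subset_closure (Or.inl ⟨r, rfl⟩)

theorem j_mem (U : X.Opens) (e : Γ(E, U)) :
    (show B.presheaf.obj (op U) from j.app U e) ∈ gen B j U :=
  Subring.subset_closure (Or.inr ⟨e, rfl⟩)

theorem res_mem {U V : X.Opens} (h : V ≤ U) {z : B.presheaf.obj (op U)} (hz : z ∈ gen B j U) :
    (B.presheaf.map (homOfLE h).op).hom z ∈ gen B j V := by
  have hle : gen B j U ≤ (gen B j V).comap (B.presheaf.map (homOfLE h).op).hom := by
    refine Subring.closure_le.2 ?_
    rintro _ (⟨r, rfl⟩ | ⟨e, rfl⟩)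
    · show _ ∈ gen B j V
      rw [res_str B h r]
      exact str_mem B j V _
    · show _ ∈ gen B j V
      rw [show (B.presheaf.map (homOfLE h).op).hom (show B.presheaf.obj (op U) from (j.val.app (op U)).hom e) =
        (show B.presheaf.obj (op V) from j.app V (rs E h e)) from (Groth.L16.EpiFrames.app_rs j h e).symm]
      exact j_mem B j V _
  exact hle hz

/-- Generation passes to basic opens. -/
theorem gen_basicOpen {V : X.Opens} (hV : IsAffineOpen V) (h : gen B j V = ⊤) (g : Γ(X, V)) :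
    gen B j (X.basicOpen g) = ⊤ := by
  refine eq_top_iff.2 fun z _ => ?_
  letI := (B.presheaf.map (homOfLE (X.basicOpen_le g)).op).hom.toAlgebra
  haveI : IsLocalization.Away ((B.str.app (op V)).hom g) (B.presheaf.obj (op (X.basicOpen g))) := B.isQC V hV g
  obtain ⟨⟨t, ⟨_, n, rfl⟩⟩, hz⟩ := IsLocalization.surj (Submonoid.powers ((B.str.app (op V)).hom g)) z
  have hu : IsUnit (ro (X.basicOpen_le g) (g ^ n)) := by
    rw [show ro (X.basicOpen_le g) (g ^ n) = ro (X.basicOpen_le g) g ^ n from map_pow _ _ _]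
    exact (RingedSpace.isUnit_res_basicOpen _ g).pow n
  obtain ⟨w, hw⟩ := hu.exists_right_inv
  have e1 : z = (B.presheaf.map (homOfLE (X.basicOpen_le g)).op).hom t *
      (B.str.app (op (X.basicOpen g))).hom w := by
    rw [show (B.presheaf.map (homOfLE (X.basicOpen_le g)).op).hom t = _ from hz.symm, mul_assoc]
    rw [show algebraMap (B.presheaf.obj (op V)) (B.presheaf.obj (op (X.basicOpen g)))
        ((B.str.app (op V)).hom g ^ n) = (B.str.app (op (X.basicOpen g))).hom (ro (X.basicOpen_le g) (g ^ n)) from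
      (congrArg _ (map_pow _ _ _).symm).trans (res_str B (X.basicOpen_le g) (g ^ n)), ← map_mul, hw, map_one, mul_one]
  rw [e1]
  exact mul_mem (res_mem B j _ (h ▸ Subring.mem_top t)) (str_mem B j _ w)

/-- Elements of the generated subring on a basic open extend up to powers. -/
theorem exists_lift [Coh.IsQCoh E] {U : X.Opens} (hU : IsAffineOpen U) (f : Γ(X, U))
    {z : B.presheaf.obj (op (X.basicOpen f))} (hz : z ∈ gen B j (X.basicOpen f)) :
    ∃ (n : ℕ), ∃ s ∈ gen B j U, (B.presheaf.map (homOfLE (X.basicOpen_le f)).op).hom s =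
      (B.str.app (op (X.basicOpen f))).hom (ro (X.basicOpen_le f) (f ^ n)) * z := by
  have hp : ∀ n m : ℕ, ro (X.basicOpen_le f) (f ^ (n + m)) =
      ro (X.basicOpen_le f) (f ^ n) * ro (X.basicOpen_le f) (f ^ m) := fun n m => by
    rw [pow_add]; exact map_mul _ _ _
  induction hz using Subring.closure_induction with
  | mem z hz =>
    rcases hz with ⟨r, rfl⟩ | ⟨e, rfl⟩
    · letI := (X.presheaf.map (homOfLE (X.basicOpen_le f)).op).hom.toAlgebra
      haveI : IsLocalization.Away f Γ(X, X.basicOpen f) := hU.isLocalization_basicOpen f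
      obtain ⟨⟨a, ⟨_, n, rfl⟩⟩, ha⟩ := IsLocalization.surj (Submonoid.powers f) r
      refine ⟨n, (B.str.app (op U)).hom a, str_mem B j U a, ?_⟩
      rw [res_str B (X.basicOpen_le f) a, ← map_mul]
      exact congrArg _ ((show ro (X.basicOpen_le f) a = r * ro (X.basicOpen_le f) (f ^ n) from ha.symm).trans
        (mul_comm _ _))
    · obtain ⟨n, t, ht⟩ := Groth.L16.QCohSect.exists_pow_smul_eq_res hU E f e
      refine ⟨n, (show B.presheaf.obj (op U) from j.app U t), j_mem B j U t, ?_⟩
      have h2 := congrArg (j.app (X.basicOpen f)) ht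
      rw [Groth.L16.EpiFrames.app_rs, j.app_smul, smul_eq] at h2
      exact h2
  | zero => exact ⟨0, 0, zero_mem _, by simp⟩
  | one => exact ⟨0, 1, one_mem _, by simp [show ro (X.basicOpen_le f) (1 : Γ(X, U)) = 1 from map_one _]⟩
  | add x y _ _ hx hy =>
    obtain ⟨n, s, hs, hs'⟩ := hx
    obtain ⟨m, t, ht, ht'⟩ := hy
    refine ⟨n + m, (B.str.app (op U)).hom (f ^ m) * s + (B.str.app (op U)).hom (f ^ n) * t,
      add_mem (mul_mem (str_mem B j U _) hs) (mul_mem (str_mem B j U _) ht), ?_⟩
    simp only [map_add, map_mul, res_str, hp, hs', ht']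
    ring
  | neg x _ hx =>
    obtain ⟨n, s, hs, hs'⟩ := hx
    exact ⟨n, -s, neg_mem hs, by rw [map_neg, hs', mul_neg]⟩
  | mul x y _ _ hx hy =>
    obtain ⟨n, s, hs, hs'⟩ := hx
    obtain ⟨m, t, ht, ht'⟩ := hy
    refine ⟨n + m, s * t, mul_mem hs ht, ?_⟩
    simp only [map_mul, hp, hs', ht']
    ring

/-- Generation is local. -/
theorem gen_eq_top_of_local [Coh.IsQCoh E] {U : X.Opens} (hU : IsAffineOpen U)
    (h : ∀ x ∈ U, ∃ f : Γ(X, U), x ∈ X.basicOpen f ∧ gen B j (X.basicOpen f) = ⊤) : gen B j U = ⊤ := by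
  haveI := Groth.L00.QCAlgModule.isQCoh_toModule B
  refine eq_top_iff.2 fun b _ => ?_
  let J : Ideal Γ(X, U) :=
    { carrier := {a | (B.str.app (op U)).hom a * b ∈ gen B j U}
      zero_mem' := by simp
      add_mem' := fun {a a'} ha ha' => by
        show (B.str.app (op U)).hom (a + a') * b ∈ gen B j U
        rw [map_add, add_mul]; exact add_mem ha ha'
      smul_mem' := fun c a ha => by
        show (B.str.app (op U)).hom (c * a) * b ∈ gen B j U
        rw [map_mul, mul_assoc]; exact mul_mem (str_mem B j U c) ha }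
  suffices hJ : J = ⊤ by
    have h1 : (1 : Γ(X, U)) ∈ J := hJ ▸ Submodule.mem_top
    simpa [J] using h1
  by_contra hJ
  obtain ⟨q, hq, hJq⟩ := Ideal.exists_le_maximal J hJ
  let y : X := hU.fromSpec ⟨q, hq.isPrime⟩
  have hy : y ∈ U := hU.opensRange_fromSpec.le ⟨⟨q, hq.isPrime⟩, rfl⟩
  obtain ⟨f, hfy, hf⟩ := h y hy
  obtain ⟨n, s, hs, hres⟩ := exists_lift B j hU f
    (hf ▸ Subring.mem_top ((B.presheaf.map (homOfLE (X.basicOpen_le f)).op).hom b))
  have h0 : rs B.toModule (X.basicOpen_le f)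
      (show Γ(B.toModule, U) from s - (B.str.app (op U)).hom (f ^ n) * b) = 0 := by
    show (B.presheaf.map (homOfLE (X.basicOpen_le f)).op).hom (s - (B.str.app (op U)).hom (f ^ n) * b) = 0
    rw [map_sub, map_mul, hres, res_str, sub_self]
  obtain ⟨m, hm⟩ := Groth.L16.QCohSect.exists_pow_smul_eq_zero hU B.toModule f _ h0
  rw [smul_eq] at hm
  have hmem : f ^ (m + n) ∈ J := by
    show (B.str.app (op U)).hom (f ^ (m + n)) * b ∈ gen B j U
    have hm' : (B.str.app (op U)).hom (f ^ m) * (s - (B.str.app (op U)).hom (f ^ n) * b) = 0 := hm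
    have : (B.str.app (op U)).hom (f ^ (m + n)) * b = (B.str.app (op U)).hom (f ^ m) * s := by
      rw [pow_add, map_mul]
      linear_combination -hm'
    rw [this]
    exact mul_mem (str_mem B j U _) hs
  have hfq : f ∈ q := hq.isPrime.mem_of_pow_mem _ (hJq hmem)
  have : (⟨q, hq.isPrime⟩ : PrimeSpectrum Γ(X, U)) ∈ hU.fromSpec ⁻¹ᵁ X.basicOpen f := hfy
  rw [hU.fromSpec_preimage_basicOpen] at this
  exact this hfq

/-- A quasi-coherent algebra of finite type is generated by a quasi-coherent submodule of finite type. -/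
theorem exists_generating [CompactSpace X] [QuasiSeparatedSpace X] (B : RelSpec.QCAlg X)
    (hB : ∀ U : X.affineOpens, (B.str.app (op (U : X.Opens))).hom.FiniteType) :
    ∃ (E : X.Modules) (j : E ⟶ B.toModule), Mono j ∧ Coh.IsQCoh E ∧ CohB1.IsFT E ∧
      ∀ U : X.affineOpens, gen B j (U : X.Opens) = ⊤ := by
  classical
  haveI := Groth.L00.QCAlgModule.isQCoh_toModule B
  obtain ⟨ι, hι, W, hW, -, hcov⟩ := Groth.L16.QcqsPush.exists_affine_cover (X := X) (U := ⊤)
    (by rw [Opens.coe_top]; exact isCompact_univ)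
  cases nonempty_fintype ι
  have hG : ∀ k, ∃ G : Finset (B.presheaf.obj (op (W k))),
      Subring.closure (Set.range (B.str.app (op (W k))).hom ∪ ↑G) = ⊤ := by
    intro k
    letI := (B.str.app (op (W k))).hom.toAlgebra
    obtain ⟨G, hG⟩ := (hB ⟨W k, hW k⟩ : Algebra.FiniteType Γ(X, W k) (B.presheaf.obj (op (W k)))).out
    refine ⟨G, eq_top_iff.2 fun z _ => ?_⟩
    have hz : z ∈ Algebra.adjoin Γ(X, W k) (G : Set (B.presheaf.obj (op (W k)))) := hG ▸ Algebra.mem_top
    exact (Algebra.adjoin_eq_ring_closure (R := Γ(X, W k)) (G : Set (B.presheaf.obj (op (W k))))).le hz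
  choose G hG using hG
  obtain ⟨E, j, hj, hE, hmem⟩ := Groth.L17.Approx.exists_submodule_finset B.toModule W (fun k => (hW k).isCompact)
    (fun k => (↥(G k) : Type u)) (fun k q => (show Γ(B.toModule, W k) from q.1)) Finset.univ
  haveI : Coh.IsQCoh E := hE.1
  refine ⟨E, j, hj, hE.1, hE.2, fun U => gen_eq_top_of_local B j U.2 fun x hx => ?_⟩
  obtain ⟨k, hk⟩ := Opens.mem_iSup.1 (hcov (show x ∈ (⊤ : X.Opens) from trivial))
  have htop : gen B j (W k) = ⊤ := by
    refine eq_top_iff.2 ((hG k).ge.trans (Subring.closure_le.2 ?_))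
    rintro z (hz | hz)
    · exact Subring.subset_closure (Or.inl hz)
    · obtain ⟨e, he⟩ := hmem k (Finset.mem_univ k) ⟨z, hz⟩
      exact Subring.subset_closure (Or.inr ⟨e, he⟩)
  obtain ⟨f, g, hfg, hxf⟩ := exists_basicOpen_le_affine_inter U.2 (hW k) x ⟨hx, hk⟩
  exact ⟨f, hxf, by rw [hfg]; exact gen_basicOpen B j (hW k) htop g⟩

end Groth.L00.AlgGen
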