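import Groth.Agent.L00.LocalData
import Groth.Agent.L15.KFlatSite.ToSheafColim
import Groth.Agent.L18.TildeFunctor
import Groth.Agent.L21.Mod.Locality

/-!
# Quasi-coherent modules over a quasi-coherent algebra
-/

set_option autoImplicit false
set_option linter.style.haveILetI false
set_option backward.isDefEq.respectTransparency false
set_option backward.isDefEq.respectTransparency.types false

universe u

open CategoryTheory CategoryTheory.Limits AlgebraicGeometry TopologicalSpace Opposite

noncomputable section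

namespace Groth.L00.AlgQCoh

/-- Direct sums of quasi-coherent modules are quasi-coherent. -/
theorem isQCoh_sigma {X : Scheme.{u}} {I : Type u} (M : I → X.Modules) (hM : ∀ i, Coh.IsQCoh (M i)) :
    Coh.IsQCoh (∐ M) := by
  refine Groth.L00.Local.isQCoh_of_tilde_charts _ fun x => ?_
  obtain ⟨_, ⟨W, hW, rfl⟩, hxW, -⟩ :=
    X.isBasis_affineOpens.exists_subset_of_mem_open (Set.mem_univ x) isOpen_univ
  let F := Scheme.Modules.restrictFunctor hW.fromSpec
  haveI : PreservesColimitsOfSize.{u, u} F :=
    (Scheme.Modules.restrictAdjunction hW.fromSpec).leftAdjoint_preservesColimits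
  haveI hq : (colimit (Discrete.functor fun i => F.obj (M i))).IsQuasicoherent :=
    Groth.L18.TildeF.isQCoh_colimit _ fun i =>
      haveI : (M i.as).IsQuasicoherent := hM i.as
      Scheme.Modules.isQuasicoherent_restrictFunctor hW.fromSpec (M i.as)
  exact ⟨_, hW.fromSpec, inferInstance, _, hW.opensRange_fromSpec.ge hxW,
    ⟨PreservesCoproduct.iso F M ≪≫ (asIso (colimit (Discrete.functor fun i => F.obj (M i))).fromTildeΓ).symm⟩⟩

/-- Kernels and cokernels of quasi-coherent modules are quasi-coherent. -/
theorem isQCoh_kernel_cokernel {X : Scheme.{u}} {F G : X.Modules} (φ : F ⟶ G) (hF : Coh.IsQCoh F)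
    (hG : Coh.IsQCoh G) : Coh.IsQCoh (kernel φ) ∧ Coh.IsQCoh (cokernel φ) := by
  have key : ∀ x : X, ∃ (R : CommRingCat.{u}) (j : Spec R ⟶ X) (_ : IsOpenImmersion j), x ∈ j.opensRange ∧
      (F.restrict j).IsQuasicoherent ∧ (G.restrict j).IsQuasicoherent := fun x => by
    obtain ⟨_, ⟨W, hW, rfl⟩, hxW, -⟩ :=
      X.isBasis_affineOpens.exists_subset_of_mem_open (Set.mem_univ x) isOpen_univ
    haveI : F.IsQuasicoherent := hF
    haveI : G.IsQuasicoherent := hG
    exact ⟨_, hW.fromSpec, inferInstance, hW.opensRange_fromSpec.ge hxW,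
      Scheme.Modules.isQuasicoherent_restrictFunctor _ F, Scheme.Modules.isQuasicoherent_restrictFunctor _ G⟩
  constructor
  · refine Groth.L00.Local.isQCoh_of_tilde_charts _ fun x => ?_
    obtain ⟨R, j, hj, hx, h1, h2⟩ := key x
    haveI := h1
    haveI := h2
    let φ' := (Scheme.Modules.restrictFunctor j).map φ
    haveI : (kernel φ').IsQuasicoherent := Groth.L18.TildeF.isQCoh_kernel φ'
    exact ⟨R, j, hj, _, hx, ⟨PreservesKernel.iso (Scheme.Modules.restrictFunctor j) φ ≪≫
      (asIso (kernel φ').fromTildeΓ).symm⟩⟩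
  · refine Groth.L00.Local.isQCoh_of_tilde_charts _ fun x => ?_
    obtain ⟨R, j, hj, hx, h1, h2⟩ := key x
    haveI := h1
    haveI := h2
    let φ' := (Scheme.Modules.restrictFunctor j).map φ
    haveI : (cokernel φ').IsQuasicoherent := Groth.L18.TildeF.isQCoh_cokernel φ'
    exact ⟨R, j, hj, _, hx, ⟨PreservesCokernel.iso (Scheme.Modules.restrictFunctor j) φ ≪≫
      (asIso (cokernel φ').fromTildeΓ).symm⟩⟩

/-- Quasi-coherence is local on the scheme. -/
theorem isQCoh_of_cover {X : Scheme.{u}} {M : X.Modules}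
    (h : ∀ x : X, ∃ (V : X.Opens), x ∈ V ∧ Coh.IsQCoh (M.restrict V.ι)) : Coh.IsQCoh M := by
  refine Groth.L00.Local.isQCoh_of_tilde_charts _ fun x => ?_
  obtain ⟨V, hx, hV⟩ := h x
  haveI := hV
  obtain ⟨_, ⟨W, hW, rfl⟩, hxW, -⟩ := (V : Scheme.{u}).isBasis_affineOpens.exists_subset_of_mem_open
    (Set.mem_univ (⟨x, hx⟩ : (V : Scheme.{u}))) isOpen_univ
  obtain ⟨N, ⟨e⟩⟩ := Groth.L00.Local.exists_tilde_iso_restrict hW.fromSpec (M.restrict V.ι)
  let j := hW.fromSpec ≫ V.ι
  obtain ⟨y, hy⟩ := hW.opensRange_fromSpec.ge hxW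
  have hxj : x ∈ j.opensRange := ⟨y, by
    change V.ι.base (hW.fromSpec.base y) = x
    rw [hy]; rfl⟩
  exact ⟨_, j, inferInstance, N, hxj,
    ⟨(Scheme.Modules.restrictFunctorComp hW.fromSpec V.ι).app M ≪≫ e⟩⟩

/-- The cokernel is the point of a colimit cofork. -/
theorem nonempty_cokernel_iso {𝒞 : Type*} [Category 𝒞] [HasZeroMorphisms 𝒞] {A B C : 𝒞} {f : A ⟶ B}
    [HasCokernel f] {g : B ⟶ C} {w : f ≫ g = 0} (h : IsColimit (CokernelCofork.ofπ g w)) :
    Nonempty (cokernel f ≅ C) :=
  ⟨(colimit.isColimit (parallelPair f 0)).coconePointUniqueUpToIso h⟩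

variable {X : Scheme.{u}}

/-- A quasi-coherent module on an affine open, on the site over the open, is generated by its sections. -/
theorem exists_generators_over {U : X.Opens} (hU : IsAffineOpen U) (M : SheafOfModules.{u} (X.ringCatSheaf.over U))
    (hM : Coh.IsQCoh ((Scheme.Modules.overEquiv U).functor.obj M)) : Nonempty M.GeneratingSections := by
  let M' := (Scheme.Modules.overEquiv U).functor.obj M
  haveI : M'.IsQuasicoherent := hM
  let R := Γ(X, U)
  let F := Scheme.Modules.restrictFunctor hU.isoSpec.inv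
  haveI : (F.obj M').IsQuasicoherent := Scheme.Modules.isQuasicoherent_restrictFunctor _ M'
  haveI := Scheme.Modules.isIso_fromTildeΓ_of_isQuasicoherent (F.obj M')
  let σ : (F.obj M').GeneratingSections :=
    (SheafOfModules.Presentation.ofIsIso.{u, u, u} (F.obj M').fromTildeΓ
      (presentationTilde _ .univ (by simp) _ (Submodule.span_eq _))).generators
  let G := Scheme.Modules.restrictFunctor hU.isoSpec.hom
  haveI : PreservesColimitsOfSize.{u, u} G :=
    (Scheme.Modules.restrictAdjunction hU.isoSpec.hom).leftAdjoint_preservesColimits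
  let e : G.obj (F.obj M') ≅ M' :=
    ((Scheme.Modules.restrictFunctorComp hU.isoSpec.hom hU.isoSpec.inv).symm ≪≫
      Scheme.Modules.restrictFunctorCongr hU.isoSpec.hom_inv_id ≪≫ Scheme.Modules.restrictFunctorId).app M'
  let τ : M'.GeneratingSections := (σ.map G (Scheme.Modules.restrictUnitIso hU.isoSpec.hom).symm).ofEpi e.hom
  exact ⟨(τ.map (Scheme.Modules.overEquiv U).inverse (Groth.L00.Local.overInverseUnit U)).ofEpi
    ((Scheme.Modules.overEquiv U).unitIso.app M).inv⟩

variable {R : Sheaf (Opens.grothendieckTopology X) RingCat.{u}} (ψ : X.ringCatSheaf ⟶ R)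

/-- Restriction of scalars on the site over an open. -/
abbrev rsOver (U : X.Opens) : SheafOfModules.{u} (R.over U) ⥤ SheafOfModules.{u} (X.ringCatSheaf.over U) :=
  SheafOfModules.restrictScalars (((Opens.grothendieckTopology X).overPullback RingCat U).map ψ)

/-- The underlying module of a module over the algebra on the site over an open. -/
abbrev toMod (U : X.Opens) : SheafOfModules.{u} (R.over U) ⥤ U.toScheme.Modules :=
  rsOver ψ U ⋙ (Scheme.Modules.overEquiv U).functor

/-- Restriction to an open commutes with restriction of scalars. -/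
def toModOverIso (U : X.Opens) (M : SheafOfModules.{u} R) :
    (toMod ψ U).obj (M.over U) ≅ (show X.Modules from (SheafOfModules.restrictScalars ψ).obj M).restrict U.ι :=
  (Scheme.Modules.overEquiv U).functor.mapIso
    ((SheafOfModules.fullyFaithfulForget _).preimageIso (PresheafOfModules.isoMk (fun _ => Iso.refl _)) :
      (rsOver ψ U).obj (M.over U) ≅ ((SheafOfModules.restrictScalars ψ).obj M).over U) ≪≫
    (Scheme.Modules.overFunctorEquiv U).app _

theorem faithful_rsOver (U : X.Opens) : (rsOver ψ U).Faithful where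
  map_injective {M N} f g h := by
    refine SheafOfModules.Hom.ext ?_
    have h' := congrArg (fun k => k.val) h
    ext W x
    exact congrArg (fun k => (k.app W).hom x) h'

/-- Morphisms out of a module over the algebra vanish if they kill every section. -/
theorem eq_zero_of_sections {U : X.Opens} (hU : IsAffineOpen U) (G : SheafOfModules.{u} (R.over U))
    (hG : Coh.IsQCoh ((toMod ψ U).obj G)) {H : SheafOfModules.{u} (R.over U)} (q : G ⟶ H)
    (hq : ∀ s : G.sections, SheafOfModules.sectionsMap q s = (H.unitHomEquiv 0)) : q = 0 := by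
  obtain ⟨σ⟩ := exists_generators_over hU _ hG
  haveI := σ.epi
  haveI := faithful_rsOver ψ U
  apply (rsOver ψ U).map_injective
  rw [Functor.map_zero]
  refine zero_of_epi_comp σ.π ?_
  apply (SheafOfModules.freeHomEquiv _).injective
  funext i
  refine Subtype.ext ?_
  funext W
  let s : G.sections := ⟨fun W => (σ.s i).val W, (σ.s i).property⟩
  have h := congrArg (fun t => t.val W) (hq s)
  have h1 : ((((rsOver ψ U).obj H).freeHomEquiv (σ.π ≫ (rsOver ψ U).map q)) i).val W =
      (SheafOfModules.sectionsMap q s).val W := by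
    rw [SheafOfModules.freeHomEquiv_comp_apply]
    simp [SheafOfModules.GeneratingSections.π, s]
    rfl
  rw [h1, h]
  simp [SheafOfModules.freeHomEquiv]
  rfl

/-- A module over the algebra whose underlying module is quasi-coherent is generated by its sections
over an affine open. -/
def genSections {U : X.Opens} (hU : IsAffineOpen U) (G : SheafOfModules.{u} (R.over U))
    (hG : Coh.IsQCoh ((toMod ψ U).obj G)) : G.GeneratingSections where
  I := G.sections
  s := id
  epi := by
    refine Preadditive.epi_of_cancel_zero _ fun {H} q hq => eq_zero_of_sections ψ hU G hG q fun s => ?_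
    have h1 : SheafOfModules.ιFree s ≫ G.freeHomEquiv.symm (id : G.sections → G.sections) =
        G.unitHomEquiv.symm s := by
      rw [← SheafOfModules.unitHomEquiv_symm_freeHomEquiv_apply, Equiv.apply_symm_apply]
      rfl
    refine H.unitHomEquiv.symm.injective ?_
    rw [← SheafOfModules.unitHomEquiv_symm_comp, Equiv.symm_apply_apply, ← h1, Category.assoc, hq, comp_zero]

/-- Quasi-coherence is invariant under isomorphisms. -/
theorem qcohIso {Y : Scheme.{u}} {M N : Y.Modules} (e : M ≅ N) (h : Coh.IsQCoh M) : Coh.IsQCoh N :=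
  (SheafOfModules.isQuasicoherent Y.ringCatSheaf).prop_of_iso e h

variable (hB : Coh.IsQCoh (show X.Modules from (SheafOfModules.restrictScalars ψ).obj (SheafOfModules.unit R)))

include hB

theorem isQCoh_toMod_free (U : X.Opens) (I : Type u) :
    Coh.IsQCoh ((toMod ψ U).obj (SheafOfModules.free I)) := by
  obtain ⟨h1, h2, -⟩ := Groth.L15.KFlatSite.restrictScalars_exact
    (((Opens.grothendieckTopology X).overPullback RingCat U).map ψ)
  haveI := h2
  haveI : PreservesColimitsOfSize.{u, u} (toMod ψ U) := inferInstance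
  refine qcohIso
    (PreservesCoproduct.iso (toMod ψ U) fun _ : I => SheafOfModules.unit (R.over U)).symm ?_
  refine isQCoh_sigma _ fun _ => ?_
  haveI := hB
  exact qcohIso (toModOverIso ψ U (SheafOfModules.unit R)).symm
    (Scheme.Modules.isQuasicoherent_restrictFunctor U.ι _)

theorem isQCoh_toMod_kernel {U : X.Opens} {I : Type u} {G : SheafOfModules.{u} (R.over U)}
    (hG : Coh.IsQCoh ((toMod ψ U).obj G)) (f : SheafOfModules.free I ⟶ G) :
    Coh.IsQCoh ((toMod ψ U).obj (kernel f)) := by
  obtain ⟨h1, h2, -⟩ := Groth.L15.KFlatSite.restrictScalars_exact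
    (((Opens.grothendieckTopology X).overPullback RingCat U).map ψ)
  haveI := h1
  haveI : PreservesLimitsOfSize.{u, u} (toMod ψ U) := inferInstance
  exact qcohIso (PreservesKernel.iso (toMod ψ U) f).symm
    (isQCoh_kernel_cokernel _ (isQCoh_toMod_free ψ hB U I) hG).1

/-- A presentation on an affine open. -/
def presentationOver {U : X.Opens} (hU : IsAffineOpen U) (G : SheafOfModules.{u} (R.over U))
    (hG : Coh.IsQCoh ((toMod ψ U).obj G)) : G.Presentation where
  generators := genSections ψ hU G hG
  relations := genSections ψ hU _ (isQCoh_toMod_kernel ψ hB hG _)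

/-- Quasi-coherent over the algebra if quasi-coherent as a module. -/
theorem isQuasicoherent_of_isQCoh (M : SheafOfModules.{u} R)
    (hM : Coh.IsQCoh (show X.Modules from (SheafOfModules.restrictScalars ψ).obj M)) : M.IsQuasicoherent := by
  have h : ∀ x : X, ∃ U : X.Opens, IsAffineOpen U ∧ x ∈ U := fun x => by
    obtain ⟨_, ⟨W, hW, rfl⟩, hxW, -⟩ :=
      X.isBasis_affineOpens.exists_subset_of_mem_open (Set.mem_univ x) isOpen_univ
    exact ⟨W, hW, hxW⟩
  choose U hU hxU using h
  haveI := hM
  have hp : ∀ x, Coh.IsQCoh ((toMod ψ (U x)).obj (M.over (U x))) := fun x =>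
    qcohIso (toModOverIso ψ (U x) M).symm (Scheme.Modules.isQuasicoherent_restrictFunctor (U x).ι _)
  let P : ∀ x, (M.over (U x)).Presentation := fun x =>
    presentationOver ψ hB (hU x) (M.over (U x)) (hp x)
  have hc : (Opens.grothendieckTopology X).CoversTop U :=
    Groth.L00.Local.coversTop_of_forall_exists U fun x => ⟨x, hxU x⟩
  let q : SheafOfModules.QuasicoherentData.{u} (R := R) M :=
    SheafOfModules.QuasicoherentData.mk.{u, u, u, u} (R := R) (M := M) (↥X) U hc P
  refine SheafOfModules.IsQuasicoherent.mk (R := R) (M := M) ?_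
  exact ⟨q⟩

/-- Quasi-coherent as a module if quasi-coherent over the algebra. -/
theorem isQCoh_of_isQuasicoherent (M : SheafOfModules.{u} R) (hM : M.IsQuasicoherent) :
    Coh.IsQCoh (show X.Modules from (SheafOfModules.restrictScalars ψ).obj M) := by
  obtain ⟨q⟩ := hM.nonempty_quasicoherentData
  refine isQCoh_of_cover fun x => ?_
  have hc : TopologicalSpace.IsOpenCover q.X := (Opens.coversTop_iff _ q.X).1 q.coversTop
  obtain ⟨i, hi⟩ := TopologicalSpace.Opens.mem_iSup.1
    (show x ∈ ⨆ i, q.X i from hc.symm ▸ TopologicalSpace.Opens.mem_top x)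
  refine ⟨q.X i, hi, ?_⟩
  obtain ⟨h1, h2, -⟩ := Groth.L15.KFlatSite.restrictScalars_exact
    (((Opens.grothendieckTopology X).overPullback RingCat (q.X i)).map ψ)
  haveI := h2
  haveI : PreservesColimitsOfSize.{u, u} (toMod ψ (q.X i)) := inferInstance
  let P := q.presentation i
  have hr := isQCoh_toMod_free ψ hB (q.X i) P.relations.I
  have hg := isQCoh_toMod_free ψ hB (q.X i) P.generators.I
  obtain ⟨e⟩ := nonempty_cokernel_iso P.isColimit
  refine qcohIso ((PreservesCokernel.iso (toMod ψ (q.X i)) _).symm ≪≫ (toMod ψ (q.X i)).mapIso e ≪≫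
    toModOverIso ψ (q.X i) M) ?_
  exact (isQCoh_kernel_cokernel _ hr hg).2

end Groth.L00.AlgQCoh
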