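import Groth.Agent.L00.AlgQCoh

/-!
# Finitely presented modules over a quasi-coherent algebra with Noetherian sections on affine opens
-/

set_option autoImplicit false
set_option linter.style.haveILetI false
set_option backward.isDefEq.respectTransparency false
set_option backward.isDefEq.respectTransparency.types false

universe u

open CategoryTheory CategoryTheory.Limits AlgebraicGeometry TopologicalSpace Opposite

noncomputable section

namespace Groth.L00.AlgQCoh

variable {X : Scheme.{u}} {R : Sheaf (Opens.grothendieckTopology X) RingCat.{u}} {U : X.Opens}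

/-- The open itself, as an object of the site over it. -/
abbrev topOver (U : X.Opens) : (Over U)ᵒᵖ := op (Over.mk (𝟙 U))

/-- The map from the top to an object of the site over an open. -/
abbrev toObj (W : (Over U)ᵒᵖ) : topOver U ⟶ W := (Over.mkIdTerminal.from W.unop).op

/-- A section from its value on the whole open. -/
def ofTop (G : SheafOfModules.{u} (R.over U)) (z : G.val.obj (topOver U)) : G.sections :=
  PresheafOfModules.sectionsMk (fun W => G.val.map (toObj W) z) fun W W' f => by
    rw [show toObj W' = toObj W ≫ f from Quiver.Hom.unop_inj (Over.mkIdTerminal.hom_ext _ _)]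
    exact (PresheafOfModules.map_comp_apply G.val (toObj W) f z).symm

theorem ofTop_top (G : SheafOfModules.{u} (R.over U)) (z : G.val.obj (topOver U)) :
    (ofTop G z).val (topOver U) = z := by
  show G.val.map (toObj (topOver U)) z = z
  rw [show toObj (topOver U) = 𝟙 (topOver U) from Quiver.Hom.unop_inj (Over.mkIdTerminal.hom_ext _ _)]
  exact LinearMap.congr_fun (congrArg ModuleCat.Hom.hom (G.val.map_id (topOver U))) z

/-- The sections of a free module of finite rank form a finite module. -/
theorem finite_top_free (I : Type u) [Finite I] :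
    Module.Finite ((R.over U).obj.obj (topOver U))
      ((SheafOfModules.free (R := R.over U) I).val.obj (topOver U)) := by
  classical
  cases nonempty_fintype I
  let F : SheafOfModules.{u} (R.over U) := SheafOfModules.free I
  let one : (SheafOfModules.unit (R.over U)).val.obj (topOver U) := (1 : (R.over U).obj.obj (topOver U))
  let p : I → (F ⟶ SheafOfModules.unit (R.over U)) := fun i =>
    Cofan.IsColimit.desc (SheafOfModules.isColimitFreeCofan I) fun j => if j = i then 𝟙 _ else 0
  have hp : (∑ i, p i ≫ SheafOfModules.ιFree i) = 𝟙 F := by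
    refine Cofan.IsColimit.hom_ext (SheafOfModules.isColimitFreeCofan I) _ _ fun j => ?_
    rw [Preadditive.comp_sum, Finset.sum_eq_single j]
    · rw [← Category.assoc, Cofan.IsColimit.fac, if_pos rfl, Category.id_comp]
      exact (Category.comp_id _).symm
    · intro i _ hij
      rw [← Category.assoc, Cofan.IsColimit.fac, if_neg (Ne.symm hij), zero_comp]
    · exact fun h => absurd (Finset.mem_univ j) h
  refine ⟨Submodule.fg_def.2 ⟨Set.range fun i : I => ((SheafOfModules.ιFree i).val.app (topOver U)).hom one,
    Set.finite_range _, eq_top_iff.2 fun z _ => ?_⟩⟩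
  let φ : (F ⟶ F) →+ F.val.obj (topOver U) :=
    { toFun := fun f => (f.val.app (topOver U)).hom z
      map_zero' := rfl
      map_add' := fun _ _ => rfl }
  have hz : z = ∑ i, φ (p i ≫ SheafOfModules.ιFree i) := by
    rw [← map_sum, hp]; rfl
  rw [hz]
  refine Submodule.sum_mem _ fun i _ => ?_
  let a : (R.over U).obj.obj (topOver U) := ((p i).val.app (topOver U)).hom z
  have ha : φ (p i ≫ SheafOfModules.ιFree i) =
      a • ((SheafOfModules.ιFree i).val.app (topOver U)).hom one := by
    refine Eq.trans ?_ (map_smul ((SheafOfModules.ιFree i).val.app (topOver U)).hom a one)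
    show ((SheafOfModules.ιFree i).val.app (topOver U)).hom (((p i).val.app (topOver U)).hom z) = _
    refine congrArg _ ?_
    exact (mul_one a).symm
  rw [ha]
  exact Submodule.smul_mem _ _ (Submodule.subset_span ⟨i, rfl⟩)

/-- Generators on an open give generators on a smaller open. -/
theorem exists_generators_overMap {M : SheafOfModules.{u} R} {V W : X.Opens} (f : W ⟶ V)
    (σ : (M.over V).GeneratingSections) [σ.IsFiniteType] :
    ∃ τ : (M.over W).GeneratingSections, τ.IsFiniteType := by
  haveI : PreservesColimitsOfSize.{u, u} (SheafOfModules.overMap.{u} R f) :=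
    (Adjunction.ofIsLeftAdjoint (SheafOfModules.overMap.{u} R f)).leftAdjoint_preservesColimits
  exact ⟨(σ.map (SheafOfModules.overMap.{u} R f) (SheafOfModules.overMapUnitIso f)).ofEpi
    ((SheafOfModules.overFunctorMap (R := R) f).app M).hom, inferInstance⟩

variable (ψ : X.ringCatSheaf ⟶ R)

/-- Finitely many generators from a finite module of sections on an affine open. -/
theorem exists_finite_generators (hU : IsAffineOpen U) (G : SheafOfModules.{u} (R.over U))
    (hG : Coh.IsQCoh ((toMod ψ U).obj G))
    [Module.Finite ((R.over U).obj.obj (topOver U)) (G.val.obj (topOver U))] :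
    ∃ σ : G.GeneratingSections, σ.IsFiniteType := by
  obtain ⟨n, g, hg⟩ := Module.Finite.exists_fin (R := (R.over U).obj.obj (topOver U)) (M := G.val.obj (topOver U))
  let s : ULift.{u} (Fin n) → G.sections := fun i => ofTop G (g i.down)
  have hepi : Epi (G.freeHomEquiv.symm s) := ?_
  · exact ⟨{ I := ULift.{u} (Fin n), s := s, epi := hepi }, ⟨(inferInstance : Finite (ULift.{u} (Fin n)))⟩⟩
  refine Preadditive.epi_of_cancel_zero _ fun {H} q hq => eq_zero_of_sections ψ hU G hG q fun t => ?_
  have hgen : ∀ i, (q.val.app (topOver U)).hom (g i) = 0 := fun i => by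
    have h1 : SheafOfModules.ιFree (⟨i⟩ : ULift.{u} (Fin n)) ≫ G.freeHomEquiv.symm s =
        G.unitHomEquiv.symm (s ⟨i⟩) := by
      rw [← SheafOfModules.unitHomEquiv_symm_freeHomEquiv_apply, Equiv.apply_symm_apply]
    have h2 : G.unitHomEquiv.symm (s ⟨i⟩) ≫ q = 0 := by
      rw [← h1, Category.assoc, hq, comp_zero]
    rw [SheafOfModules.unitHomEquiv_symm_comp] at h2
    have h3 : SheafOfModules.sectionsMap q (s ⟨i⟩) = H.unitHomEquiv 0 := by
      rw [← h2, Equiv.apply_symm_apply]
    have h4 := congrArg (fun v => v.val (topOver U)) h3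
    refine Eq.trans ?_ (h4.trans rfl)
    exact congrArg _ (ofTop_top G (g i)).symm
  have hker : ∀ z : G.val.obj (topOver U), (q.val.app (topOver U)).hom z = 0 := fun z => by
    have hle : Submodule.span ((R.over U).obj.obj (topOver U)) (Set.range g) ≤
        LinearMap.ker (q.val.app (topOver U)).hom :=
      Submodule.span_le.2 fun _ ⟨i, hi⟩ => hi ▸ hgen i
    exact hle (hg ▸ Submodule.mem_top)
  refine Subtype.ext (funext fun W => ?_)
  show (q.val.app W).hom (t.val W) = 0
  rw [← t.property (toObj W)]
  refine (PresheafOfModules.naturality_apply q.val (toObj W) _).trans ?_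
  rw [show (q.val.app (topOver U)) (t.val (topOver U)) = 0 from hker _]
  exact map_zero _

variable (hB : Coh.IsQCoh (show X.Modules from (SheafOfModules.restrictScalars ψ).obj (SheafOfModules.unit R)))

include hB

/-- A finite generating family on an affine open with Noetherian sections extends to a finite presentation. -/
theorem exists_finite_presentation (hU : IsAffineOpen U) [IsNoetherianRing ((R.over U).obj.obj (topOver U))]
    (G : SheafOfModules.{u} (R.over U)) (hG : Coh.IsQCoh ((toMod ψ U).obj G))
    (σ : G.GeneratingSections) [σ.IsFiniteType] : ∃ P : G.Presentation, P.IsFinite := by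
  have hK := isQCoh_toMod_kernel ψ hB hG σ.π
  haveI := finite_top_free (R := R) (U := U) σ.I
  haveI : IsNoetherian ((R.over U).obj.obj (topOver U))
      ((SheafOfModules.free (R := R.over U) σ.I).val.obj (topOver U)) := isNoetherian_of_isNoetherianRing_of_finite _ _
  haveI : Module.Finite ((R.over U).obj.obj (topOver U)) ((kernel σ.π).val.obj (topOver U)) := by
    haveI := Groth.L15.KFlatSite.preservesLimits_toSheaf (R.over U)
    haveI : PreservesLimitsOfSize.{0, 0} (SheafOfModules.toSheaf.{u} (R.over U)) :=
      preservesLimitsOfSize_shrink.{0, u, 0, u} _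
    have h1 : Mono ((sheafToPresheaf ((Opens.grothendieckTopology X).over U) AddCommGrpCat.{u}).map
        ((SheafOfModules.toSheaf.{u} (R.over U)).map (kernel.ι σ.π))) := inferInstance
    have h2 := (AddCommGrpCat.mono_iff_injective _).1 ((NatTrans.mono_iff_mono_app _).1 h1 (topOver U))
    exact Module.Finite.of_injective ((kernel.ι σ.π).val.app (topOver U)).hom h2
  obtain ⟨τ, hτ⟩ := exists_finite_generators ψ hU (kernel σ.π) hK
  exact ⟨⟨σ, τ⟩, ⟨inferInstance, hτ⟩⟩

/-- Finitely presented if quasi-coherent as a module and of finite type over the algebra. -/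
theorem isFinitePresentation_of_isQCoh
    (hR : ∀ V : X.Opens, IsAffineOpen V → IsNoetherianRing ((R.over V).obj.obj (topOver V)))
    (M : SheafOfModules.{u} R)
    (hM : Coh.IsQCoh (show X.Modules from (SheafOfModules.restrictScalars ψ).obj M)) (hft : M.IsFiniteType) :
    M.IsFinitePresentation := by
  obtain ⟨d, hd⟩ := hft.exists_localGeneratorsData
  have hc : TopologicalSpace.IsOpenCover d.X := (Opens.coversTop_iff _ d.X).1 d.coversTop
  have h : ∀ x : X, ∃ V : X.Opens, x ∈ V ∧ ∃ P : (M.over V).Presentation, P.IsFinite := fun x => by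
    obtain ⟨i, hi⟩ := TopologicalSpace.Opens.mem_iSup.1
      (show x ∈ ⨆ i, d.X i from hc.symm ▸ TopologicalSpace.Opens.mem_top x)
    obtain ⟨_, ⟨W, hW, rfl⟩, hxW, hWi⟩ :=
      X.isBasis_affineOpens.exists_subset_of_mem_open hi (d.X i).isOpen
    haveI : (d.generators i).IsFiniteType := hd.isFiniteType i
    obtain ⟨τ, hτ⟩ := exists_generators_overMap (M := M) (homOfLE hWi) (d.generators i)
    haveI := hR W hW
    have hq : Coh.IsQCoh ((toMod ψ W).obj (M.over W)) := qcohIso (toModOverIso ψ W M).symm
      (haveI := hM; Scheme.Modules.isQuasicoherent_restrictFunctor (Scheme.Opens.ι W) _)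
    exact ⟨W, hxW, exists_finite_presentation ψ hB hW _ hq τ⟩
  choose V hV P hP using h
  let q : SheafOfModules.QuasicoherentData.{u} (R := R) M :=
    SheafOfModules.QuasicoherentData.mk.{u, u, u, u} (R := R) (M := M) (↥X) V
      (Groth.L00.Local.coversTop_of_forall_exists V fun x => ⟨x, hV x⟩) P
  refine SheafOfModules.IsFinitePresentation.mk (R := R) (M := M) ?_
  exact ⟨q, SheafOfModules.QuasicoherentData.IsFinitePresentation.mk (R := R) (M := M) (q := q) hP⟩

end Groth.L00.AlgQCoh
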