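import Mathlib.RingTheory.Ideal.KrullsHeightTheorem
import Mathlib.RingTheory.Ideal.MinimalPrime.Noetherian

set_option autoImplicit false
universe u

namespace Groth.L00.ArtinTate

variable {R : Type u} [CommRing R] [IsNoetherianRing R]

/-- Artin-Tate: if `D(f) ∩ V(p) = {p}` then every prime above `p` is minimal over `p + (f)`. -/
theorem mem_minimalPrimes {p : Ideal R} [p.IsPrime] {f : R} (hf : f ∉ p)
    (h : ∀ q : Ideal R, q.IsPrime → p ≤ q → q ≠ p → f ∈ q) {q : Ideal R} [q.IsPrime] (hpq : p ≤ q) (hne : q ≠ p) :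
    q ∈ (p ⊔ Ideal.span {f}).minimalPrimes := by
  classical
  obtain ⟨P, hP, hPq⟩ := Ideal.exists_minimalPrimes_le (I := p ⊔ Ideal.span {f}) (J := q)
    (sup_le hpq ((Ideal.span_singleton_le_iff_mem _).mpr (h q ‹_› hpq hne)))
  by_contra hmem
  -- `q` is not contained in the union of the primes minimal over `p + (f)`
  let S := (Ideal.finite_minimalPrimes_of_isNoetherianRing R (p ⊔ Ideal.span {f})).toFinset
  obtain ⟨g, hgq, hg⟩ : ∃ g ∈ q, ∀ J ∈ S, g ∉ J := by
    by_contra hcon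
    push Not at hcon
    have hsub : (q : Set R) ⊆ ⋃ J ∈ (S : Set (Ideal R)), (J : Set R) := fun g hg => by
      obtain ⟨J, hJ, hgJ⟩ := hcon g hg
      exact Set.mem_biUnion hJ hgJ
    obtain ⟨J, hJ, hqJ⟩ := (Ideal.subset_union_prime (f := fun J : Ideal R => J) ⊥ ⊥ (fun J hJ _ _ =>
      ((Set.Finite.mem_toFinset _).mp hJ).1.1)).mp hsub
    have hJ' := (Set.Finite.mem_toFinset _).mp hJ
    have : J ≤ q := hJ'.2 ⟨‹q.IsPrime›, sup_le hpq ((Ideal.span_singleton_le_iff_mem _).mpr (h q ‹_› hpq hne))⟩ hqJ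
    exact hmem (le_antisymm this hqJ ▸ hJ')
  let π := Ideal.Quotient.mk p
  have hgp : g ∉ p := fun hgp => hg P ((Set.Finite.mem_toFinset _).mpr hP) (le_sup_left.trans hP.1.2 hgp)
  haveI : (q.map π).IsPrime := Ideal.map_isPrime_of_surjective Ideal.Quotient.mk_surjective (by rwa [Ideal.mk_ker])
  obtain ⟨Q, hQ, hQq⟩ := Ideal.exists_minimalPrimes_le (I := Ideal.span {π g}) (J := q.map π)
    ((Ideal.span_singleton_le_iff_mem _).mpr (Ideal.mem_map_of_mem _ hgq))
  haveI := hQ.1.1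
  have hQp : Q.comap π ≠ p := fun e => hgp (e ▸ hQ.1.2 (Ideal.mem_span_singleton_self _))
  have hpQ : p ≤ Q.comap π := fun x hx => by
    show π x ∈ Q
    rw [Ideal.Quotient.eq_zero_iff_mem.mpr hx]; exact Q.zero_mem
  obtain ⟨J, hJ, hJQ⟩ := Ideal.exists_minimalPrimes_le (I := p ⊔ Ideal.span {f}) (J := Q.comap π)
    (sup_le hpQ ((Ideal.span_singleton_le_iff_mem _).mpr (h _ inferInstance hpQ hQp)))
  haveI := hJ.1.1
  haveI : (J.map π).IsPrime := Ideal.map_isPrime_of_surjective Ideal.Quotient.mk_surjective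
    (by rw [Ideal.mk_ker]; exact le_sup_left.trans hJ.1.2)
  have hcm : (J.map π).comap π = J := by
    rw [Ideal.comap_map_of_surjective _ Ideal.Quotient.mk_surjective]
    refine sup_eq_left.mpr ?_
    show RingHom.ker π ≤ J
    rw [Ideal.mk_ker]; exact le_sup_left.trans hJ.1.2
  have hle : J.map π ≤ Q := Ideal.map_le_iff_le_comap.mpr hJQ
  rcases eq_or_lt_of_le hle with e | hlt
  · refine hg J ((Set.Finite.mem_toFinset _).mpr hJ) ?_
    rw [← hcm, e]
    exact hQ.1.2 (Ideal.mem_span_singleton_self _)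
  · have h1 : (⊥ : Ideal (R ⧸ p)) < J.map π := by
      refine bot_lt_iff_ne_bot.mpr fun e => hf ?_
      have hfJ : f ∈ J := hJ.1.2 (Ideal.mem_sup_right (Ideal.mem_span_singleton_self f))
      rw [← Ideal.Quotient.eq_zero_iff_mem]
      exact (Submodule.mem_bot _).mp (e ▸ Ideal.mem_map_of_mem π hfJ)
    have h2 := Ideal.height_le_one_of_isPrincipal_of_mem_minimalPrimes (Ideal.span {π g}) Q hQ
    have h3 := Ideal.height_strict_mono_of_isPrime hlt
    have h4 := Ideal.height_strict_mono_of_isPrime h1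
    have h5 := Order.add_one_le_of_lt h4
    have h6 : (1 : ℕ∞) ≤ (J.map π).height := le_trans (by simp) h5
    exact absurd (lt_of_le_of_lt h6 (lt_of_lt_of_le h3 h2)) (lt_irrefl _)

theorem finite_above {p : Ideal R} [p.IsPrime] {f : R} (hf : f ∉ p)
    (h : ∀ q : Ideal R, q.IsPrime → p ≤ q → q ≠ p → f ∈ q) :
    {q : PrimeSpectrum R | p ≤ q.asIdeal}.Finite := by
  refine (((Ideal.finite_minimalPrimes_of_isNoetherianRing R (p ⊔ Ideal.span {f})).insert p).preimage
    (f := PrimeSpectrum.asIdeal) (fun a _ b _ e => PrimeSpectrum.ext e)).subset fun q hq => ?_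
  by_cases e : q.asIdeal = p
  · exact Or.inl e
  · exact Or.inr (mem_minimalPrimes hf h hq e)

theorem eq_of_le {p : Ideal R} [p.IsPrime] {f : R} (hf : f ∉ p)
    (h : ∀ q : Ideal R, q.IsPrime → p ≤ q → q ≠ p → f ∈ q) {q r : Ideal R} [q.IsPrime] [r.IsPrime]
    (hpq : p ≤ q) (hne : q ≠ p) (hqr : q ≤ r) : q = r := by
  refine le_antisymm hqr ((mem_minimalPrimes hf h (hpq.trans hqr) fun e => hne (le_antisymm (e ▸ hqr) hpq)).2
    ⟨‹q.IsPrime›, sup_le hpq ((Ideal.span_singleton_le_iff_mem _).mpr (h q ‹_› hpq hne))⟩ hqr)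

end Groth.L00.ArtinTate
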