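import Groth.Prelude.Def_W4stkschemesremainderFib
import Groth.Agent.L23.AffineMor
import Mathlib.AlgebraicGeometry.Morphisms.FlatRank
import Mathlib.AlgebraicGeometry.Morphisms.Immersion

/-! Bounds on fibre degrees. -/

set_option autoImplicit false
set_option backward.isDefEq.respectTransparency.types false

universe u

open CategoryTheory CategoryTheory.Limits AlgebraicGeometry

namespace Groth.L00.BddFib

variable {k : Type u} [Field k] {T : Scheme.{u}} (p : T ⟶ Spec (CommRingCat.of k))

theorem flat_toField : Flat p := by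
  rw [HasRingHomProperty.iff_appLE (P := @Flat)]
  intro U V e
  rcases Set.eq_empty_or_nonempty (U.1 : Set (Spec (CommRingCat.of k))) with h | ⟨x, hx⟩
  · have : (U.1 : (Spec (CommRingCat.of k)).Opens) = ⊥ := TopologicalSpace.Opens.ext h
    have : Subsingleton Γ(Spec (CommRingCat.of k), U.1) := by rw [this]; infer_instance
    have : Subsingleton Γ(T, V.1) := RingHom.codomain_trivial (p.appLE U.1 V.1 e).hom
    exact RingHom.Flat.of_bijective ⟨fun a b _ => Subsingleton.elim a b, fun b => ⟨0, Subsingleton.elim _ _⟩⟩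
  · have hU : (U.1 : (Spec (CommRingCat.of k)).Opens) = ⊤ :=
      TopologicalSpace.Opens.ext (Set.eq_univ_of_forall fun y => Subsingleton.elim x y ▸ hx)
    refine RingHom.Flat.of_isField ?_ _
    rw [hU]
    exact (Scheme.ΓSpecIso (CommRingCat.of k)).commRingCatIsoToRingEquiv.toMulEquiv.isField
      (Field.toIsField k)

variable (k) in
/-- The point of the spectrum of a field. -/
noncomputable abbrev pt : Spec (CommRingCat.of k) := IsLocalRing.closedPoint k

theorem finrank_eq [IsFinite p] :
    letI : Algebra k Γ(T, ⊤) := BddFib.secAlgebra (CommRingCat.of k) p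
    p.finrank (pt k) = Module.finrank k Γ(T, ⊤) := by
  letI : Algebra k Γ(T, ⊤) := BddFib.secAlgebra (CommRingCat.of k) p
  haveI := flat_toField p
  haveI : IsAffine T := isAffine_of_isAffineHom p
  have hp : p = T.isoSpec.hom ≫ Spec.map (CommRingCat.ofHom (algebraMap k Γ(T, ⊤))) := by
    rw [show algebraMap k Γ(T, ⊤) = ((Scheme.ΓSpecIso (CommRingCat.of k)).inv ≫ p.appTop).hom from rfl,
      CommRingCat.ofHom_hom, Spec.map_comp, ← Category.assoc,
      Scheme.isoSpec_hom_naturality, Category.assoc, Scheme.isoSpec_Spec_hom, ← Spec.map_comp]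
    simp
  have : IsFinite (Spec.map (CommRingCat.ofHom (algebraMap k Γ(T, ⊤)))) := by
    rw [← MorphismProperty.cancel_left_of_respectsIso (@IsFinite : MorphismProperty Scheme.{u}) T.isoSpec.hom, ← hp]; infer_instance
  have hfin : Module.Finite k Γ(T, ⊤) := by
    rw [← RingHom.finite_algebraMap]
    exact (IsFinite.SpecMap_iff _).1 this
  haveI : Flat (Spec.map (CommRingCat.ofHom (algebraMap k Γ(T, ⊤)))) := flat_toField _
  conv_lhs => rw [hp]
  rw [Scheme.Hom.finrank_comp_left_of_isIso, Scheme.Hom.finrank_SpecMap_algebraMap]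
  simp
  rfl

theorem iff (n : ℕ) :
    BddFib.FiniteOfDegLE (CommRingCat.of k) p n ↔ ∃ _ : IsFinite p, p.finrank (pt k) ≤ n := by
  letI : Algebra k Γ(T, ⊤) := BddFib.secAlgebra (CommRingCat.of k) p
  constructor
  · rintro ⟨hT, hfin, hn⟩
    have : IsFinite p := by
      rw [HasAffineProperty.iff_of_isAffine (P := (@IsFinite : MorphismProperty Scheme.{u}))]
      refine ⟨hT, ?_⟩
      have h : p.appTop = (Scheme.ΓSpecIso (CommRingCat.of k)).hom ≫
          CommRingCat.ofHom (algebraMap k Γ(T, ⊤)) := by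
        rw [show algebraMap k Γ(T, ⊤) = ((Scheme.ΓSpecIso (CommRingCat.of k)).inv ≫ p.appTop).hom from rfl,
          CommRingCat.ofHom_hom, Iso.hom_inv_id_assoc]
      rw [h, CommRingCat.hom_comp]
      exact (RingHom.finite_algebraMap.2 hfin).comp
        (RingHom.Finite.of_surjective _ (ConcreteCategory.bijective_of_isIso (Scheme.ΓSpecIso (CommRingCat.of k)).hom).surjective)
    exact ⟨this, (finrank_eq p).trans_le hn⟩
  · rintro ⟨hp, hn⟩
    refine ⟨isAffine_of_isAffineHom p, ?_, (finrank_eq p).symm.trans_le hn⟩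
    rw [← RingHom.finite_algebraMap]
    have h := p.finite_appTop
    show ((Scheme.ΓSpecIso (CommRingCat.of k)).inv ≫ p.appTop).hom.Finite
    rw [CommRingCat.hom_comp]
    exact h.comp (RingHom.Finite.of_surjective _
      (ConcreteCategory.bijective_of_isIso (Scheme.ΓSpecIso (CommRingCat.of k)).inv).surjective)

theorem of_iso {T' : Scheme.{u}} (e : T' ≅ T) {n : ℕ} (h : BddFib.FiniteOfDegLE (CommRingCat.of k) p n) :
    BddFib.FiniteOfDegLE (CommRingCat.of k) (e.hom ≫ p) n := by
  obtain ⟨hp, hn⟩ := (iff p n).1 h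
  haveI := flat_toField p
  exact (iff _ n).2 ⟨inferInstance, by rwa [Scheme.Hom.finrank_comp_left_of_isIso]⟩

variable {L : Type u} [Field L] (q : Spec (CommRingCat.of L) ⟶ Spec (CommRingCat.of k))

theorem iff_of_isPullback {T' : Scheme.{u}} {a : T' ⟶ T} {p' : T' ⟶ Spec (CommRingCat.of L)}
    (h : IsPullback a p' p q) (n : ℕ) :
    BddFib.FiniteOfDegLE (CommRingCat.of L) p' n ↔ BddFib.FiniteOfDegLE (CommRingCat.of k) p n := by
  rw [iff, iff]
  haveI := flat_toField p
  have e : q (pt L) = pt k := Subsingleton.elim _ _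
  constructor
  · rintro ⟨hp', hn⟩
    have hQ : (@Surjective ⊓ @Flat ⊓ @QuasiCompact : MorphismProperty Scheme.{u}) q :=
      ⟨⟨⟨fun x => ⟨pt L, Subsingleton.elim _ _⟩⟩, flat_toField q⟩, inferInstance⟩
    have hp : IsFinite p := MorphismProperty.of_isPullback_of_descendsAlong (P := (@IsFinite : MorphismProperty Scheme.{u})) h.flip hQ hp'
    exact ⟨hp, by rwa [Scheme.Hom.finrank_of_isPullback _ _ _ _ h, e] at hn⟩
  · rintro ⟨hp, hn⟩
    exact ⟨MorphismProperty.of_isPullback (P := (@IsFinite : MorphismProperty Scheme.{u})) h hp,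
      by rwa [Scheme.Hom.finrank_of_isPullback _ _ _ _ h, e]⟩

theorem exists_eq_comp {Y : Scheme.{u}} (g : Spec (CommRingCat.of k) ⟶ Y) :
    ∃ q : Spec (CommRingCat.of k) ⟶ Spec (CommRingCat.of (Y.residueField (g (pt k)))),
      g = q ≫ Y.fromSpecResidueField (g (pt k)) :=
  ⟨Spec.map (Y.descResidueField (Scheme.stalkClosedPointTo g)),
    (Scheme.descResidueField_stalkClosedPointTo_fromSpecResidueField k Y g).symm⟩

theorem forall_field_iff {X Y : Scheme.{u}} (f : X ⟶ Y) (n : ℕ) :
    BddFib.FibreDegLE f n ↔ ∀ (k : Type u) [Field k] (g : Spec (CommRingCat.of k) ⟶ Y),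
      BddFib.FiniteOfDegLE (CommRingCat.of k) (pullback.snd f g) n := by
  refine ⟨fun h k _ g => ?_, fun h y => h (Y.residueField y) (Y.fromSpecResidueField y)⟩
  obtain ⟨q, hq⟩ := exists_eq_comp g
  have sq : IsPullback (pullback.map f g f (Y.fromSpecResidueField (g (pt k))) (𝟙 X) q (𝟙 Y) (by simp)
      (by simp [← hq])) (pullback.snd f g) (f.fiberToSpecResidueField (g (pt k))) q := by
    refine IsPullback.of_right ?_ (pullback.lift_snd _ _ _) (IsPullback.of_hasPullback f _)
    rw [pullback.lift_fst, Category.comp_id, ← hq]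
    exact IsPullback.of_hasPullback f g
  exact (iff_of_isPullback _ q sq n).2 (h (g (pt k)))

theorem isPullback_of_isPullback {X Y X' Y' : Scheme.{u}} {f : X ⟶ Y} {g : Y' ⟶ Y} {f' : X' ⟶ Y'} {g' : X' ⟶ X}
    (h : IsPullback g' f' f g) {S : Scheme.{u}} (s : S ⟶ Y') :
    IsPullback (pullback.fst f' s ≫ g') (pullback.snd f' s) f (s ≫ g) :=
  (IsPullback.of_hasPullback f' s).paste_horiz h

theorem baseChange {X Y X' Y' : Scheme.{u}} {f : X ⟶ Y} {g : Y' ⟶ Y} {f' : X' ⟶ Y'} {g' : X' ⟶ X}
    (h : IsPullback g' f' f g) (n : ℕ) (hf : BddFib.FibreDegLE f n) : BddFib.FibreDegLE f' n := by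
  rw [forall_field_iff] at hf ⊢
  intro k _ s
  have sq := isPullback_of_isPullback h s
  have := of_iso _ sq.isoPullback (hf k (s ≫ g))
  rwa [sq.isoPullback_hom_snd] at this

theorem descend {X Y X' Y' : Scheme.{u}} {f : X ⟶ Y} {g : Y' ⟶ Y} [Surjective g] {f' : X' ⟶ Y'} {g' : X' ⟶ X}
    (h : IsPullback g' f' f g) (n : ℕ) (hf : BddFib.FibreDegLE f' n) : BddFib.FibreDegLE f n := by
  rw [forall_field_iff] at hf
  intro y
  obtain ⟨y', rfl⟩ := g.surjective y
  have sq := isPullback_of_isPullback h (Y'.fromSpecResidueField y')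
  rw [← Scheme.Hom.SpecMap_residueFieldMap_fromSpecResidueField g y'] at sq
  have sq' := sq
  have hp : IsPullback (pullback.lift (pullback.fst f' (Y'.fromSpecResidueField y') ≫ g')
      (pullback.snd f' (Y'.fromSpecResidueField y') ≫ Spec.map (g.residueFieldMap y'))
      (by rw [Category.assoc]; exact sq.w)) (pullback.snd f' (Y'.fromSpecResidueField y'))
      (f.fiberToSpecResidueField (g y')) (Spec.map (g.residueFieldMap y')) := by
    refine IsPullback.of_right ?_ (pullback.lift_snd _ _ _) (IsPullback.of_hasPullback f _)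
    rw [pullback.lift_fst]
    exact sq
  exact (iff_of_isPullback _ _ hp n).1 (hf _ _)

theorem immersion {X Y : Scheme.{u}} (f : X ⟶ Y) [IsImmersion f] : BddFib.FibreDegLE f 1 := by
  intro y
  let p := f.fiberToSpecResidueField y
  haveI : IsImmersion p := MorphismProperty.pullback_snd (P := (@IsImmersion : MorphismProperty Scheme.{u})) _ _ inferInstance
  haveI : IsClosedImmersion p := IsClosedImmersion.of_isPreimmersion p (isClosed_discrete _)
  letI : Algebra (Y.residueField y) Γ(f.fiber y, ⊤) := BddFib.secAlgebra _ p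
  have hs : Function.Surjective (algebraMap (Y.residueField y) Γ(f.fiber y, ⊤)) := by
    show Function.Surjective ((Scheme.ΓSpecIso (Y.residueField y)).inv ≫ p.appTop).hom
    rw [CommRingCat.hom_comp, RingHom.coe_comp]
    exact ((isClosedImmersion_iff_isAffineHom.1 ‹IsClosedImmersion p›).2 ⊤ (isAffineOpen_top _)).comp
      (ConcreteCategory.bijective_of_isIso _).surjective
  refine ⟨isAffine_of_isAffineHom p, Module.Finite.of_surjective (Algebra.linearMap _ _) hs, ?_⟩
  refine le_trans ?_ ((Algebra.linearMap (Y.residueField y) Γ(f.fiber y, ⊤)).finrank_range_le.trans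
    (Module.finrank_self _).le)
  rw [LinearMap.range_eq_top.2 hs, finrank_top]

end Groth.L00.BddFib
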