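import Groth.Agent.L00.BddFib
import Mathlib.RingTheory.Artinian.Module
import Mathlib.RingTheory.Ideal.Quotient.Operations
import Mathlib.Topology.Inseparable

/-! Points of schemes finite of bounded degree over a field. -/

set_option autoImplicit false
set_option backward.isDefEq.respectTransparency.types false

universe u

open CategoryTheory CategoryTheory.Limits AlgebraicGeometry

namespace Groth.L00.BddFib

theorem evaluation_surjective {T : Scheme.{u}} [IsAffine T] [IsArtinianRing Γ(T, ⊤)] (x : T) :
    Function.Surjective (T.evaluation ⊤ x trivial).hom := by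
  intro z
  obtain ⟨w, rfl⟩ := T.residue_surjective x z
  letI := T.presheaf.algebra_section_stalk (U := (⊤ : T.Opens)) ⟨x, trivial⟩
  haveI := (isAffineOpen_top T).isLocalization_stalk ⟨x, trivial⟩
  obtain ⟨⟨a, s⟩, hs⟩ := IsLocalization.surj
    ((isAffineOpen_top T).primeIdealOf ⟨x, trivial⟩).asIdeal.primeCompl w
  let ev := (T.evaluation ⊤ x trivial).hom
  have hev : ∀ b, ev b = T.residue x (algebraMap Γ(T, ⊤) (T.presheaf.stalk x) b) := fun b => rfl
  haveI : (RingHom.ker ev).IsPrime := RingHom.ker_isPrime ev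
  have hs0 : ev s ≠ 0 := by
    rw [hev]
    exact ((IsLocalization.map_units (T.presheaf.stalk x) s).map (T.residue x).hom).ne_zero
  obtain ⟨t, c, hc, e⟩ := (IsArtinianRing.isMaximal_of_isPrime (RingHom.ker ev)).exists_inv hs0
  refine ⟨a * t, ?_⟩
  have e1 : ev s * ev t = 1 := by
    rw [← map_mul, mul_comm]
    have := congrArg ev e
    rwa [map_add, RingHom.mem_ker.1 hc, add_zero, map_one] at this
  show ev (a * t) = _
  rw [map_mul, hev a, ← hs, map_mul, ← hev (s : Γ(T, ⊤)), mul_assoc, e1, mul_one]

variable {k : Type u} [Field k] {T : Scheme.{u}} (p : T ⟶ Spec (CommRingCat.of k))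

theorem points (n : ℕ) (h : BddFib.FiniteOfDegLE (CommRingCat.of k) p n) :
    Finite T ∧ Nat.card T ≤ n ∧ ∑ᶠ x : T, p.residueDegree x ≤ n := by
  letI : Algebra k Γ(T, ⊤) := BddFib.secAlgebra (CommRingCat.of k) p
  obtain ⟨hT, hfin, hn⟩ := h
  haveI : Module.Finite k Γ(T, ⊤) := hfin
  replace hn : Module.finrank k Γ(T, ⊤) ≤ n := hn
  haveI : IsArtinianRing Γ(T, ⊤) := IsArtinianRing.of_finite k _
  haveI : Finite T := Finite.of_equiv _ T.isoSpec.schemeIsoToHomeo.toEquiv.symm
  haveI := Fintype.ofFinite T
  let ev : ∀ x : T, Γ(T, ⊤) →+* T.residueField x := fun x => (T.evaluation ⊤ x trivial).hom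
  have hcop : Pairwise fun x y : T => IsCoprime (RingHom.ker (ev x)) (RingHom.ker (ev y)) := by
    intro x y hxy
    rw [Ideal.isCoprime_iff_sup_eq]
    haveI := RingHom.ker_isPrime (ev x)
    haveI := RingHom.ker_isPrime (ev y)
    refine Ideal.IsMaximal.coprime_of_ne (IsArtinianRing.isMaximal_of_isPrime _) (IsArtinianRing.isMaximal_of_isPrime _) fun he => hxy ?_
    have hb : TopologicalSpace.Opens.IsBasis (Set.range (T.basicOpen : Γ(T, ⊤) → T.Opens)) := isBasis_basicOpen T
    refine ((TopologicalSpace.IsTopologicalBasis.inseparable_iff hb).2 ?_).eq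
    rintro _ ⟨_, ⟨f, rfl⟩, rfl⟩
    have := iff_of_eq (congrArg (fun I => f ∈ I) he)
    simp only [RingHom.mem_ker, ev] at this
    rw [Scheme.evaluation_eq_zero_iff_notMem_basicOpen, Scheme.evaluation_eq_zero_iff_notMem_basicOpen] at this
    exact not_iff_not.1 this
  letI alg : ∀ x : T, Algebra k (T.residueField x) := fun x => ((ev x).comp (algebraMap k Γ(T, ⊤))).toAlgebra
  let φ : Γ(T, ⊤) →ₗ[k] ∀ x : T, T.residueField x :=
    LinearMap.pi fun x => ({ ev x with commutes' := fun c => rfl } : Γ(T, ⊤) →ₐ[k] T.residueField x).toLinearMap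
  have hφ : Function.Surjective φ := by
    intro z
    choose g hg using fun x => evaluation_surjective x (z x)
    obtain ⟨r, hr⟩ := Ideal.exists_forall_sub_mem_ideal hcop g
    refine ⟨r, funext fun x => ?_⟩
    show ev x r = z x
    rw [← hg x]
    exact sub_eq_zero.1 (by rw [← map_sub]; exact hr x)
  haveI : ∀ x : T, Module.Finite k (T.residueField x) := fun x =>
    Module.Finite.of_surjective ((LinearMap.proj x).comp φ) ((Function.surjective_eval x).comp hφ)
  have hsum : ∑ x : T, Module.finrank k (T.residueField x) ≤ n := by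
    rw [← Module.finrank_pi_fintype]
    exact (LinearMap.finrank_le_finrank_of_surjective hφ).trans hn
  refine ⟨inferInstance, le_trans ?_ hsum, le_trans (le_of_eq ?_) hsum⟩
  · rw [Nat.card_eq_fintype_card, Fintype.card_eq_sum_ones]
    exact Finset.sum_le_sum fun x _ => Module.finrank_pos
  · rw [finsum_eq_sum_of_fintype]
    refine Finset.sum_congr rfl fun x _ => ?_
    letI := (p.residueFieldMap x).hom.toAlgebra
    haveI : IsArtinianRing Γ(Spec (CommRingCat.of k), ⊤) :=
      (Scheme.ΓSpecIso (CommRingCat.of k)).commRingCatIsoToRingEquiv.symm.surjective.isArtinianRing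
    let σ : k →+* (Spec (CommRingCat.of k)).residueField (p x) :=
      ((Spec (CommRingCat.of k)).evaluation ⊤ (p x) trivial).hom.comp (Scheme.ΓSpecIso (CommRingCat.of k)).inv.hom
    have hσ : Function.Bijective σ := ⟨σ.injective,
      (evaluation_surjective (p x)).comp (ConcreteCategory.bijective_of_isIso (Scheme.ΓSpecIso (CommRingCat.of k)).inv).surjective⟩
    refine (Algebra.finrank_eq_of_equiv_equiv (RingEquiv.ofBijective σ hσ) (RingEquiv.refl _) ?_).symm
    ext c
    exact Scheme.evaluation_naturality_apply p x (V := ⊤) trivial _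

end Groth.L00.BddFib
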