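/-
Exactness properties of the total complex of a bifunctor in the second variable.
-/
import Mathlib.Algebra.Homology.BifunctorShift
import Mathlib.Algebra.Homology.HomologicalComplexLimits
import Mathlib.Algebra.Homology.HomologicalComplexAbelian
import Mathlib.CategoryTheory.Abelian.GrothendieckAxioms.Colim

set_option autoImplicit false
set_option backward.isDefEq.respectTransparency false
set_option backward.isDefEq.respectTransparency.types false

open CategoryTheory CategoryTheory.Limits HomologicalComplex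

namespace Groth.L00.BifExact

universe v w

variable {C₁ C₂ D : Type*} [Category C₁] [Category C₂] [Category.{v} D]
  [Preadditive C₁] [Preadditive C₂] [Preadditive D]
  (F : C₁ ⥤ C₂ ⥤ D) [F.Additive] [∀ X, (F.obj X).Additive]
  [∀ (K₁ : CochainComplex C₁ ℤ) (K₂ : CochainComplex C₂ ℤ),
    CochainComplex.HasMapBifunctor K₁ K₂ F]
  (L : CochainComplex C₁ ℤ)

/-- `E ↦ Tot F(L, E)` -/
noncomputable abbrev T : CochainComplex C₂ ℤ ⥤ CochainComplex D ℤ := F.map₂CochainComplex.obj L

@[reassoc]
theorem ι_T_map {E E' : CochainComplex C₂ ℤ} (f : E ⟶ E') (p q n : ℤ) (h : p + q = n) :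
    ιMapBifunctor L E F (ComplexShape.up ℤ) p q n h ≫ ((T F L).map f).f n =
      (F.obj (L.X p)).map (f.f q) ≫ ιMapBifunctor L E' F (ComplexShape.up ℤ) p q n h := by
  refine (ι_mapBifunctorMap (𝟙 L) f F (ComplexShape.up ℤ) p q n h).trans ?_
  rw [HomologicalComplex.id_f, CategoryTheory.Functor.map_id, NatTrans.id_app, Category.id_comp]

instance T_additive : (T F L).Additive where
  map_add {E E' f g} := by
    ext n : 1
    refine mapBifunctor.hom_ext fun p q h => ?_
    rw [HomologicalComplex.add_f_apply, Preadditive.comp_add, ι_T_map, ι_T_map, ι_T_map,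
      HomologicalComplex.add_f_apply, Functor.map_add, Preadditive.add_comp]

section Colim

variable {J : Type*} [Category J] [HasColimitsOfShape J C₂]
  [∀ p, PreservesColimitsOfShape J (F.obj (L.X p))]

instance preservesColimitsOfShape_T : PreservesColimitsOfShape J (T F L) := by
  refine ⟨fun {K} => ⟨fun {c} hc => ⟨isColimitOfEval _ _ fun n => ?_⟩⟩⟩
  have hq := fun p q : ℤ =>
    isColimitOfPreserves (F.obj (L.X p)) (isColimitOfPreserves (eval C₂ (ComplexShape.up ℤ) q) hc)
  refine
    { desc := fun s => mapBifunctorDesc fun p q h => (hq p q).desc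
        { pt := s.pt
          ι := { app := fun j => ιMapBifunctor L (K.obj j) F (ComplexShape.up ℤ) p q n h ≫ s.ι.app j
                 naturality := fun i j f => ?_ } }
      fac := fun s j => ?_
      uniq := fun s m hm => ?_ }
  · refine Eq.trans ?_ (Category.comp_id _).symm
    refine (ι_T_map_assoc F L (K.map f) p q n h (s.ι.app j)).symm.trans ?_
    exact congrArg (fun k => ιMapBifunctor L (K.obj i) F (ComplexShape.up ℤ) p q n h ≫ k)
      ((s.w f : _))
  · refine mapBifunctor.hom_ext fun p q h => ?_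
    refine (ι_T_map_assoc F L (c.ι.app j) p q n h _).trans ?_
    rw [ι_mapBifunctorDesc]
    exact (hq p q).fac _ j
  · refine mapBifunctor.hom_ext fun p q h => ?_
    rw [ι_mapBifunctorDesc]
    refine (hq p q).hom_ext fun j => ?_
    rw [(hq p q).fac]
    refine (ι_T_map_assoc F L (c.ι.app j) p q n h m).symm.trans ?_
    exact congrArg (fun k => ιMapBifunctor L (K.obj j) F (ComplexShape.up ℤ) p q n h ≫ k) (hm j)

end Colim

section Exact

variable (S : ShortComplex (CochainComplex C₂ ℤ))

/-- summand of a degree of the total complex -/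
noncomputable abbrev summand (E : CochainComplex C₂ ℤ) (i : ℤ × ℤ) : D := (F.obj (L.X i.1)).obj (E.X i.2)

theorem mono_T_map_f {E E' : CochainComplex C₂ ℤ} (f : E ⟶ E')
    [∀ n : ℤ, HasColimitsOfShape (Discrete ((ComplexShape.π (ComplexShape.up ℤ) (ComplexShape.up ℤ) (ComplexShape.up ℤ)) ⁻¹' {n})) D]
    [∀ n : ℤ, (colim : (Discrete ((ComplexShape.π (ComplexShape.up ℤ) (ComplexShape.up ℤ) (ComplexShape.up ℤ)) ⁻¹' {n}) ⥤ D) ⥤ D).PreservesMonomorphisms]
    (h : ∀ p q, Mono ((F.obj (L.X p)).map (f.f q))) (n : ℤ) : Mono (((T F L).map f).f n) := by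
  let φ : Discrete.functor (fun i : ((ComplexShape.π (ComplexShape.up ℤ) (ComplexShape.up ℤ) (ComplexShape.up ℤ)) ⁻¹' {n}) => summand F L E i.1) ⟶
      Discrete.functor (fun i => summand F L E' i.1) :=
    Discrete.natTrans fun i => (F.obj (L.X i.as.1.1)).map (f.f i.as.1.2)
  haveI : ∀ j, Mono (φ.app j) := fun j => h _ _
  haveI : Mono φ := NatTrans.mono_of_mono_app φ
  exact colim.map_mono' φ
    ((((F.mapBifunctorHomologicalComplex _ _).obj L).obj E).toGradedObject.isColimitCofanMapObj _ n)
    ((((F.mapBifunctorHomologicalComplex _ _).obj L).obj E').toGradedObject.isColimitCofanMapObj _ n)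
    (((T F L).map f).f n) fun j => ι_T_map F L f j.as.1.1 j.as.1.2 n j.as.2

theorem epi_T_map_f {E E' : CochainComplex C₂ ℤ} (f : E ⟶ E')
    (h : ∀ p q, Epi ((F.obj (L.X p)).map (f.f q))) (n : ℤ) : Epi (((T F L).map f).f n) := by
  constructor
  intro W a b hab
  refine mapBifunctor.hom_ext fun p q hpq => ?_
  haveI := h p q
  rw [← cancel_epi ((F.obj (L.X p)).map (f.f q)), ← ι_T_map_assoc, ← ι_T_map_assoc, hab]

/-- right exactness in each degree -/
theorem nonempty_isCokernel
    (h : ∀ p q, Nonempty (IsColimit (CokernelCofork.ofπ ((F.obj (L.X p)).map (S.g.f q))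
      (show (F.obj (L.X p)).map (S.f.f q) ≫ _ = 0 by
        rw [← Functor.map_comp, ← HomologicalComplex.comp_f, S.zero, HomologicalComplex.zero_f,
          Functor.map_zero])))) (n : ℤ) :
    Nonempty (IsColimit (CokernelCofork.ofπ (((S.map (T F L)).map (eval D (ComplexShape.up ℤ) n)).g)
      ((S.map (T F L)).map (eval D (ComplexShape.up ℤ) n)).zero)) := by
  haveI : Epi (((S.map (T F L)).map (eval D (ComplexShape.up ℤ) n)).g) := epi_T_map_f F L S.g
    (fun p q => Cofork.IsColimit.epi (h p q).some) n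
  refine ⟨CokernelCofork.IsColimit.ofπ' _ _ fun {W} k hk => ⟨mapBifunctorDesc fun p q hpq =>
    (CokernelCofork.IsColimit.desc' (h p q).some (ιMapBifunctor L S.X₂ F (ComplexShape.up ℤ) p q n hpq ≫ k)
      ?_).1, ?_⟩⟩
  · exact (ι_T_map_assoc F L S.f p q n hpq k).symm.trans
      ((congrArg (fun t => ιMapBifunctor L S.X₁ F (ComplexShape.up ℤ) p q n hpq ≫ t) hk).trans comp_zero)
  · refine mapBifunctor.hom_ext fun p q hpq => ?_
    refine (ι_T_map_assoc F L S.g p q n hpq _).trans ?_
    rw [ι_mapBifunctorDesc]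
    exact (CokernelCofork.IsColimit.desc' (h p q).some _ _).2

end Exact

end Groth.L00.BifExact

namespace Groth.L00.BifExact

universe v₂

variable {C₁ C₂ D : Type*} [Category C₁] [Category C₂] [Category.{v₂} D]
  [Preadditive C₁] [Abelian C₂] [Abelian D]
  (F : C₁ ⥤ C₂ ⥤ D) [F.Additive] [∀ X, (F.obj X).Additive]
  [∀ (K₁ : CochainComplex C₁ ℤ) (K₂ : CochainComplex C₂ ℤ),
    CochainComplex.HasMapBifunctor K₁ K₂ F]
  (L : CochainComplex C₁ ℤ)
  [∀ n : ℤ, HasColimitsOfShape (Discrete ((ComplexShape.π (ComplexShape.up ℤ) (ComplexShape.up ℤ) (ComplexShape.up ℤ)) ⁻¹' {n})) D]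
  [∀ n : ℤ, (colim : (Discrete ((ComplexShape.π (ComplexShape.up ℤ) (ComplexShape.up ℤ) (ComplexShape.up ℤ)) ⁻¹' {n}) ⥤ D) ⥤ D).PreservesMonomorphisms]

/-- termwise short exactness passes to the total complex -/
theorem shortExact_T (S : ShortComplex (CochainComplex C₂ ℤ))
    (h : ∀ p q, ((S.map (eval C₂ (ComplexShape.up ℤ) q)).map (F.obj (L.X p))).ShortExact) :
    (S.map (T F L)).ShortExact :=
  shortExact_of_degreewise_shortExact _ fun n => by
    have hc := nonempty_isCokernel F L S (fun p q =>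
      ((ShortComplex.exact_and_epi_g_iff_g_is_cokernel _).1 ⟨(h p q).exact, (h p q).epi_g⟩)) n
    obtain ⟨he, hg⟩ := (ShortComplex.exact_and_epi_g_iff_g_is_cokernel _).2 hc
    exact { exact := he, epi_g := hg, mono_f := mono_T_map_f F L S.f (fun p q => (h p q).mono_f) n }

/-- the total complex respects degreewise split short exact sequences -/
theorem shortExact_T_of_splitting (S : ShortComplex (CochainComplex C₂ ℤ))
    (σ : ∀ q, (S.map (eval C₂ (ComplexShape.up ℤ) q)).Splitting) :
    (S.map (T F L)).ShortExact :=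
  shortExact_T F L S fun p q => ((σ q).map (F.obj (L.X p))).shortExact

end Groth.L00.BifExact
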