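import Mathlib.LinearAlgebra.Matrix.Determinant.Basic
import Mathlib.Data.Fin.Tuple.Sort
import Mathlib.Order.Fin.Basic
import Mathlib.Data.Finset.Sort

/-! The Cauchy–Binet formula. -/

set_option autoImplicit false

namespace Groth.L00.CB

open Finset Matrix

variable {R : Type*} [CommRing R]

theorem det_mul_expand {r M : ℕ} (A : Matrix (Fin r) (Fin M) R) (B : Matrix (Fin M) (Fin r) R) :
    (A * B).det = ∑ f : Fin r → Fin M, (∏ i, A i (f i)) * (B.submatrix f id).det := by
  have : (A * B : Matrix (Fin r) (Fin r) R) = fun i => ∑ a, A i a • B a := by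
    funext i j; simp [Matrix.mul_apply]
  rw [this]
  show (Matrix.detRowAlternating (n := Fin r) (R := R)).toMultilinearMap _ = _
  rw [MultilinearMap.map_sum]
  refine Finset.sum_congr rfl fun f _ => ?_
  rw [MultilinearMap.map_smul_univ]
  rfl

theorem det_mul_eq_sum {r M : ℕ} (A : Matrix (Fin r) (Fin M) R) (B : Matrix (Fin M) (Fin r) R) :
    (A * B).det = ∑ s ∈ (univ : Finset (Fin r → Fin M)).filter StrictMono,
      (A.submatrix id s).det * (B.submatrix s id).det := by
  classical
  rw [det_mul_expand]
  rw [← Finset.sum_filter_of_ne (p := Function.Injective) (fun f _ hf => by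
    by_contra hni
    simp only [Function.Injective, not_forall] at hni
    obtain ⟨i, j, hij, hne⟩ := hni
    exact hf (by rw [Matrix.det_zero_of_row_eq hne (by funext l; simp [hij]), mul_zero]))]
  symm
  calc _ = ∑ s ∈ (univ : Finset (Fin r → Fin M)).filter StrictMono, ∑ σ : Equiv.Perm (Fin r),
        (∏ i, A i (s (σ i))) * (B.submatrix (s ∘ σ) id).det := by
        refine Finset.sum_congr rfl fun s _ => ?_
        rw [← Matrix.det_transpose (A.submatrix id s), Matrix.det_apply', Finset.sum_mul]
        refine Finset.sum_congr rfl fun σ _ => ?_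
        rw [show B.submatrix (s ∘ σ) id = (B.submatrix s id).submatrix σ id from rfl, Matrix.det_permute]
        simp only [Matrix.transpose_apply, Matrix.submatrix_apply, id]
        ring
    _ = _ := by
        rw [← Finset.sum_product']
        refine Finset.sum_bij (fun p _ => p.1 ∘ p.2) ?_ ?_ ?_ ?_
        · intro p hp
          simp only [mem_product, mem_filter, mem_univ, true_and, and_true] at hp
          simpa using hp.injective
        · intro p hp q hq h
          simp only [mem_product, mem_filter, mem_univ, true_and, and_true] at hp hq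
          have h1 : p.1 = q.1 := (hp.range_inj hq).mp (by
            rw [← p.2.surjective.range_comp p.1, ← q.2.surjective.range_comp q.1, h])
          refine Prod.ext h1 (Equiv.ext fun i => hp.injective ?_)
          have := congrFun h i
          simpa [h1] using this
        · intro f hf
          simp only [mem_filter, mem_univ, true_and] at hf
          refine ⟨(f ∘ Tuple.sort f, (Tuple.sort f).symm), ?_, ?_⟩
          · simpa using (Tuple.monotone_sort f).strictMono_of_injective (hf.comp (Tuple.sort f).injective)
          · funext i; simp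
        · intro p _; rfl

theorem det_mul_eq_sum_subsets {r M : ℕ} (A : Matrix (Fin r) (Fin M) R) (B : Matrix (Fin M) (Fin r) R) :
    (A * B).det = ∑ s : {s : Finset (Fin M) // s.card = r},
      (A.submatrix id (s.1.orderEmbOfFin s.2)).det * (B.submatrix (s.1.orderEmbOfFin s.2) id).det := by
  classical
  rw [det_mul_eq_sum]
  symm
  refine Finset.sum_bij (fun s _ => ⇑(s.1.orderEmbOfFin s.2)) ?_ ?_ ?_ ?_
  · intro s _; simpa using (s.1.orderEmbOfFin s.2).strictMono
  · intro s _ t _ h
    refine Subtype.ext (Finset.coe_injective ?_)
    rw [← s.1.range_orderEmbOfFin s.2, ← t.1.range_orderEmbOfFin t.2, h]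
  · intro f hf
    simp only [mem_filter, mem_univ, true_and] at hf
    refine ⟨⟨univ.image f, by simp [Finset.card_image_of_injective _ hf.injective]⟩, Finset.mem_univ _, ?_⟩
    exact (Finset.orderEmbOfFin_unique _ (fun x => Finset.mem_image_of_mem f (Finset.mem_univ x)) hf).symm
  · intro s _; rfl

end Groth.L00.CB
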