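/-
Functorial cell attachment: killing the homology of the cone of a map of complexes.
-/
import Mathlib.Algebra.Homology.HomotopyCategory.Pretriangulated
import Mathlib.Algebra.Homology.HomotopyCategory.DegreewiseSplit
import Mathlib.Algebra.Homology.HomologicalComplexLimits
import Mathlib.CategoryTheory.Abelian.Basic
import Mathlib.CategoryTheory.Comma.Arrow

set_option autoImplicit false
set_option backward.isDefEq.respectTransparency false
set_option backward.isDefEq.respectTransparency.types false

open CategoryTheory CategoryTheory.Limits CochainComplex CochainComplex.HomComplex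
open HomologicalComplex (iCycles cyclesMap homologyMap homologyπ)

namespace Groth.L00.Cell

universe v w

variable {C : Type w} [Category.{v} C] [Abelian C]
variable (cov : C ⥤ C) (π : cov ⟶ 𝟭 C)

section Obj

variable {N G : CochainComplex C ℤ} (f : N ⟶ G)

/-- cycles of `N` in degree `m` with a preimage of their image -/
noncomputable def R (m : ℤ) : C := pullback (N.iCycles m ≫ f.f m) (G.d (m - 1) m)

/-- cells -/
noncomputable def P : CochainComplex C ℤ where
  X m := cov.obj (R f m)
  d _ _ := 0
  shape _ _ _ := rfl
  d_comp_d' _ _ _ _ _ := comp_zero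

omit π in
theorem P_d (m n : ℤ) : (P cov f).d m n = 0 := rfl

/-- attaching map -/
noncomputable def φ : P cov f ⟶ N where
  f m := π.app _ ≫ pullback.fst _ _ ≫ N.iCycles m
  comm' m n _ := by
    rw [P_d, zero_comp, Category.assoc, Category.assoc, HomologicalComplex.iCycles_d, comp_zero,
      comp_zero]

/-- the null homotopy -/
noncomputable def α : Cochain (P cov f) G (-1) :=
  Cochain.mk fun p q h =>
    π.app _ ≫ pullback.snd _ _ ≫ (G.XIsoOfEq (show p - 1 = q by omega)).hom

theorem α_eq : δ (-1) 0 (α cov π f) = Cochain.ofHom (φ cov π f ≫ f) := by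
  ext p
  rw [δ_v (-1) 0 (by omega) _ p p (by omega) (p - 1) (p + 1) (by omega) rfl, Cochain.ofHom_v, P_d,
    zero_comp, smul_zero, add_zero]
  simp only [α, Cochain.mk_v, φ, HomologicalComplex.comp_f, HomologicalComplex.XIsoOfEq_rfl,
    Iso.refl_hom, Category.comp_id, Category.assoc]
  exact congrArg (fun k => π.app _ ≫ k) pullback.condition.symm

/-- the new complex -/
noncomputable abbrev next : CochainComplex C ℤ := mappingCone (φ cov π f)

/-- the new map -/
noncomputable abbrev nextMap : next cov π f ⟶ G := mappingCone.desc (φ cov π f) (α cov π f) f (α_eq cov π f)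

theorem incl_nextMap : mappingCone.inr (φ cov π f) ≫ nextMap cov π f = f := by simp [nextMap]

/-- the map of cones -/
noncomputable def coneMap : mappingCone f ⟶ mappingCone (nextMap cov π f) :=
  mappingCone.map f (nextMap cov π f) (mappingCone.inr _) (𝟙 G)
    (by rw [incl_nextMap, Category.comp_id])

/-- attaching cells kills the homology of the cone -/
theorem homologyMap_coneMap [∀ A, Epi (π.app A)] (m : ℤ) :
    homologyMap (coneMap cov π f) m = 0 := by
  let Cf := mappingCone f
  let a : Cf.cycles m ⟶ N.X (m + 1) := Cf.iCycles m ≫ (mappingCone.fst f).1.v m (m + 1) rfl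
  let b : Cf.cycles m ⟶ G.X m := Cf.iCycles m ≫ (mappingCone.snd f).v m m (add_zero m)
  have h1 : a ≫ N.d (m + 1) (m + 2) = 0 := by
    have e : Cf.iCycles m ≫ Cf.d m (m + 1) ≫ (mappingCone.fst f).1.v (m + 1) (m + 2) (by omega) = 0 := by
      rw [HomologicalComplex.iCycles_d_assoc, zero_comp]
    rw [mappingCone.d_fst_v f m (m + 1) (m + 2) rfl (by omega)] at e
    simp only [Preadditive.neg_comp, Preadditive.comp_neg, neg_eq_zero] at e
    simpa [a, Category.assoc] using e
  have h2 : a ≫ f.f (m + 1) + b ≫ G.d m (m + 1) = 0 := by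
    have e : Cf.iCycles m ≫ Cf.d m (m + 1) ≫ (mappingCone.snd f).v (m + 1) (m + 1) (add_zero _) = 0 := by
      rw [HomologicalComplex.iCycles_d_assoc, zero_comp]
    rw [mappingCone.d_snd_v f m (m + 1) rfl] at e
    simpa [a, b, Category.assoc] using e
  let z : Cf.cycles m ⟶ N.cycles (m + 1) := N.liftCycles a (m + 2) (by simp; omega) h1
  let r : Cf.cycles m ⟶ R f (m + 1) :=
    pullback.lift z (-(b ≫ (G.XIsoOfEq (show m = m + 1 - 1 by omega)).hom)) (by
      have : z ≫ N.iCycles (m + 1) = a := N.liftCycles_i a (m + 2) (by simp; omega) h1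
      rw [← Category.assoc, this]
      simp only [Preadditive.neg_comp, Category.assoc, HomologicalComplex.XIsoOfEq_hom_comp_d]
      exact eq_neg_of_add_eq_zero_left h2)
  let e := pullback.fst r (π.app (R f (m + 1)))
  let t : pullback r (π.app (R f (m + 1))) ⟶ (P cov f).X (m + 1) := pullback.snd r (π.app (R f (m + 1)))
  have hφ : t ≫ (φ cov π f).f (m + 1) = e ≫ a := by
    have : t ≫ π.app (R f (m + 1)) = e ≫ r := pullback.condition.symm
    change t ≫ π.app _ ≫ pullback.fst _ _ ≫ N.iCycles _ = _
    rw [← Category.assoc, this, Category.assoc, ← Category.assoc r]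
    simp only [r, pullback.lift_fst]
    exact congrArg (fun k => e ≫ k) (N.liftCycles_i a (m + 2) (by simp; omega) h1)
  have hα : t ≫ (α cov π f).v (m + 1) m (by omega) = -(e ≫ b) := by
    have : t ≫ π.app (R f (m + 1)) = e ≫ r := pullback.condition.symm
    simp only [α, Cochain.mk_v]
    change t ≫ π.app _ ≫ pullback.snd _ _ ≫ _ = _
    rw [← Category.assoc, this, Category.assoc, ← Category.assoc r]
    simp only [r, pullback.lift_snd]
    simp
  let f' := nextMap cov π f
  let Cn := mappingCone f'
  let u : pullback r (π.app (R f (m + 1))) ⟶ Cn.X (m - 1) :=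
    -(t ≫ (mappingCone.inl (φ cov π f)).v (m + 1) m (by omega) ≫ (mappingCone.inl f').v m (m - 1) (by omega))
  have hd : (e ≫ Cf.iCycles m) ≫ (coneMap cov π f).f m = u ≫ Cn.d (m - 1) m := by
    have hid := mappingCone.id_X f m (m + 1) rfl
    conv_lhs => rw [Category.assoc, ← Category.id_comp ((coneMap cov π f).f m), ← hid]
    simp only [u, Preadditive.neg_comp, Category.assoc, Preadditive.add_comp, Preadditive.comp_add,
      coneMap, mappingCone.map, mappingCone.inr_f_desc_f, mappingCone.inl_v_desc_f,
      Cochain.zero_cochain_comp_v, Cochain.ofHom_v, HomologicalComplex.comp_f, HomologicalComplex.id_f]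
    rw [mappingCone.inl_v_d f' m (m - 1) (m + 1) (by omega) (by omega), Preadditive.comp_sub,
      Preadditive.comp_sub, mappingCone.inl_v_desc_f_assoc]
    rw [mappingCone.inl_v_d_assoc (φ cov π f) (m + 1) m (m + 2) (by omega) (by omega)]
    simp only [P_d, zero_comp, sub_zero, Category.id_comp]
    simp only [Category.assoc]
    rw [reassoc_of% hα, reassoc_of% hφ]
    simp only [a, b, Preadditive.neg_comp, Category.assoc]
    abel
  rw [← cancel_epi (Cf.homologyπ m), ← cancel_epi e, comp_zero, comp_zero,
    HomologicalComplex.homologyπ_naturality]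
  have hc : e ≫ cyclesMap (coneMap cov π f) m =
      Cn.liftCycles ((e ≫ Cf.iCycles m) ≫ (coneMap cov π f).f m) (m + 1) (by simp) (by
        rw [hd, Category.assoc, HomologicalComplex.d_comp_d, comp_zero]) := by
    rw [← cancel_mono (Cn.iCycles m), Category.assoc, HomologicalComplex.cyclesMap_i,
      HomologicalComplex.liftCycles_i, Category.assoc]
  rw [← Category.assoc, hc]
  exact Cn.liftCycles_homologyπ_eq_zero_of_boundary _ _ _ (x := u) hd

end Obj

section Func

omit cov π in
theorem comm_XIsoOfEq {A B : CochainComplex C ℤ} (g : A ⟶ B) {i j : ℤ} (h : i = j) :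
    g.f i ≫ (B.XIsoOfEq h).hom = (A.XIsoOfEq h).hom ≫ g.f j := by
  subst h; simp

variable {cov π}

/-- maps of cycles with preimages -/
noncomputable def Rmap {N G N' G' : CochainComplex C ℤ} {f : N ⟶ G} {f' : N' ⟶ G'} (a : N ⟶ N')
    (b : G ⟶ G') (h : a ≫ f' = f ≫ b) (m : ℤ) : R f m ⟶ R f' m :=
  pullback.map _ _ _ _ (cyclesMap a m) (b.f (m - 1)) (b.f m)
    (by rw [Category.assoc, ← HomologicalComplex.comp_f, ← h, HomologicalComplex.comp_f,
      HomologicalComplex.cyclesMap_i_assoc])
    (b.comm _ _).symm

variable (cov π)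

/-- maps of cells -/
noncomputable def Pmap {e e' : Arrow (CochainComplex C ℤ)} (k : e ⟶ e') : P cov e.hom ⟶ P cov e'.hom where
  f m := cov.map (Rmap k.left k.right k.w m)
  comm' _ _ _ := by rw [P_d, P_d, zero_comp, comp_zero]

theorem Pmap_φ {e e' : Arrow (CochainComplex C ℤ)} (k : e ⟶ e') :
    φ cov π e.hom ≫ k.left = Pmap cov k ≫ φ cov π e'.hom := by
  ext m
  simp only [HomologicalComplex.comp_f, φ, Pmap, Category.assoc]
  rw [← Category.assoc (cov.map _), π.naturality, Category.assoc, Functor.id_map]
  refine congrArg (fun t => π.app _ ≫ t) ?_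
  simp [Rmap]

/-- the cell attachment functor -/
noncomputable def step : Arrow (CochainComplex C ℤ) ⥤ CochainComplex C ℤ where
  obj e := next cov π e.hom
  map {e e'} k := mappingCone.map _ _ (Pmap cov k) k.left (Pmap_φ cov π k)
  map_id e := by
    have : Pmap cov (𝟙 e) = 𝟙 _ := by
      ext m
      have : Rmap (f := e.hom) (f' := e.hom) (𝟙 e.left) (𝟙 e.right) (by simp) m = 𝟙 _ := by
        apply pullback.hom_ext <;> simp [Rmap] <;> exact Category.id_comp _
      exact (congrArg cov.map this).trans (cov.map_id _)
    simp only [this, Arrow.id_left]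
    exact mappingCone.map_id _
  map_comp {e e' e''} k l := by
    have : Pmap cov (k ≫ l) = Pmap cov k ≫ Pmap cov l := by
      ext m
      refine Eq.trans (congrArg cov.map ?_) (cov.map_comp _ _)
      apply pullback.hom_ext <;> simp [Rmap, HomologicalComplex.cyclesMap_comp]
    simp only [this, Arrow.comp_left]
    exact mappingCone.map_comp _ _ _ _ _ (Pmap_φ cov π k) _ _ (Pmap_φ cov π l)

/-- the inclusion -/
noncomputable def stepIncl : Arrow.leftFunc ⟶ step cov π where
  app e := mappingCone.inr (φ cov π e.hom)
  naturality e e' k := by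
    dsimp [step, Arrow.leftFunc]
    simp [mappingCone.map]

/-- the augmentation -/
noncomputable def stepAug : step cov π ⟶ Arrow.rightFunc where
  app e := nextMap cov π e.hom
  naturality e e' k := by
    dsimp [step, Arrow.rightFunc]
    ext n
    rw [HomologicalComplex.comp_f, HomologicalComplex.comp_f,
      mappingCone.ext_from_iff _ (n + 1) n rfl]
    refine ⟨?_, ?_⟩
    · simp only [mappingCone.map, mappingCone.inl_v_desc_f_assoc, Cochain.zero_cochain_comp_v,
        Cochain.ofHom_v, Category.assoc, nextMap, mappingCone.inl_v_desc_f, α, Cochain.mk_v, Pmap]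
      rw [← Category.assoc (cov.map _), π.naturality, Category.assoc, Functor.id_map]
      refine congrArg (fun t => π.app _ ≫ t) ?_
      simp [Rmap, comm_XIsoOfEq]
    · simp only [mappingCone.map, mappingCone.inr_f_desc_f_assoc, HomologicalComplex.comp_f,
        Category.assoc, nextMap, mappingCone.inr_f_desc_f]
      exact congrArg (fun t => HomologicalComplex.Hom.f t n) k.w

theorem stepIncl_stepAug : stepIncl cov π ≫ stepAug cov π = Arrow.leftToRight := by
  ext e : 2
  exact incl_nextMap cov π e.hom

end Func

end Groth.L00.Cell
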