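/-
Iterated cell attachment: the colimit is quasi-isomorphic to the target.
-/
import Groth.Agent.L00.Cell
import Mathlib.Algebra.Homology.HomotopyCategory.Acyclic
import Mathlib.Algebra.Homology.HomologicalComplexAbelian
import Mathlib.CategoryTheory.Abelian.GrothendieckAxioms.Colim
import Mathlib.CategoryTheory.Functor.OfSequence
import Mathlib.CategoryTheory.Limits.FunctorCategory.Basic
import Mathlib.CategoryTheory.Abelian.FunctorCategory

set_option autoImplicit false
set_option backward.isDefEq.respectTransparency false
set_option backward.isDefEq.respectTransparency.types false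

open CategoryTheory CategoryTheory.Limits CochainComplex CochainComplex.HomComplex
open HomologicalComplex (eval homologyMap)

namespace Groth.L00.Cell

universe v w

variable {C : Type w} [Category.{v} C] [Abelian C]

/-- a colimit of complexes in which every homology class eventually dies is acyclic -/
theorem isZero_homology_of_isColimit {J : Type*} [Category J]
    [HasColimitsOfShape J C] [HasExactColimitsOfShape J C]
    (K : J ⥤ CochainComplex C ℤ) {c : Cocone K} (hc : IsColimit c) (i : ℤ)
    (h : ∀ j, ∃ (j' : J) (u : j ⟶ j'), homologyMap (K.map u) i = 0) :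
    IsZero (c.pt.homology i) := by
  let S : ShortComplex (J ⥤ C) :=
    ShortComplex.mk (X₁ := K ⋙ eval C (ComplexShape.up ℤ) ((ComplexShape.up ℤ).prev i))
      (X₂ := K ⋙ eval C (ComplexShape.up ℤ) i) (X₃ := K ⋙ eval C (ComplexShape.up ℤ) ((ComplexShape.up ℤ).next i))
      { app := fun j => (K.obj j).d _ i, naturality := fun _ _ f => (K.map f).comm _ _ }
      { app := fun j => (K.obj j).d i _, naturality := fun _ _ f => (K.map f).comm _ _ }
      (by ext j; exact (K.obj j).d_comp_d _ _ _)
  have hz : IsZero ((S.map (colim : (J ⥤ C) ⥤ C)).homology) := by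
    refine IsZero.of_iso ?_ (S.mapHomologyIso (colim : (J ⥤ C) ⥤ C))
    rw [IsZero.iff_id_eq_zero]
    refine colimit.hom_ext fun j => ?_
    obtain ⟨j', u, hu⟩ := h j
    have hm : S.homology.map u = 0 := by
      change ((evaluation J C).map u).app S.homology = 0
      rw [NatTrans.app_homology]
      have : ShortComplex.homologyMap (S.mapNatTrans ((evaluation J C).map u)) = 0 := hu
      rw [this, zero_comp, comp_zero]
    rw [comp_zero]
    refine (Category.comp_id _).trans ?_
    rw [← colimit.w S.homology u, hm, zero_comp]
  have hp := fun n => isColimitOfPreserves (eval C (ComplexShape.up ℤ) n) hc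
  refine hz.of_iso (ShortComplex.homologyMapIso (ShortComplex.isoMk
    ((hp _).coconePointUniqueUpToIso (colimit.isColimit _))
    ((hp _).coconePointUniqueUpToIso (colimit.isColimit _))
    ((hp _).coconePointUniqueUpToIso (colimit.isColimit _))
    ((hp _).hom_ext fun j => ?_) ((hp _).hom_ext fun j => ?_)))
  · erw [IsColimit.comp_coconePointUniqueUpToIso_hom_assoc]
    dsimp
    erw [ι_colimMap]
    rw [← Category.assoc]
    erw [(c.ι.app j).comm]
    rw [Category.assoc]
    exact congrArg (fun t => _ ≫ t) (IsColimit.comp_coconePointUniqueUpToIso_hom (hp _) _ j).symm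
  · erw [IsColimit.comp_coconePointUniqueUpToIso_hom_assoc]
    dsimp
    erw [ι_colimMap]
    rw [← Category.assoc]
    erw [(c.ι.app j).comm]
    rw [Category.assoc]
    exact congrArg (fun t => _ ≫ t) (IsColimit.comp_coconePointUniqueUpToIso_hom (hp _) _ j).symm

/-- a map with acyclic cone is a quasi-isomorphism -/
theorem quasiIso_of_acyclic_cone {N G : CochainComplex C ℤ} (f : N ⟶ G)
    (h : ∀ n, IsZero ((mappingCone f).homology n)) : QuasiIso f := by
  have := ObjectProperty.trW.mk (HomotopyCategory.subcategoryAcyclic C)
    (HomotopyCategory.mappingCone_triangleh_distinguished f)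
    ((HomotopyCategory.quotient_obj_mem_subcategoryAcyclic_iff_exactAt (mappingCone f)).2
      fun n => (HomologicalComplex.exactAt_iff_isZero_homology _ _).2 (h n))
  rw [← HomotopyCategory.quasiIso_eq_trW_subcategoryAcyclic] at this
  have h2 := (HomotopyCategory.quotient_map_mem_quasiIso_iff f).1 this
  rwa [HomologicalComplex.mem_quasiIso_iff] at h2

section ConeColim

variable {K : ℕ ⥤ CochainComplex C ℤ} {G : CochainComplex C ℤ} (q : ∀ k, K.obj k ⟶ G)
  (hq : ∀ {k l} (u : k ⟶ l), K.map u ≫ q l = q k)

/-- the system of cones -/
noncomputable def coneSys : ℕ ⥤ CochainComplex C ℤ where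
  obj k := mappingCone (q k)
  map {k l} u := mappingCone.map _ _ (K.map u) (𝟙 G) (by rw [Category.comp_id, hq])
  map_id k := by
    simp only [CategoryTheory.Functor.map_id]
    exact mappingCone.map_id _
  map_comp {k l m} u v := by
    rw [← mappingCone.map_comp]
    simp only [CategoryTheory.Functor.map_comp, Category.comp_id]

variable {c : Cocone K} (qq : c.pt ⟶ G) (hqq : ∀ k, c.ι.app k ≫ qq = q k)

/-- the cocone of cones -/
noncomputable def coneCocone : Cocone (coneSys q hq) where
  pt := mappingCone qq
  ι :=
    { app := fun k => mappingCone.map _ _ (c.ι.app k) (𝟙 G) (by rw [Category.comp_id, hqq])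
      naturality := fun k l u => by
        dsimp [coneSys]
        rw [← mappingCone.map_comp]
        simp only [c.w, Category.comp_id] }

/-- the cone commutes with the colimit -/
noncomputable def isColimitConeCocone (hc : IsColimit c) [HasColimitsOfShape ℕ C] :
    IsColimit (coneCocone q hq qq hqq) :=
  HomologicalComplex.isColimitOfEval _ _ fun n => by
    have hp := isColimitOfPreserves (eval C (ComplexShape.up ℤ) (n + 1)) hc
    have hw : ∀ (s : Cocone (coneSys q hq ⋙ eval C (ComplexShape.up ℤ) n)) {k l : ℕ} (u : k ⟶ l),
        (mappingCone.map (q k) (q l) (K.map u) (𝟙 G) (by rw [Category.comp_id, hq])).f n ≫ s.ι.app l =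
          s.ι.app k := fun s {k l} u => s.w u
    let sa : ∀ (s : Cocone (coneSys q hq ⋙ eval C (ComplexShape.up ℤ) n)),
        Cocone (K ⋙ eval C (ComplexShape.up ℤ) (n + 1)) := fun s =>
      { pt := s.pt
        ι :=
          { app := fun k => (mappingCone.inl (q k)).v (n + 1) n (by omega) ≫ s.ι.app k
            naturality := fun k l u => by
              dsimp
              rw [Category.comp_id]
              conv_rhs => rw [← hw s u, ← Category.assoc]
              simp [mappingCone.map] } }
    refine
      { desc := fun s => ((mappingCone.fst qq).1.v n (n + 1) rfl ≫ hp.desc (sa s) :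
            (mappingCone qq).X n ⟶ s.pt) +
          ((mappingCone.snd qq).v n n (add_zero n) ≫ (mappingCone.inr (q 0)).f n ≫ s.ι.app 0 :
            (mappingCone qq).X n ⟶ s.pt)
        fac := fun s k => ?_
        uniq := fun s m hm => ?_ }
    · change (mappingCone.map (q k) qq (c.ι.app k) (𝟙 G) (by rw [Category.comp_id, hqq])).f n ≫ _ = _
      refine mappingCone.ext_from (q k) (n + 1) n rfl ?_ ?_
      · rw [← Category.assoc]
        simp [mappingCone.map]
        exact hp.fac (sa s) k
      · have h0 := congrArg (fun t => (mappingCone.inr (q 0)).f n ≫ t) (hw s (homOfLE (Nat.zero_le k)))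
        simp [mappingCone.map] at h0
        rw [← Category.assoc]
        simp [mappingCone.map, h0]
    · refine mappingCone.ext_from qq (n + 1) n rfl ?_ ?_
      · refine hp.hom_ext fun k => ?_
        simp
        refine Eq.trans ?_ (hp.fac (sa s) k).symm
        change _ = (mappingCone.inl (q k)).v (n + 1) n (by omega) ≫ s.ι.app k
        rw [← hm k]
        simp [coneCocone, mappingCone.map]
      · simp
        rw [← hm 0]
        simp [coneCocone, mappingCone.map]

end ConeColim

section Tower

variable (cov : C ⥤ C) (π : cov ⟶ 𝟭 C)

/-- augmented functorial complexes -/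
abbrev Aug (C : Type w) [Category.{v} C] [Abelian C] :=
  Over (Arrow.rightFunc : Arrow (CochainComplex C ℤ) ⥤ CochainComplex C ℤ)

/-- the arrows of an augmented functor -/
noncomputable def arrowOf (A : Aug C) : Arrow (CochainComplex C ℤ) ⥤ Arrow (CochainComplex C ℤ) where
  obj e := Arrow.mk (A.hom.app e)
  map {e e'} k := Arrow.homMk (A.left.map k) k.right (A.hom.naturality k)

/-- one step -/
noncomputable def stepAug' (A : Aug C) : Aug C :=
  Over.mk (Y := arrowOf A ⋙ step cov π)
    (({ app := fun e => (stepAug cov π).app ((arrowOf A).obj e)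
        naturality := fun e e' k => (stepAug cov π).naturality ((arrowOf A).map k) } :
      arrowOf A ⋙ step cov π ⟶ Arrow.rightFunc))

/-- inclusion of one step -/
noncomputable def stepHom (A : Aug C) : A ⟶ stepAug' cov π A :=
  Over.homMk
    ({ app := fun e => (stepIncl cov π).app ((arrowOf A).obj e)
       naturality := fun e e' k => (stepIncl cov π).naturality ((arrowOf A).map k) } :
      A.left ⟶ arrowOf A ⋙ step cov π)
    (by ext e : 2; exact incl_nextMap cov π (A.hom.app e))

/-- the start -/
noncomputable def aug₀ : Aug C := Over.mk (Y := Arrow.leftFunc) Arrow.leftToRight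

/-- the stages -/
noncomputable def stage : ℕ → Aug C
  | 0 => aug₀
  | k + 1 => stepAug' cov π (stage k)

/-- the tower -/
noncomputable def tower : ℕ ⥤ Aug C := Functor.ofSequence fun k => stepHom cov π (stage cov π k)

theorem tower_map_succ (k : ℕ) :
    (tower cov π).map (homOfLE (Nat.le_add_right k 1)) = stepHom cov π (stage cov π k) :=
  Functor.ofSequence_map_homOfLE_succ _ k

variable [HasColimitsOfShape ℕ C]

/-- the underlying tower of functors -/
noncomputable abbrev towerF : ℕ ⥤ Arrow (CochainComplex C ℤ) ⥤ CochainComplex C ℤ :=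
  tower cov π ⋙ Over.forget _

/-- the resolution functor -/
noncomputable def res : Arrow (CochainComplex C ℤ) ⥤ CochainComplex C ℤ := colimit (towerF cov π)

/-- from the source -/
noncomputable def resIn : Arrow.leftFunc ⟶ res cov π := colimit.ι (towerF cov π) 0

/-- to the target -/
noncomputable def resOut : res cov π ⟶ Arrow.rightFunc :=
  colimit.desc (towerF cov π)
    { pt := Arrow.rightFunc
      ι := { app := fun k => ((tower cov π).obj k).hom
             naturality := fun k l u => (Over.w ((tower cov π).map u)).trans (Category.comp_id _).symm } }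

theorem resIn_resOut : resIn cov π ≫ resOut cov π = Arrow.leftToRight := colimit.ι_desc _ _

/-- colimit cocone of one value -/
noncomputable def resCocone (e : Arrow (CochainComplex C ℤ)) :
    Cocone (towerF cov π ⋙ (evaluation _ _).obj e) :=
  ((evaluation _ _).obj e).mapCocone (colimit.cocone (towerF cov π))

/-- it is colimit -/
noncomputable def isColimitResCocone (e : Arrow (CochainComplex C ℤ)) : IsColimit (resCocone cov π e) :=
  isColimitOfPreserves _ (colimit.isColimit _)

/-- induction along the tower -/
theorem res_induction (e : Arrow (CochainComplex C ℤ)) (Q : CochainComplex C ℤ → Prop)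
    (h0 : Q e.left) (hstep : ∀ {N : CochainComplex C ℤ} (f : N ⟶ e.right), Q N → Q (next cov π f))
    (hcol : ∀ (K : ℕ ⥤ CochainComplex C ℤ) (c : Cocone K), IsColimit c → (∀ k, Q (K.obj k)) → Q c.pt) :
    Q ((res cov π).obj e) := by
  have hk : ∀ k : ℕ, Q ((stage cov π k).left.obj e) := fun k => by
    induction k with
    | zero => exact h0
    | succ k ih => exact hstep _ ih
  exact hcol _ _ (isColimitResCocone cov π e) hk

theorem quasiIso_resOut [HasExactColimitsOfShape ℕ C] [∀ A, Epi (π.app A)]
    (e : Arrow (CochainComplex C ℤ)) : QuasiIso ((resOut cov π).app e) := by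
  refine quasiIso_of_acyclic_cone _ fun n => ?_
  have hq : ∀ {k l : ℕ} (u : k ⟶ l), (towerF cov π ⋙ (evaluation _ _).obj e).map u ≫
      ((tower cov π).obj l).hom.app e = ((tower cov π).obj k).hom.app e := fun u =>
    congrArg (fun t => NatTrans.app t e) (Over.w ((tower cov π).map u))
  have hqq : ∀ k, (resCocone cov π e).ι.app k ≫ (resOut cov π).app e =
      ((tower cov π).obj k).hom.app e := fun k =>
    NatTrans.congr_app (colimit.ι_desc _ k) e
  refine isZero_homology_of_isColimit _
    (isColimitConeCocone _ hq _ hqq (isColimitResCocone cov π e)) n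
    fun k => ⟨k + 1, homOfLE (Nat.le_add_right k 1), ?_⟩
  refine Eq.trans ?_ (homologyMap_coneMap cov π (((tower cov π).obj k).hom.app e) n)
  refine congrArg (fun t => homologyMap t n) ?_
  dsimp only [coneSys, coneMap]
  congr 1
  exact congrArg (fun t => t.left.app e) (tower_map_succ cov π k)

end Tower

end Groth.L00.Cell
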