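import Groth.Agent.L10.ClassRes
import Mathlib.Algebra.Homology.CochainComplexOpposite
import Mathlib.Algebra.Homology.ShortComplex.Abelian

/-! Left resolutions of bounded above complexes by a class of objects (dual of `ClassRes.exists_res`). -/

universe v u

open CategoryTheory CategoryTheory.Limits Opposite

set_option backward.defeqAttrib.useBackward true
set_option backward.isDefEq.respectTransparency false
namespace Groth.L00.ClassResLeft

variable {A : Type u} [Category.{v} A] [Abelian A]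

/-- A bounded above complex receives a degreewise epimorphic quasi-isomorphism from a complex of the class. -/
theorem exists_res (P : A → Prop) (hP0 : ∃ Z : A, IsZero Z ∧ P Z)
    (hP : ∀ X : A, ∃ (Y : A) (π : Y ⟶ X), P Y ∧ Epi π) (K : CochainComplex A ℤ) (a : ℤ)
    [K.IsStrictlyLE a] :
    ∃ (Q : CochainComplex A ℤ) (α : Q ⟶ K), Q.IsStrictlyLE a ∧ (∀ n, P (Q.X n)) ∧
      (∀ n, Epi (α.f n)) ∧ QuasiIso α := by
  let Kop := (CochainComplex.opEquivalence A).functor.obj (op K)
  have hKop : Kop.IsStrictlyGE (-a) := (CochainComplex.isStrictlyGE_iff _ _).2 fun i hi =>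
    (K.isZero_of_isStrictlyLE a (-i) (by omega)).op
  obtain ⟨Z, hZ, hPZ⟩ := hP0
  have hI : ∀ X : Aᵒᵖ, ∃ (Y : Aᵒᵖ) (ι : X ⟶ Y), P Y.unop ∧ Mono ι := fun X => by
    obtain ⟨Y, π, hY, hπ⟩ := hP X.unop
    exact ⟨op Y, π.op, hY, inferInstance⟩
  obtain ⟨L, α, hL, hPL, hm, hq⟩ := Groth.L10.ClassRes.exists_res (fun Y : Aᵒᵖ => P Y.unop) hI
    ⟨op Z, hZ.op, hPZ⟩ Kop (-a)
  let Q : CochainComplex A ℤ :=
    { X := fun n => (L.X (-n)).unop
      d := fun i j => (L.d (-j) (-i)).unop
      shape := fun i j h => by rw [L.shape _ _ (fun h' => h (by simp at h' ⊢; omega))]; rfl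
      d_comp_d' := fun i j k _ _ => by rw [← unop_comp, L.d_comp_d]; rfl }
  have hd : ∀ i j, Kop.d i j = (K.d (-j) (-i)).op := fun i j => rfl
  let β : Q ⟶ K :=
    { f := fun n => (α.f (-n)).unop ≫ (K.XIsoOfEq (neg_neg n)).hom
      comm' := fun i j _ => by
        have h := congrArg Quiver.Hom.unop (α.comm (-j) (-i))
        rw [hd, unop_comp, unop_comp, Quiver.Hom.unop_op] at h
        rw [Category.assoc, HomologicalComplex.XIsoOfEq_hom_comp_d]
        change _ = (L.d (-j) (-i)).unop ≫ _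
        rw [reassoc_of% h, HomologicalComplex.d_comp_XIsoOfEq_hom] }
  refine ⟨Q, β, (CochainComplex.isStrictlyLE_iff _ _).2 fun i hi => ?_, fun n => hPL (-n), fun n => ?_, ?_⟩
  · exact (L.isZero_of_isStrictlyGE (-a) (-i) (by omega)).unop
  · have := hm (-n)
    exact epi_comp _ _
  · refine ⟨fun n => ?_⟩
    rw [quasiIsoAt_iff' β (n - 1) n (n + 1) (by simp) (by simp), ← ShortComplex.quasiIso_opMap_iff]
    have hq' : QuasiIsoAt α (-n) := inferInstance
    rw [quasiIsoAt_iff' α (-(n + 1)) (-n) (-(n - 1)) (by simp; omega) (by simp; omega)] at hq'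
    refine ShortComplex.quasiIso_of_arrow_mk_iso
      ((HomologicalComplex.shortComplexFunctor' Aᵒᵖ (.up ℤ) (-(n + 1)) (-n) (-(n - 1))).map α) _
      (Arrow.isoMk ?_ (ShortComplex.isoMk (Iso.refl _) (Iso.refl _) (Iso.refl _) (by simp [Q]) (by simp [Q])) ?_)
    · refine ShortComplex.isoMk (K.XIsoOfEq (neg_neg (n + 1))).symm.op (K.XIsoOfEq (neg_neg n)).symm.op
        (K.XIsoOfEq (neg_neg (n - 1))).symm.op ?_ ?_
      · simp [hd, ← op_comp, Kop]
      · simp [hd, ← op_comp, Kop]
    · ext <;> simp [β, ← op_comp]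

end Groth.L00.ClassResLeft
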