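import Groth.Agent.L28.Elt
import Mathlib.CategoryTheory.Abelian.GrothendieckAxioms.Connected
import Mathlib.CategoryTheory.Abelian.GrothendieckAxioms.Colim
import Mathlib.CategoryTheory.Abelian.GrothendieckCategory.Basic
import Mathlib.CategoryTheory.Generator.Basic
import Mathlib.CategoryTheory.Limits.Preserves.Limits
import Mathlib.CategoryTheory.Adjunction.FullyFaithful
import Mathlib.CategoryTheory.Adjunction.Limits
import Mathlib.CategoryTheory.Functor.ReflectsIso.Balanced

/-!
Abelian categories with a faithful exact left adjoint functor to an AB5 category, whose right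
adjoint preserves filtered colimits: AB5, covering by pulled back subobjects, noetherian objects,
separators.
-/

set_option autoImplicit false

universe w u₁ u₂

open CategoryTheory CategoryTheory.Limits

attribute [local instance] IsFiltered.isConnected

namespace Groth.L00.Comonadic

section Cover

variable {B : Type u₂} [Category.{w} B] [Abelian B] [HasColimitsOfSize.{w, w} B] {ι : Type w}

/-- The sup of the images of a finite set of maps. -/
noncomputable def span (s : ι → B) (X : B) (S : Finset (Σ i, (s i ⟶ X))) : Subobject X :=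
  S.sup fun p => imageSubobject p.2

theorem span_mono (s : ι → B) (X : B) : Monotone (span s X) := fun _ _ h => Finset.sup_mono h

theorem noetherian_sup {X : B} (S T : Subobject X) [IsNoetherianObject (S : B)]
    [IsNoetherianObject (T : B)] : IsNoetherianObject ((S ⊔ T : Subobject X) : B) := by
  let sc := ShortComplex.mk (biprod.inl : (S : B) ⟶ (S : B) ⊞ (T : B)) biprod.snd biprod.inl_snd
  have hsc : sc.ShortExact := (ShortComplex.Splitting.ofHasBinaryBiproduct _ _).shortExact
  have : IsNoetherianObject ((S : B) ⊞ (T : B)) :=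
    L28.Elt.noetherian_of_exact biprod.inl biprod.snd ((L28.Elt.exact_iff sc).1 hsc.exact)
  have : Epi (biprod.desc (Subobject.ofLE S (S ⊔ T) le_sup_left) (Subobject.ofLE T (S ⊔ T) le_sup_right)) := by
    rw [L28.Elt.epi_iff]
    intro y
    obtain ⟨a, ⟨a', rfl⟩, b, ⟨b', rfl⟩, hab⟩ :=
      (L28.Elt.mem_sup S T (L28.Elt.ev (S ⊔ T).arrow y)).1 ⟨y, rfl⟩
    refine ⟨L28.Elt.ev biprod.inl a' + L28.Elt.ev biprod.inr b', L28.Elt.inj (S ⊔ T).arrow ?_⟩
    rw [map_add, map_add, ← hab]
    simp [← L28.Elt.ev_comp]
  exact L28.Elt.noetherian_of_epi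
    (biprod.desc (Subobject.ofLE S (S ⊔ T) le_sup_left) (Subobject.ofLE T (S ⊔ T) le_sup_right))

theorem noetherian_span (s : ι → B) (hs : ∀ i, IsNoetherianObject (s i)) (X : B)
    (S : Finset (Σ i, (s i ⟶ X))) : IsNoetherianObject (span s X S : B) := by
  classical
  induction S using Finset.induction_on with
  | empty => exact isNoetherianObject_of_isZero ((isZero_zero B).of_iso Subobject.botCoeIsoZero)
  | insert a S _ ih =>
    have := hs a.1
    have : IsNoetherianObject (imageSubobject a.2 : B) :=
      L28.Elt.noetherian_of_epi (factorThruImageSubobject a.2)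
    rw [span, Finset.sup_insert]
    have : IsNoetherianObject (span s X S : B) := ih
    exact noetherian_sup (imageSubobject a.2) (span s X S)

/-- Any object of an AB5 category with a separating family is the filtered colimit of the spans of
finite sets of maps from the family. -/
theorem isColimit_span [AB5OfSize.{w, w} B] (s : ι → B)
    (hsep : ∀ ⦃X Y : B⦄ (f g : X ⟶ Y), (∀ (i : ι) (h : s i ⟶ X), h ≫ f = h ≫ g) → f = g) (X : B) :
    Nonempty (IsColimit (Cocone.mk (F := (span_mono s X).functor ⋙ Subobject.underlying) X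
      { app := fun S => (span s X S).arrow
        naturality := fun S T h => (Subobject.ofLE_arrow _).trans (Category.comp_id _).symm })) := by
  classical
  let H := (span_mono s X).functor ⋙ Subobject.underlying
  let c : Cocone H := Cocone.mk X
    { app := fun S => (span s X S).arrow
      naturality := fun S T h => (Subobject.ofLE_arrow _).trans (Category.comp_id _).symm }
  let f := colimit.desc H c
  have : Mono f := by
    have : Mono c.ι := by
      have : ∀ S, Mono (c.ι.app S) := fun S => inferInstanceAs (Mono (span s X S).arrow)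
      exact NatTrans.mono_of_mono_app _
    exact colim.map_mono' c.ι (colimit.isColimit H) (isColimitConstCocone _ X) f
      (fun j => (colimit.ι_desc c j).trans (Category.comp_id _).symm)
  have : Epi f := by
    rw [Preadditive.epi_iff_cancel_zero]
    intro Z g hg
    refine hsep g 0 fun i h => ?_
    let S : Finset (Σ i, (s i ⟶ X)) := {⟨i, h⟩}
    have e : (span s X S).Factors h :=
      Subobject.factors_of_le _ (Finset.le_sup (f := fun p : Σ i, (s i ⟶ X) => imageSubobject p.2)
          (show (⟨i, h⟩ : Σ i, (s i ⟶ X)) ∈ S from Finset.mem_singleton_self _))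
        ((Subobject.factors_iff _ _).2 ⟨factorThruImageSubobject h, imageSubobject_arrow_comp h⟩)
    have hS : (span s X S).arrow = colimit.ι H S ≫ f := (colimit.ι_desc c S).symm
    have hz : (span s X S).arrow ≫ g = 0 := by
      rw [hS]; exact (Category.assoc _ _ _).trans ((congrArg (colimit.ι H S ≫ ·) hg).trans comp_zero)
    rw [comp_zero, ← (span s X S).factorThru_arrow h e, Category.assoc, hz, comp_zero]
  have : IsIso f := isIso_of_mono_of_epi f
  exact ⟨IsColimit.ofPointIso (i := this) (colimit.isColimit H)⟩

end Cover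

variable {A : Type u₁} [Category.{w} A] [Abelian A] [HasColimitsOfSize.{w, w} A]
  {B : Type u₂} [Category.{w} B] [Abelian B] [HasColimitsOfSize.{w, w} B]
  (F : A ⥤ B) (G : B ⥤ A) (adj : F ⊣ G)

include adj in
theorem ab5 [AB5OfSize.{w, w} B] [F.Faithful] [PreservesFiniteLimits F] : AB5OfSize.{w, w} A := by
  refine ⟨fun J _ _ => ⟨⟨fun K _ _ => ?_⟩⟩⟩
  have : PreservesColimitsOfSize.{w, w} F := adj.leftAdjoint_preservesColimits
  have : F.ReflectsIsomorphisms := inferInstance
  have : ReflectsLimitsOfShape K F := reflectsLimitsOfShape_of_reflectsIsomorphisms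
  have : PreservesLimitsOfShape K (colim (J := J) (C := A) ⋙ F) :=
    preservesLimitsOfShape_of_natIso (preservesColimitNatIso F).symm
  exact preservesLimitsOfShape_of_reflects_of_preserves colim F

/-- The map on subobjects induced by a faithful exact functor is injective. -/
noncomputable def subMap [PreservesFiniteLimits F] (a : A) (S : Subobject a) : Subobject (F.obj a) :=
  Subobject.mk (F.map S.arrow)

theorem subMap_le_iff [F.Additive] [F.Faithful] [PreservesFiniteLimits F] (a : A) (S T : Subobject a) :
    subMap F a S ≤ subMap F a T ↔ S ≤ T := by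
  constructor
  · intro h
    have h1 : S.arrow ≫ cokernel.π T.arrow = 0 := by
      refine F.map_injective ?_
      rw [F.map_comp, ← Subobject.ofMkLEMk_comp h, Category.assoc, ← F.map_comp, cokernel.condition,
        F.map_zero, comp_zero, F.map_zero]
    exact Subobject.le_of_comm (Abelian.monoLift T.arrow S.arrow h1) (Abelian.monoLift_comp _ _ _)
  · intro h
    exact Subobject.mk_le_mk_of_comm (F.map (Subobject.ofLE S T h)) (by rw [← F.map_comp, Subobject.ofLE_arrow])

theorem subMap_injective [F.Additive] [F.Faithful] [PreservesFiniteLimits F] (a : A) :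
    Function.Injective (subMap F a) := fun S T h =>
  le_antisymm ((subMap_le_iff F a S T).1 h.le) ((subMap_le_iff F a T S).1 h.ge)

theorem noetherian_of_map [F.Additive] [F.Faithful] [PreservesFiniteLimits F] (a : A)
    [IsNoetherianObject (F.obj a)] : IsNoetherianObject a := by
  rw [isNoetherianObject_iff_monotone_chain_condition]
  intro f
  obtain ⟨n, hn⟩ := monotone_chain_condition_of_isNoetherianObject
    (⟨fun i => subMap F a (f i), fun i j h => (subMap_le_iff F a _ _).2 (f.2 h)⟩ : ℕ →o Subobject (F.obj a))
  exact ⟨n, fun m hm => subMap_injective F a (hn m hm)⟩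

section Pulled

variable {J : Type w} [SmallCategory J] [IsFiltered J] {a : A} {H : J ⥤ B} {c : Cocone H}
  (φ : F.obj a ⟶ c.pt)

/-- The part of `a` lying over the `j`-th stage of a colimit presentation of `F.obj a`. -/
noncomputable abbrev piece (j : J) : A :=
  pullback (G.map (c.ι.app j)) (adj.homEquiv a c.pt φ)

noncomputable abbrev pieceι (j : J) : piece F G adj φ j ⟶ a := pullback.snd _ _

noncomputable abbrev pieceMap (j : J) : F.obj (piece F G adj φ j) ⟶ H.obj j :=
  (adj.homEquiv _ _).symm (pullback.fst _ _)

theorem pieceMap_comp (j : J) :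
    pieceMap F G adj φ j ≫ c.ι.app j = F.map (pieceι F G adj φ j) ≫ φ := by
  rw [← adj.homEquiv_naturality_right_symm, pullback.condition, adj.homEquiv_naturality_left_symm]
  exact congrArg (F.map (pieceι F G adj φ j) ≫ ·) ((adj.homEquiv a c.pt).symm_apply_apply φ)

include adj in
theorem mono_pieceMap [PreservesFiniteLimits F] [∀ j, Mono (c.ι.app j)] [Mono φ] (j : J) :
    Mono (pieceMap F G adj φ j) := by
  have : PreservesLimitsOfSize.{0, 0} G := adj.rightAdjoint_preservesLimits
  have : Mono (pieceι F G adj φ j) := inferInstance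
  exact mono_of_mono_fac (pieceMap_comp F G adj φ j)

theorem hom_ext_pieces [AB5OfSize.{w, w} A] [PreservesColimitsOfShape J G] (hc : IsColimit c)
    [F.Faithful] [Mono φ] {Y : A} (f g : a ⟶ Y)
    (h : ∀ j, pieceι F G adj φ j ≫ f = pieceι F G adj φ j ≫ g) : f = g := by
  have hm : Mono (adj.homEquiv a c.pt φ) := by
    rw [Adjunction.homEquiv_unit]
    have : PreservesLimitsOfSize.{0, 0} G := adj.rightAdjoint_preservesLimits
    infer_instance
  refine ((isColimitOfPreserves G hc).pullbackOfHasExactColimitsOfShape
    (adj.homEquiv a c.pt φ)).hom_ext fun j => ?_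
  rw [← cancel_epi (pullbackObjIso _ _ _).inv]
  simpa using! h j

/-- A noetherian object is a piece. -/
theorem exists_isIso_piece [AB5OfSize.{w, w} A] [PreservesColimitsOfShape J G] (hc : IsColimit c)
    [F.Faithful] [PreservesFiniteLimits F] [∀ j, Mono (c.ι.app j)] [Mono φ]
    [IsNoetherianObject a] : ∃ j, IsIso (pieceι F G adj φ j) := by
  have : PreservesLimitsOfSize.{0, 0} G := adj.rightAdjoint_preservesLimits
  let T : Set (Subobject a) := Set.range fun j => Subobject.mk (pieceι F G adj φ j)
  have hT : T.Nonempty := ⟨_, IsFiltered.nonempty.some, rfl⟩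
  obtain ⟨m, ⟨j₀, rfl⟩, hmax⟩ := (wellFounded_gt (α := Subobject a)).has_min T hT
  refine ⟨j₀, ?_⟩
  have : Epi (pieceι F G adj φ j₀) := by
    rw [Preadditive.epi_iff_cancel_zero]
    intro Z g hg
    refine hom_ext_pieces F G adj φ hc g 0 fun j => ?_
    have le : ∀ (i k : J) (u : i ⟶ k),
        Subobject.mk (pieceι F G adj φ i) ≤ Subobject.mk (pieceι F G adj φ k) := fun i k u =>
      Subobject.mk_le_mk_of_comm
        (pullback.lift (pullback.fst _ _ ≫ G.map (H.map u)) (pullback.snd _ _)
          (by rw [Category.assoc, ← G.map_comp, c.w, pullback.condition]))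
        (pullback.lift_snd _ _ _)
    let k := IsFiltered.max j j₀
    have hk : Subobject.mk (pieceι F G adj φ k) = Subobject.mk (pieceι F G adj φ j₀) :=
      ((le _ _ (IsFiltered.rightToMax j j₀)).eq_or_lt.resolve_right (hmax _ ⟨k, rfl⟩)).symm
    rw [← Subobject.ofMkLEMk_comp ((le _ _ (IsFiltered.leftToMax j j₀)).trans hk.le), Category.assoc,
      hg, comp_zero, comp_zero]
  exact isIso_of_mono_of_epi _

end Pulled

variable {F G} [F.Additive] [F.Faithful] [PreservesFiniteLimits F]
  [PreservesFilteredColimitsOfSize.{w, w} G] [AB5OfSize.{w, w} B] {ι : Type w} (s : ι → B)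
  (hsep : ∀ ⦃X Y : B⦄ (f g : X ⟶ Y), (∀ (i : ι) (h : s i ⟶ X), h ≫ f = h ≫ g) → f = g)

include adj hsep in
theorem noetherian_map (hs : ∀ i, IsNoetherianObject (s i)) (a : A) [IsNoetherianObject a] :
    IsNoetherianObject (F.obj a) := by
  classical
  have := ab5 F G adj
  obtain ⟨hc⟩ := isColimit_span s hsep (F.obj a)
  let c : Cocone ((span_mono s (F.obj a)).functor ⋙ Subobject.underlying) := Cocone.mk (F.obj a)
    { app := fun S => (span s (F.obj a) S).arrow
      naturality := fun S T h => (Subobject.ofLE_arrow _).trans (Category.comp_id _).symm }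
  have : ∀ j, Mono (c.ι.app j) := fun j => inferInstanceAs (Mono (span s (F.obj a) j).arrow)
  obtain ⟨j, hj⟩ := exists_isIso_piece F G adj (c := c) (𝟙 (F.obj a)) hc
  have := noetherian_span s hs (F.obj a) j
  have : IsNoetherianObject (((span_mono s (F.obj a)).functor ⋙ Subobject.underlying).obj j) := this
  have := mono_pieceMap F G adj (c := c) (𝟙 (F.obj a)) j
  exact isNoetherianObject_of_mono
    (inv (F.map (pieceι F G adj (c := c) (𝟙 (F.obj a)) j)) ≫ pieceMap F G adj (c := c) (𝟙 (F.obj a)) j)

include adj hsep in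
/-- Noetherian subobjects are jointly epimorphic. -/
theorem hom_ext_noetherian (hs : ∀ i, IsNoetherianObject (s i)) {a Y : A} (f g : a ⟶ Y)
    (h : ∀ (S : Subobject a), IsNoetherianObject (S : A) → S.arrow ≫ f = S.arrow ≫ g) : f = g := by
  classical
  have := ab5 F G adj
  have : PreservesLimitsOfSize.{0, 0} G := adj.rightAdjoint_preservesLimits
  obtain ⟨hc⟩ := isColimit_span s hsep (F.obj a)
  let c : Cocone ((span_mono s (F.obj a)).functor ⋙ Subobject.underlying) := Cocone.mk (F.obj a)
    { app := fun S => (span s (F.obj a) S).arrow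
      naturality := fun S T h => (Subobject.ofLE_arrow _).trans (Category.comp_id _).symm }
  have : ∀ j, Mono (c.ι.app j) := fun j => inferInstanceAs (Mono (span s (F.obj a) j).arrow)
  refine hom_ext_pieces F G adj (c := c) (𝟙 (F.obj a)) hc f g fun j => ?_
  let P := piece F G adj (c := c) (𝟙 (F.obj a)) j
  have : IsNoetherianObject (((span_mono s (F.obj a)).functor ⋙ Subobject.underlying).obj j) :=
    noetherian_span s hs (F.obj a) j
  have := mono_pieceMap F G adj (c := c) (𝟙 (F.obj a)) j
  have := isNoetherianObject_of_mono (pieceMap F G adj (c := c) (𝟙 (F.obj a)) j)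
  have : IsNoetherianObject P := noetherian_of_map F P
  have : IsNoetherianObject (Subobject.mk (pieceι F G adj (c := c) (𝟙 (F.obj a)) j) : A) :=
    isNoetherianObject_of_mono (Subobject.underlyingIso _).hom
  have e := h _ this
  rw [← Subobject.underlyingIso_arrow (pieceι F G adj (c := c) (𝟙 (F.obj a)) j), Category.assoc, Category.assoc, e]


omit [Abelian A] [HasColimitsOfSize.{w, w} A] in
theorem exists_shrink_iso {X Z : A} [Small.{w} (Subobject Z)] (m : X ⟶ Z) [Mono m] :
    ∃ T : Shrink.{w} (Subobject Z), Nonempty ((((equivShrink _).symm T : Subobject Z) : A) ≅ X) :=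
  ⟨equivShrink _ (Subobject.mk m),
    ⟨eqToIso (congrArg (fun T : Subobject Z => (T : A)) ((equivShrink _).symm_apply_apply (Subobject.mk m))) ≪≫
      Subobject.underlyingIso m⟩⟩

variable [WellPowered.{w} B] [∀ a : A, Small.{w} (Subobject a)]

variable (G) in
/-- Index for a set of generators of `A`. -/
structure SepIdx where
  n : ℕ
  w' : Fin n → ι
  K : Shrink.{w} (Subobject (∐ fun k => s (w' k)))
  T : Shrink.{w} (Subobject (G.obj (cokernel ((equivShrink _).symm K).arrow)))

variable (G) in
/-- The generator with a given index. -/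
noncomputable def sepObj (x : SepIdx G s) : A := (((equivShrink _).symm x.T : Subobject _) : A)

omit [WellPowered.{w} B] [∀ a : A, Small.{w} (Subobject a)] in
include adj hsep in
/-- `A` has a separator. -/
theorem hasSeparator [IsGrothendieckAbelian.{w} B] : HasSeparator A := by
  classical
  have := ab5 F G adj
  have : PreservesLimitsOfSize.{0, 0} G := adj.rightAdjoint_preservesLimits
  have : ∀ a : A, Small.{w} (Subobject a) := fun a => small_of_injective (subMap_injective F a)
  have : WellPowered.{w} B := inferInstance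
  let t : SepIdx.{w} G s → A := sepObj G s
  refine ⟨⟨∐ t, (isSeparator_sigma t).2 ?_⟩⟩
  intro a Y f g hfg
  have hfg' : ∀ (n : ℕ) (w' : Fin n → ι) (K : Shrink.{w} (Subobject (∐ fun k => s (w' k))))
      (T : Shrink.{w} (Subobject (G.obj (cokernel ((equivShrink _).symm K).arrow))))
      (h : (((equivShrink _).symm T : Subobject _) : A) ⟶ a), h ≫ f = h ≫ g := fun n w' K T h =>
    hfg (sepObj G s ⟨n, w', K, T⟩) (ObjectProperty.ofObj_apply t ⟨n, w', K, T⟩) h
  clear hfg
  obtain ⟨hc⟩ := isColimit_span s hsep (F.obj a)
  let c : Cocone ((span_mono s (F.obj a)).functor ⋙ Subobject.underlying) := Cocone.mk (F.obj a)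
    { app := fun S => (span s (F.obj a) S).arrow
      naturality := fun S T h => (Subobject.ofLE_arrow _).trans (Category.comp_id _).symm }
  have hm : Mono (adj.homEquiv a c.pt (𝟙 (F.obj a))) := by
    rw [Adjunction.homEquiv_unit]; infer_instance
  refine hom_ext_pieces F G adj (c := c) (𝟙 (F.obj a)) hc f g fun S => ?_
  let b := span s (F.obj a) S
  let e : Fin S.card ≃ S := S.equivFin.symm
  let w' : Fin S.card → ι := fun k => (e k).1.1
  have fac : ∀ k, b.Factors (e k).1.2 := fun k =>
    Subobject.factors_of_le _
      (Finset.le_sup (f := fun p : Σ i, (s i ⟶ F.obj a) => imageSubobject p.2) (e k).2)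
      ((Subobject.factors_iff _ _).2 ⟨factorThruImageSubobject _, imageSubobject_arrow_comp _⟩)
  let q : (∐ fun k => s (w' k)) ⟶ (b : B) := Sigma.desc fun k => b.factorThru _ (fac k)
  have : Epi q := by
    rw [L28.Elt.epi_iff]
    intro y
    have hle : b ≤ imageSubobject (q ≫ b.arrow) := Finset.sup_le fun p hp => by
      obtain ⟨k, hk⟩ := e.surjective ⟨p, hp⟩
      have : Sigma.ι (fun k => s (w' k)) k ≫ q ≫ b.arrow = (e k).1.2 := by simp [q]
      rw [show p = (e k).1 by rw [hk]]
      exact imageSubobject_le (e k).1.2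
        (Sigma.ι (fun k => s (w' k)) k ≫ factorThruImageSubobject (q ≫ b.arrow))
        (by rw [Category.assoc, imageSubobject_arrow_comp, this])
    obtain ⟨x, hx⟩ := (L28.Elt.mem_imageSubobject (q ≫ b.arrow) _).1
      (L28.Elt.le_iff.1 hle ⟨y, rfl⟩)
    exact ⟨x, L28.Elt.inj b.arrow (by rw [← L28.Elt.ev_comp]; exact hx)⟩
  let K := kernelSubobject q
  obtain ⟨K', hK⟩ : ∃ K' : Shrink.{w} (Subobject (∐ fun k => s (w' k))), (equivShrink _).symm K' = K :=
    ⟨equivShrink _ K, (equivShrink _).symm_apply_apply K⟩
  let d : cokernel K.arrow ⟶ (b : B) := cokernel.desc _ q (kernelSubobject_arrow_comp q)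
  have : IsIso d := by
    have : Mono d := by
      rw [L28.Elt.mono_iff, injective_iff_map_eq_zero]
      intro z hz
      obtain ⟨z, rfl⟩ := L28.Elt.surj (cokernel.π K.arrow) z
      rw [L28.Elt.cokernel_π_eq_zero_iff]
      rw [← L28.Elt.ev_comp, cokernel.π_desc] at hz
      exact (L28.Elt.mem_kernelSubobject q z).2 hz
    have : Epi d := epi_of_epi_fac (cokernel.π_desc K.arrow q (kernelSubobject_arrow_comp q))
    exact isIso_of_mono_of_epi d
  let e' : ((span_mono s (F.obj a)).functor ⋙ Subobject.underlying).obj S ⟶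
      cokernel ((equivShrink _).symm K').arrow :=
    (asIso d).inv ≫ eqToHom (congrArg (fun T : Subobject _ => cokernel T.arrow) hK.symm)
  have : Mono e' := inferInstanceAs (Mono ((asIso d).inv ≫ eqToHom _))
  let m : piece F G adj (c := c) (𝟙 (F.obj a)) S ⟶ G.obj (cokernel ((equivShrink _).symm K').arrow) :=
    pullback.fst _ _ ≫ G.map e'
  have : Mono m := mono_comp _ _
  obtain ⟨T, ⟨i⟩⟩ := exists_shrink_iso m
  rw [← cancel_epi i.hom, ← Category.assoc, ← Category.assoc]
  have h9 := hfg' S.card w' K' T
  exact h9 _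

end Groth.L00.Comonadic
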