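/-
An additive functor preserving degreewise split sequences inverts quasi-isomorphisms whose cone it keeps acyclic.
-/
import Groth.Agent.L00.CellTower
import Mathlib.Algebra.Homology.HomologySequenceLemmas

set_option autoImplicit false
set_option backward.isDefEq.respectTransparency false
set_option backward.isDefEq.respectTransparency.types false

open CategoryTheory CategoryTheory.Limits CochainComplex

namespace Groth.L00.ConeTransfer

universe v w v' w'

variable {C : Type w} [Category.{v} C] [Abelian C] {D : Type w'} [Category.{v'} D] [Abelian D]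
  (T : CochainComplex C ℤ ⥤ CochainComplex D ℤ) [T.Additive]

/-- the map of the two cone sequences -/
noncomputable def coneSeqMap {P Q : CochainComplex C ℤ} (α : P ⟶ Q) :
    mappingCone.triangleRotateShortComplex (𝟙 P) ⟶ mappingCone.triangleRotateShortComplex α where
  τ₁ := α
  τ₂ := mappingCone.map (𝟙 P) α (𝟙 P) α (by simp)
  τ₃ := (𝟙 P)⟦(1 : ℤ)⟧'
  comm₁₂ := (mappingCone.triangleMap (𝟙 P) α (𝟙 P) α (by simp)).comm₂.symm
  comm₂₃ := (mappingCone.triangleMap (𝟙 P) α (𝟙 P) α (by simp)).comm₃.symm

theorem quasiIso_map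
    (hT : ∀ (S : ShortComplex (CochainComplex C ℤ)),
      (∀ q, (S.map (HomologicalComplex.eval C (ComplexShape.up ℤ) q)).Splitting) → (S.map T).ShortExact)
    {P Q : CochainComplex C ℤ} (α : P ⟶ Q)
    (h0 : ∀ i, IsZero ((T.obj (mappingCone (𝟙 P))).homology i))
    (h : ∀ i, IsZero ((T.obj (mappingCone α)).homology i)) : QuasiIso (T.map α) := by
  rw [quasiIso_iff]
  intro j
  rw [quasiIsoAt_iff_isIso_homologyMap]
  have h₁ := hT _ (mappingCone.triangleRotateShortComplexSplitting (𝟙 P))
  have h₂ := hT _ (mappingCone.triangleRotateShortComplexSplitting α)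
  have hn := HomologicalComplex.HomologySequence.δ_naturality
    (T.mapShortComplex.map (coneSeqMap α)) h₁ h₂ (j - 1) j (by simp)
  haveI : IsIso (h₁.δ (j - 1) j (by simp)) := h₁.isIso_δ _ _ _ (h0 _) (h0 _)
  haveI : IsIso (h₂.δ (j - 1) j (by simp)) := h₂.isIso_δ _ _ _ (h _) (h _)
  have e : (T.mapShortComplex.map (coneSeqMap α)).τ₃ = 𝟙 _ := by
    change T.map ((𝟙 P)⟦(1 : ℤ)⟧') = _
    rw [CategoryTheory.Functor.map_id, CategoryTheory.Functor.map_id]
    rfl
  rw [e, HomologicalComplex.homologyMap_id, Category.id_comp] at hn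
  haveI : IsIso (h₁.δ (j - 1) j (by simp) ≫ HomologicalComplex.homologyMap (T.map α) j) := by
    change IsIso (h₁.δ (j - 1) j _ ≫
      HomologicalComplex.homologyMap (T.mapShortComplex.map (coneSeqMap α)).τ₁ j)
    rw [hn]
    infer_instance
  exact IsIso.of_isIso_comp_left (h₁.δ (j - 1) j _) _

/-- the cone of a quasi-isomorphism is acyclic -/
theorem acyclic_cone {P Q : CochainComplex C ℤ} (α : P ⟶ Q) [QuasiIso α] (i : ℤ) :
    IsZero ((mappingCone α).homology i) := by
  have hm : HomotopyCategory.quasiIso C (ComplexShape.up ℤ) ((HomotopyCategory.quotient _ _).map α) :=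
    (HomotopyCategory.quotient_map_mem_quasiIso_iff α).2
      ((HomologicalComplex.mem_quasiIso_iff _).2 inferInstance)
  rw [HomotopyCategory.quasiIso_eq_trW_subcategoryAcyclic] at hm
  have := (ObjectProperty.trW_iff_of_distinguished (HomotopyCategory.subcategoryAcyclic C) (mappingCone.triangleh α)
    (HomotopyCategory.mappingCone_triangleh_distinguished α)).1 hm
  exact (HomologicalComplex.exactAt_iff_isZero_homology _ _).1
    ((HomotopyCategory.quotient_obj_mem_subcategoryAcyclic_iff_exactAt (mappingCone α)).1 this i)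

end Groth.L00.ConeTransfer
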