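/-
Local bijectivity of presheaves of modules is stable under tensoring.
-/
import Mathlib.Algebra.Category.ModuleCat.Presheaf.Monoidal
import Mathlib.Algebra.Category.ModuleCat.Presheaf.Sheafification
import Mathlib.CategoryTheory.Sites.LocallyBijective

set_option autoImplicit false

universe u v₁ u₁

open CategoryTheory MonoidalCategory Opposite TensorProduct

namespace Groth.L00.Tensor

variable {C : Type u₁} [Category.{v₁} C] {J : GrothendieckTopology C} {R : Cᵒᵖ ⥤ CommRingCat.{u}}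

/-- Presheaves of modules over a presheaf of commutative rings. -/
abbrev PM (R : Cᵒᵖ ⥤ CommRingCat.{u}) := PresheafOfModules.{u} (R ⋙ forget₂ CommRingCat RingCat)

/-- restriction of a section, typed in the value category -/
noncomputable def rs (M : PM R) {U V : Cᵒᵖ} (g : U ⟶ V) (x : M.obj U) : M.obj V :=
  M.presheaf.map g x

lemma rs_comp (M : PM R) {U V W : Cᵒᵖ} (g : U ⟶ V) (h : V ⟶ W) (x : M.obj U) :
    rs M h (rs M g x) = rs M (g ≫ h) x :=
  (congrArg (fun k => (ConcreteCategory.hom k) x) (M.presheaf.map_comp g h)).symm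

lemma rs_add (M : PM R) {U V : Cᵒᵖ} (g : U ⟶ V) (x y : M.obj U) :
    rs M g (x + y) = rs M g x + rs M g y :=
  map_add (M.presheaf.map g).hom x y

lemma rs_smul (M : PM R) {U V : Cᵒᵖ} (g : U ⟶ V) (r : R.obj U) (x : M.obj U) :
    rs M g (r • x) = R.map g r • rs M g x :=
  M.map_smul g r x

lemma app_rs {M N : PM R} (f : M ⟶ N) {U V : Cᵒᵖ} (g : U ⟶ V) (x : M.obj U) :
    f.app V (rs M g x) = rs N g (f.app U x) :=
  PresheafOfModules.naturality_apply f g x

lemma rs_tmul {M N : PM R} {U V : Cᵒᵖ} (g : U ⟶ V) (x : M.obj U) (y : N.obj U) :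
    rs (M ⊗ N) g (x ⊗ₜ[R.obj U] y) = rs M g x ⊗ₜ[R.obj V] rs N g y := rfl

section Extension

variable {P Q N F : PM R} (f : P ⟶ Q) (φ : P ⊗ N ⟶ F)

/-- the bilinear map underlying `φ` -/
noncomputable def ev (U : Cᵒᵖ) (p : P.obj U) (n : N.obj U) : F.obj U := φ.app U (p ⊗ₜ[R.obj U] n)

lemma ev_add₁ (U : Cᵒᵖ) (p p' : P.obj U) (n : N.obj U) :
    ev φ U (p + p') n = ev φ U p n + ev φ U p' n :=
  (congrArg (φ.app U).hom (TensorProduct.add_tmul p p' n)).trans
    ((φ.app U).hom.map_add (p ⊗ₜ[R.obj U] n) (p' ⊗ₜ[R.obj U] n))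

lemma ev_add₂ (U : Cᵒᵖ) (p : P.obj U) (n n' : N.obj U) :
    ev φ U p (n + n') = ev φ U p n + ev φ U p n' :=
  (congrArg (φ.app U).hom (TensorProduct.tmul_add p n n')).trans
    ((φ.app U).hom.map_add (p ⊗ₜ[R.obj U] n) (p ⊗ₜ[R.obj U] n'))

lemma ev_smul₁ (U : Cᵒᵖ) (r : R.obj U) (p : P.obj U) (n : N.obj U) :
    ev φ U (r • p) n = r • ev φ U p n :=
  (φ.app U).hom.map_smul r (p ⊗ₜ[R.obj U] n)

lemma ev_smul₂ (U : Cᵒᵖ) (r : R.obj U) (p : P.obj U) (n : N.obj U) :
    ev φ U p (r • n) = r • ev φ U p n := by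
  let P' : ModuleCat (R.obj U) := P.obj U
  let N' : ModuleCat (R.obj U) := N.obj U
  have e : (p : P') ⊗ₜ[R.obj U] (r • (n : N')) = (r • (p : P')) ⊗ₜ[R.obj U] (n : N') :=
    (TensorProduct.smul_tmul r (p : P') (n : N')).symm
  exact (congrArg (φ.app U).hom e).trans (ev_smul₁ φ U r p n)

/-- `y` is the value at `q ⊗ n` of an extension of `φ` along `f ▷ N`. -/
def IsVal {U : Cᵒᵖ} (q : Q.obj U) (n : N.obj U) (y : F.obj U) : Prop :=
  ∀ (V : Cᵒᵖ) (g : U ⟶ V) (p : P.obj V), f.app V p = rs Q g q →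
    ev φ V p (rs N g n) = rs F g y

lemma φ_rs {U V : Cᵒᵖ} (g : U ⟶ V) (p : P.obj U) (n : N.obj U) :
    ev φ V (rs P g p) (rs N g n) = rs F g (ev φ U p n) :=
  (congrArg (φ.app V) (rs_tmul g p n).symm).trans (app_rs φ g _)

lemma exists_local [Presheaf.IsLocallySurjective J ((PresheafOfModules.toPresheaf _).map f)]
    {U : Cᵒᵖ} (q : Q.obj U) :
    ∃ S ∈ J U.unop, ∀ ⦃V : C⦄ (g : V ⟶ U.unop), S g →
      ∃ p : P.obj (op V), f.app (op V) p = rs Q g.op q :=
  ⟨Presheaf.imageSieve ((PresheafOfModules.toPresheaf _).map f) q,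
    Presheaf.imageSieve_mem J _ _, fun _ _ hg => hg.elim fun p hp => ⟨p, hp⟩⟩

lemma local_eq [Presheaf.IsLocallyInjective J ((PresheafOfModules.toPresheaf _).map f)]
    {U : Cᵒᵖ} (p p' : P.obj U) (h : f.app U p = f.app U p') :
    ∃ S ∈ J U.unop, ∀ ⦃V : C⦄ (g : V ⟶ U.unop), S g → rs P g.op p = rs P g.op p' :=
  ⟨Presheaf.equalizerSieve (F := (PresheafOfModules.toPresheaf _).obj P) p p',
    Presheaf.equalizerSieve_mem J ((PresheafOfModules.toPresheaf _).map f) p p' h,
    fun _ _ hg => hg⟩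

variable (hF : Presheaf.IsSheaf J F.presheaf)

include hF in
lemma sep {U : Cᵒᵖ} (S : Sieve U.unop) (hS : S ∈ J U.unop) (a b : F.obj U)
    (h : ∀ ⦃V : C⦄ (g : V ⟶ U.unop), S g → rs F g.op a = rs F g.op b) : a = b := by
  have hty : Presieve.IsSheaf J (F.presheaf ⋙ CategoryTheory.forget AddCommGrpCat.{u}) :=
    (isSheaf_iff_isSheaf_of_type J _).1 (Presheaf.isSheaf_comp_of_isSheaf J _ _ hF)
  exact ((hty S hS).isSeparatedFor).ext h

include hF in
lemma glue {U : Cᵒᵖ} (S : Sieve U.unop) (hS : S ∈ J U.unop)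
    (x : ∀ ⦃V : C⦄ (g : V ⟶ U.unop), S g → F.obj (op V))
    (hx : ∀ ⦃V₁ V₂ W : C⦄ (g₁ : W ⟶ V₁) (g₂ : W ⟶ V₂) ⦃h₁ : V₁ ⟶ U.unop⦄ ⦃h₂ : V₂ ⟶ U.unop⦄
      (hh₁ : S h₁) (hh₂ : S h₂), g₁ ≫ h₁ = g₂ ≫ h₂ →
      rs F g₁.op (x h₁ hh₁) = rs F g₂.op (x h₂ hh₂)) :
    ∃ y : F.obj U, ∀ ⦃V : C⦄ (g : V ⟶ U.unop) (hg : S g), rs F g.op y = x g hg := by
  have hty : Presieve.IsSheaf J (F.presheaf ⋙ CategoryTheory.forget AddCommGrpCat.{u}) :=
    (isSheaf_iff_isSheaf_of_type J _).1 (Presheaf.isSheaf_comp_of_isSheaf J _ _ hF)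
  exact ⟨(hty S hS).amalgamate x hx, fun V g hg => Presieve.IsSheafFor.valid_glue (hty S hS) hx g hg⟩

variable [Presheaf.IsLocallyInjective J ((PresheafOfModules.toPresheaf _).map f)]

include hF in
lemma φ_congr {U : Cᵒᵖ} (p p' : P.obj U) (n : N.obj U) (h : f.app U p = f.app U p') :
    ev φ U p n = ev φ U p' n := by
  obtain ⟨S, hS, hS'⟩ := local_eq (J := J) f p p' h
  refine sep hF S hS _ _ fun V g hg => ?_
  rw [← φ_rs φ g.op p n, ← φ_rs φ g.op p' n, hS' g hg]

variable [Presheaf.IsLocallySurjective J ((PresheafOfModules.toPresheaf _).map f)]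

include hF in
lemma isVal_unique {U : Cᵒᵖ} {q : Q.obj U} {n : N.obj U} {y y' : F.obj U}
    (h : IsVal f φ q n y) (h' : IsVal f φ q n y') : y = y' := by
  obtain ⟨S, hS, hS'⟩ := exists_local (J := J) f q
  refine sep hF S hS _ _ fun V g hg => ?_
  obtain ⟨p, hp⟩ := hS' g hg
  rw [← h _ g.op p hp, ← h' _ g.op p hp]

include hF in
lemma exists_isVal {U : Cᵒᵖ} (q : Q.obj U) (n : N.obj U) : ∃ y, IsVal f φ q n y := by
  obtain ⟨S, hS, hS'⟩ := exists_local (J := J) f q
  choose loc hloc using hS'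
  obtain ⟨y, hy⟩ := glue hF S hS
    (fun V g hg => ev φ (op V) (loc g hg) (rs N g.op n)) (by
      intro V₁ V₂ W g₁ g₂ h₁ h₂ hh₁ hh₂ w
      rw [← φ_rs φ, ← φ_rs φ, rs_comp, rs_comp, ← op_comp, ← op_comp, w]
      refine φ_congr f φ hF _ _ _ ?_
      rw [app_rs, app_rs, hloc h₁ hh₁, hloc h₂ hh₂, rs_comp, rs_comp, ← op_comp, ← op_comp, w])
  refine ⟨y, fun V g p hp => ?_⟩
  refine sep hF (S.pullback g.unop) (J.pullback_stable g.unop hS) _ _ fun W h hh => ?_
  rw [← φ_rs φ, rs_comp, rs_comp]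
  refine Eq.trans ?_ (hy (h ≫ g.unop) hh).symm
  refine φ_congr f φ hF _ _ _ ?_
  rw [app_rs, hp, rs_comp]
  exact (hloc (h ≫ g.unop) hh).symm

include hF in
/-- Every morphism into a sheaf extends along `f ▷ N` for a locally bijective `f`. -/
theorem exists_extension : ∃ β : Q ⊗ N ⟶ F, f ▷ N ≫ β = φ := by
  choose y hy using fun (U : Cᵒᵖ) (q : Q.obj U) (n : N.obj U) => exists_isVal (J := J) f φ hF q n
  have key : ∀ (U : Cᵒᵖ) (q : Q.obj U) (n : N.obj U) (z : F.obj U), IsVal f φ q n z → y U q n = z :=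
    fun U q n z hz => isVal_unique (J := J) f φ hF (hy U q n) hz
  have hadd₁ : ∀ U q q' n, y U (q + q') n = y U q n + y U q' n := by
    intro U q q' n
    refine key U _ _ _ fun V g p hp => ?_
    obtain ⟨S, hS, hS'⟩ := exists_local (J := J) f (rs Q g q)
    refine sep hF S hS _ _ fun W h hh => ?_
    obtain ⟨a, ha⟩ := hS' h hh
    rw [rs_comp] at ha
    have hb : f.app (op W) (rs P h.op p - a) = rs Q (g ≫ h.op) q' := by
      rw [map_sub, app_rs, hp, rs_comp, ha, rs_add]
      exact add_sub_cancel_left _ _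
    rw [← φ_rs φ, rs_comp, rs_comp, rs_add, ← hy U q n _ _ a ha, ← hy U q' n _ _ _ hb, ← ev_add₁,
      add_sub_cancel]
  have hsmul : ∀ U (r : R.obj U) q n, y U (r • q) n = r • y U q n := by
    intro U r q n
    refine key U _ _ _ fun V g p hp => ?_
    obtain ⟨S, hS, hS'⟩ := exists_local (J := J) f (rs Q g q)
    refine sep hF S hS _ _ fun W h hh => ?_
    obtain ⟨a, ha⟩ := hS' h hh
    rw [rs_comp] at ha
    have hb : f.app (op W) (rs P h.op p) = f.app (op W) (R.map (g ≫ h.op) r • a) := by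
      rw [app_rs, hp, rs_comp, rs_smul, ← ha]
      exact ((f.app (op W)).hom.map_smul _ _).symm
    rw [← φ_rs φ, rs_comp, rs_comp, φ_congr (J := J) f φ hF _ _ _ hb, rs_smul, ← hy U q n _ _ a ha]
    exact ev_smul₁ φ _ _ _ _
  have hadd₂ : ∀ U q n n', y U q (n + n') = y U q n + y U q n' := by
    intro U q n n'
    refine key U _ _ _ fun V g p hp => ?_
    rw [rs_add, rs_add, ← hy U q n V g p hp, ← hy U q n' V g p hp, ev_add₂]
  have hsmul₂ : ∀ U (r : R.obj U) q n, y U q (r • n) = r • y U q n := by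
    intro U r q n
    refine key U _ _ _ fun V g p hp => ?_
    rw [rs_smul, rs_smul, ← hy U q n V g p hp]
    exact ev_smul₂ φ _ _ _ _
  let β : Q ⊗ N ⟶ F :=
    { app := fun U => ModuleCat.ofHom (TensorProduct.lift
        (LinearMap.mk₂ (R.obj U) (y U) (hadd₁ U) (hsmul U) (hadd₂ U) (hsmul₂ U)))
      naturality := fun {U V} g => ModuleCat.MonoidalCategory.tensor_ext (fun q n => by
        change y V (rs Q g q) (rs N g n) = rs F g (y U q n)
        refine key V _ _ _ fun W h p hp => ?_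
        rw [rs_comp] at hp
        rw [rs_comp, rs_comp, hy U q n W (g ≫ h) p hp]) }
  refine ⟨β, ?_⟩
  ext1 U
  refine ModuleCat.MonoidalCategory.tensor_ext fun p n => ?_
  change y U (f.app U p) n = ev φ U p n
  refine key U _ _ _ fun V g p' hp' => ?_
  rw [← φ_rs φ]
  exact φ_congr (J := J) f φ hF _ _ _ (hp'.trans (app_rs f g p).symm)

end Extension

section Stable

variable {P Q : PM R} (f : P ⟶ Q) (N : PM R)

/-- Tensoring preserves local surjectivity. -/
theorem isLocallySurjective_whiskerRight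
    [Presheaf.IsLocallySurjective J ((PresheafOfModules.toPresheaf _).map f)] :
    Presheaf.IsLocallySurjective J ((PresheafOfModules.toPresheaf _).map (f ▷ N)) where
  imageSieve_mem {U} z := by
    let T := (PresheafOfModules.toPresheaf _).map (f ▷ N)
    change Presheaf.imageSieve T z ∈ J U
    induction z using TensorProduct.induction_on with
    | zero => exact J.superset_covering (fun V g _ => ⟨0, (map_zero _).trans (map_zero _).symm⟩) (J.top_mem U)
    | tmul q n =>
      refine J.superset_covering ?_ (Presheaf.imageSieve_mem J ((PresheafOfModules.toPresheaf _).map f) q)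
      rintro V g ⟨p, hp⟩
      exact ⟨(p : P.obj (op V)) ⊗ₜ[R.obj (op V)] (rs N g.op n : N.obj (op V)),
        congrArg (fun w : Q.obj (op V) => w ⊗ₜ[R.obj (op V)] (rs N g.op n : N.obj (op V))) hp⟩
    | add a b ha hb =>
      refine J.superset_covering ?_ (J.intersection_covering ha hb)
      rintro V g ⟨⟨x, hx⟩, ⟨w, hw⟩⟩
      exact ⟨x + w, by rw [map_add, hx, hw]; exact (map_add _ a b).symm⟩

variable [J.WEqualsLocallyBijective AddCommGrpCat.{u}] [HasWeakSheafify J AddCommGrpCat.{u}]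
  {RS : Sheaf J RingCat.{u}} (α : R ⋙ forget₂ CommRingCat RingCat ⟶ RS.obj)
  [Presheaf.IsLocallyInjective J α] [Presheaf.IsLocallySurjective J α]

include α in
/-- Tensoring preserves local injectivity of locally bijective morphisms. -/
theorem isLocallyInjective_whiskerRight
    [Presheaf.IsLocallyInjective J ((PresheafOfModules.toPresheaf _).map f)]
    [Presheaf.IsLocallySurjective J ((PresheafOfModules.toPresheaf _).map f)] :
    Presheaf.IsLocallyInjective J ((PresheafOfModules.toPresheaf _).map (f ▷ N)) := by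
  let η := (PresheafOfModules.sheafificationAdjunction α).unit.app (P ⊗ N)
  obtain ⟨β, hβ⟩ := exists_extension (J := J) f η
    (((PresheafOfModules.sheafification α).obj (P ⊗ N)).isSheaf)
  have : Presheaf.IsLocallyInjective J ((PresheafOfModules.toPresheaf _).map η) :=
    inferInstanceAs (Presheaf.IsLocallyInjective J (CategoryTheory.toSheafify J (P ⊗ N).presheaf))
  exact Presheaf.isLocallyInjective_of_isLocallyInjective_fac J
    (((PresheafOfModules.toPresheaf _).map_comp (f ▷ N) β).symm.trans (congrArg _ hβ))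

include α in
theorem W_whiskerRight (hf : J.W ((PresheafOfModules.toPresheaf _).map f)) :
    J.W ((PresheafOfModules.toPresheaf _).map (f ▷ N)) := by
  rw [J.W_iff_isLocallyBijective] at hf ⊢
  obtain ⟨_, _⟩ := hf
  exact ⟨isLocallyInjective_whiskerRight f N α, isLocallySurjective_whiskerRight f N⟩

include α in
theorem W_whiskerLeft (hf : J.W ((PresheafOfModules.toPresheaf _).map f)) :
    J.W ((PresheafOfModules.toPresheaf _).map (N ◁ f)) := by
  have e : N ◁ f = (β_ N P).hom ≫ f ▷ N ≫ (β_ N Q).inv := by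
    rw [← Category.assoc, ← BraidedCategory.braiding_naturality_right, Category.assoc, Iso.hom_inv_id,
      Category.comp_id]
  rw [e, Functor.map_comp, Functor.map_comp]
  exact (MorphismProperty.cancel_left_of_respectsIso J.W _ _).2
    ((MorphismProperty.cancel_right_of_respectsIso J.W _ _).2 (W_whiskerRight f N α hf))

end Stable

end Groth.L00.Tensor
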