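/-
Basic calculus of `CohB1.tensorMod`.
-/
import Groth.Prelude.Def_CohB1
import Groth.Agent.L00.TensorLocal
import Mathlib.Algebra.Category.ModuleCat.Sheaf.Localization

set_option autoImplicit false

universe u

open CategoryTheory MonoidalCategory AlgebraicGeometry Opposite

namespace Groth.L00.Tensor

variable {X : Scheme.{u}}

/-- presheaves of modules on `X`, with the commutative structure presheaf -/
abbrev PX (X : Scheme.{u}) := CohB1.PMod X

/-- sheafification, on the monoidal category of presheaves of modules -/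
noncomputable abbrev shf (X : Scheme.{u}) : PX X ⥤ X.Modules := CohB1.sheafifyMod X

/-- the underlying presheaf of modules -/
noncomputable abbrev pre (M : X.Modules) : PX X := M.val

/-- the underlying presheaf functor -/
noncomputable abbrev preF (X : Scheme.{u}) : X.Modules ⥤ PX X := SheafOfModules.forget _

/-- the unit of sheafification -/
noncomputable def unit (P : PX X) : P ⟶ pre ((shf X).obj P) :=
  (PresheafOfModules.sheafificationAdjunction (𝟙 X.ringCatSheaf.obj)).unit.app P

/-- the counit of sheafification, an isomorphism -/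
noncomputable def counitIso (M : X.Modules) : (shf X).obj (pre M) ≅ M :=
  (asIso (PresheafOfModules.sheafificationAdjunction (𝟙 X.ringCatSheaf.obj)).counit).app M

/-- local bijectivity of morphisms of presheaves of modules -/
abbrev Wp {P Q : PX X} (f : P ⟶ Q) : Prop :=
  (Opens.grothendieckTopology X).W ((PresheafOfModules.toPresheaf _).map f)

theorem isIso_shf_map_iff {P Q : PX X} (f : P ⟶ Q) : IsIso ((shf X).map f) ↔ Wp f :=
  Iff.of_eq (congrArg (fun W => W f)
    (PresheafOfModules.inverseImage_W_toPresheaf_eq_inverseImage_isomorphisms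
      (J := Opens.grothendieckTopology X) (𝟙 X.ringCatSheaf.obj)).symm)

/-- the identity of the structure presheaf -/
noncomputable def idR (X : Scheme.{u}) :
    X.sheaf.obj ⋙ forget₂ CommRingCat RingCat ⟶ X.ringCatSheaf.obj := 𝟙 _

instance instIsIsoIdR (X : Scheme.{u}) : IsIso (idR X) :=
  ⟨⟨𝟙 _, Category.id_comp (𝟙 X.ringCatSheaf.obj), Category.id_comp (𝟙 X.ringCatSheaf.obj)⟩⟩

theorem Wp_unit (P : PX X) : Wp (unit P) :=
  (Opens.grothendieckTopology X).W_toSheafify _

theorem Wp_whiskerRight {P Q : PX X} (f : P ⟶ Q) (N : PX X) (hf : Wp f) : Wp (f ▷ N) :=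
  W_whiskerRight f N (idR X) hf

theorem Wp_whiskerLeft {P Q : PX X} (f : P ⟶ Q) (N : PX X) (hf : Wp f) : Wp (N ◁ f) :=
  W_whiskerLeft f N (idR X) hf

/-- `tensorMod` as the sheafification of the presheaf tensor product -/
noncomputable def tensorModIso (M N : X.Modules) :
    CohB1.tensorMod M N ≅ (shf X).obj (pre M ⊗ pre N) := Iso.refl _

/-- functoriality -/
noncomputable def tensorMap {M M' N N' : X.Modules} (f : M ⟶ M') (g : N ⟶ N') :
    CohB1.tensorMod M N ⟶ CohB1.tensorMod M' N' :=
  (shf X).map ((preF X).map f ⊗ₘ (preF X).map g)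

lemma tensorMap_id (M N : X.Modules) : tensorMap (𝟙 M) (𝟙 N) = 𝟙 (CohB1.tensorMod M N) := by
  refine (congrArg (shf X).map ?_).trans ((shf X).map_id _)
  rw [CategoryTheory.Functor.map_id, CategoryTheory.Functor.map_id]
  exact MonoidalCategory.id_tensorHom_id _ _

lemma tensorMap_comp {M M' M'' N N' N'' : X.Modules} (f : M ⟶ M') (f' : M' ⟶ M'')
    (g : N ⟶ N') (g' : N' ⟶ N'') :
    tensorMap (f ≫ f') (g ≫ g') = tensorMap f g ≫ tensorMap f' g' := by
  refine (congrArg (shf X).map ?_).trans ((shf X).map_comp _ _)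
  rw [CategoryTheory.Functor.map_comp, CategoryTheory.Functor.map_comp]
  exact (MonoidalCategory.tensorHom_comp_tensorHom _ _ _ _).symm

/-- functoriality in isomorphisms -/
noncomputable def tensorIso {M M' N N' : X.Modules} (e : M ≅ M') (e' : N ≅ N') :
    CohB1.tensorMod M N ≅ CohB1.tensorMod M' N' :=
  (shf X).mapIso ((preF X).mapIso e ⊗ᵢ (preF X).mapIso e')

/-- commutativity -/
noncomputable def tensorComm (M N : X.Modules) : CohB1.tensorMod M N ≅ CohB1.tensorMod N M :=
  (shf X).mapIso (β_ (pre M) (pre N))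

/-- left unit -/
noncomputable def tensorUnitLeft (M : X.Modules) :
    CohB1.tensorMod (Coh.structureModule X) M ≅ M :=
  (shf X).mapIso (λ_ (pre M)) ≪≫ counitIso M

/-- right unit -/
noncomputable def tensorUnitRight (M : X.Modules) :
    CohB1.tensorMod M (Coh.structureModule X) ≅ M :=
  (shf X).mapIso (ρ_ (pre M)) ≪≫ counitIso M

/-- absorbing a sheafification in the left factor -/
noncomputable def shfTensorLeft (P Q : PX X) :
    (shf X).obj (pre ((shf X).obj P) ⊗ Q) ≅ (shf X).obj (P ⊗ Q) :=
  haveI := (isIso_shf_map_iff _).2 (Wp_whiskerRight (unit P) Q (Wp_unit P))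
  (asIso ((shf X).map (unit P ▷ Q))).symm

/-- absorbing a sheafification in the right factor -/
noncomputable def shfTensorRight (P Q : PX X) :
    (shf X).obj (P ⊗ pre ((shf X).obj Q)) ≅ (shf X).obj (P ⊗ Q) :=
  haveI := (isIso_shf_map_iff _).2 (Wp_whiskerLeft (unit Q) P (Wp_unit Q))
  (asIso ((shf X).map (P ◁ unit Q))).symm

/-- associativity -/
noncomputable def tensorAssoc (L M N : X.Modules) :
    CohB1.tensorMod (CohB1.tensorMod L M) N ≅ CohB1.tensorMod L (CohB1.tensorMod M N) :=
  shfTensorLeft (pre L ⊗ pre M) (pre N) ≪≫ (shf X).mapIso (α_ (pre L) (pre M) (pre N)) ≪≫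
    (shfTensorRight (pre L) (pre M ⊗ pre N)).symm

/-- the middle four interchange -/
noncomputable def tensorMiddleFour (A B C D : X.Modules) :
    CohB1.tensorMod (CohB1.tensorMod A B) (CohB1.tensorMod C D) ≅
      CohB1.tensorMod (CohB1.tensorMod A C) (CohB1.tensorMod B D) :=
  tensorAssoc A B _ ≪≫ tensorIso (Iso.refl A)
    ((tensorAssoc B C D).symm ≪≫ tensorIso (tensorComm B C) (Iso.refl D) ≪≫ tensorAssoc C B D) ≪≫
    (tensorAssoc A C _).symm

/-- a tensor power of isomorphic modules -/
noncomputable def tensorPowIso {L L' : X.Modules} (e : L ≅ L') :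
    ∀ n : ℕ, CohB1.tensorPow L n ≅ CohB1.tensorPow L' n
  | 0 => Iso.refl _
  | n + 1 => tensorIso (tensorPowIso e n) e

/-- the first tensor power -/
noncomputable def tensorPowOne (L : X.Modules) : CohB1.tensorPow L 1 ≅ L := tensorUnitLeft L

/-- exponents add -/
noncomputable def tensorPowAdd (L : X.Modules) (m : ℕ) : ∀ n : ℕ,
    CohB1.tensorMod (CohB1.tensorPow L m) (CohB1.tensorPow L n) ≅ CohB1.tensorPow L (m + n)
  | 0 => tensorUnitRight _
  | n + 1 => (tensorAssoc _ _ _).symm ≪≫ tensorIso (tensorPowAdd L m n) (Iso.refl L)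

/-- powers of the structure sheaf -/
noncomputable def tensorPowUnit (X : Scheme.{u}) : ∀ n : ℕ,
    CohB1.tensorPow (Coh.structureModule X) n ≅ Coh.structureModule X
  | 0 => Iso.refl _
  | n + 1 => tensorUnitRight _ ≪≫ tensorPowUnit X n

/-- powers of a tensor product -/
noncomputable def tensorPowTensor (L M : X.Modules) : ∀ n : ℕ,
    CohB1.tensorPow (CohB1.tensorMod L M) n ≅
      CohB1.tensorMod (CohB1.tensorPow L n) (CohB1.tensorPow M n)
  | 0 => (tensorUnitRight _).symm
  | n + 1 => tensorIso (tensorPowTensor L M n) (Iso.refl _) ≪≫ tensorMiddleFour _ _ _ _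

/-- exponents multiply -/
noncomputable def tensorPowMul (L : X.Modules) (m : ℕ) : ∀ n : ℕ,
    CohB1.tensorPow (CohB1.tensorPow L m) n ≅ CohB1.tensorPow L (m * n)
  | 0 => Iso.refl _
  | n + 1 => tensorIso (tensorPowMul L m n) (Iso.refl _) ≪≫ tensorPowAdd L (m * n) m

end Groth.L00.Tensor
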