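/-
The stalk of a tensor product of presheaves of modules is the tensor product of the stalks.
-/
import Groth.Agent.L00.TensorMod
import Groth.Prelude.Def_FlatMod2
import Mathlib.Algebra.Category.ModuleCat.Stalk

set_option autoImplicit false

universe u

open CategoryTheory MonoidalCategory AlgebraicGeometry Opposite TopologicalSpace TensorProduct

namespace Groth.L00.StalkTensor

open Groth.L00.Tensor

variable {X : Scheme.{u}} (P Q : PX X) (x : X)

/-- the local ring -/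
noncomputable abbrev Ox (X : Scheme.{u}) (x : X) : CommRingCat.{u} := X.presheaf.stalk x

/-- stalk of a presheaf of modules -/
noncomputable abbrev St (P : PX X) (x : X) : Type u :=
  ↑(TopCat.Presheaf.stalk (PresheafOfModules.presheaf (R := X.presheaf ⋙ forget₂ CommRingCat RingCat)
    (show PresheafOfModules (X.presheaf ⋙ forget₂ CommRingCat RingCat) from P)) x)

/-- germ of a section -/
noncomputable def germ {U : X.Opens} (hx : x ∈ U) : (P.obj (op U)) →+ St P x :=
  (TopCat.Presheaf.germ (PresheafOfModules.presheaf (R := X.presheaf ⋙ forget₂ CommRingCat RingCat)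
    (show PresheafOfModules (X.presheaf ⋙ forget₂ CommRingCat RingCat) from P)) U x hx).hom

theorem germ_smul' {U : X.Opens} (hx : x ∈ U) (r : X.presheaf.obj (op U)) (m : P.obj (op U)) :
    germ P x hx (r • m) = X.presheaf.germ U x hx r • germ P x hx m :=
  PresheafOfModules.germ_smul (R := X.presheaf)
    (show PresheafOfModules (X.presheaf ⋙ forget₂ CommRingCat RingCat) from P) x U hx r m

theorem exists_germ (p : St P x) : ∃ (U : X.Opens) (hx : x ∈ U) (m : P.obj (op U)), germ P x hx m = p := by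
  obtain ⟨U, hx, m, rfl⟩ := TopCat.Presheaf.exists_germ_eq
    (F := PresheafOfModules.presheaf (R := X.presheaf ⋙ forget₂ CommRingCat RingCat)
      (show PresheafOfModules (X.presheaf ⋙ forget₂ CommRingCat RingCat) from P)) (x := x) p
  exact ⟨U, hx, m, rfl⟩

theorem germ_rs {U V : X.Opens} (i : V ⟶ U) (hx : x ∈ V) (m : P.obj (op U)) :
    germ P x hx (rs P i.op m) = germ P x (i.le hx) m :=
  TopCat.Presheaf.germ_res_apply (PresheafOfModules.presheaf (R := X.presheaf ⋙ forget₂ CommRingCat RingCat)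
    (show PresheafOfModules (X.presheaf ⋙ forget₂ CommRingCat RingCat) from P)) i x hx m

theorem germ_eq {U V : X.Opens} (hU : x ∈ U) (hV : x ∈ V) {m : P.obj (op U)} {n : P.obj (op V)}
    (h : germ P x hU m = germ P x hV n) :
    ∃ (W : X.Opens) (_ : x ∈ W) (i : W ⟶ U) (j : W ⟶ V), rs P i.op m = rs P j.op n :=
  TopCat.Presheaf.germ_eq (PresheafOfModules.presheaf (R := X.presheaf ⋙ forget₂ CommRingCat RingCat)
    (show PresheafOfModules (X.presheaf ⋙ forget₂ CommRingCat RingCat) from P)) x hU hV m n h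

theorem exists_pair (p : St P x) (q : St Q x) : ∃ (U : X.Opens) (hx : x ∈ U) (m : P.obj (op U))
    (n : Q.obj (op U)), germ P x hx m = p ∧ germ Q x hx n = q := by
  obtain ⟨U, hU, m, rfl⟩ := exists_germ P x p
  obtain ⟨V, hV, n, rfl⟩ := exists_germ Q x q
  refine ⟨U ⊓ V, ⟨hU, hV⟩, rs P (homOfLE inf_le_left).op m, rs Q (homOfLE inf_le_right).op n, ?_, ?_⟩
  · exact germ_rs P x _ _ _
  · exact germ_rs Q x _ _ _

/-- the germ of a pure tensor -/
noncomputable def gt {U : X.Opens} (hx : x ∈ U) (m : P.obj (op U)) (n : Q.obj (op U)) : St (P ⊗ Q) x :=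
  germ (P ⊗ Q) x hx (m ⊗ₜ[X.sheaf.obj.obj (op U)] n)

theorem gt_congr {U V : X.Opens} (hU : x ∈ U) (hV : x ∈ V) {m : P.obj (op U)} {n : Q.obj (op U)}
    {m' : P.obj (op V)} {n' : Q.obj (op V)} (hm : germ P x hU m = germ P x hV m')
    (hn : germ Q x hU n = germ Q x hV n') : gt P Q x hU m n = gt P Q x hV m' n' := by
  obtain ⟨W₁, h₁, i₁, j₁, e₁⟩ := germ_eq P x hU hV hm
  obtain ⟨W₂, h₂, i₂, j₂, e₂⟩ := germ_eq Q x hU hV hn
  let a : W₁ ⊓ W₂ ⟶ W₁ := homOfLE inf_le_left
  let b : W₁ ⊓ W₂ ⟶ W₂ := homOfLE inf_le_right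
  have hi : a ≫ i₁ = b ≫ i₂ := Subsingleton.elim _ _
  have hj : a ≫ j₁ = b ≫ j₂ := Subsingleton.elim _ _
  have e₁' : rs P (a ≫ i₁).op m = rs P (a ≫ j₁).op m' := by
    have := congrArg (rs P a.op) e₁
    rwa [rs_comp, rs_comp] at this
  have e₂' : rs Q (a ≫ i₁).op n = rs Q (a ≫ j₁).op n' := by
    have := congrArg (rs Q b.op) e₂
    rw [rs_comp, rs_comp] at this
    rwa [hi, hj]
  unfold gt
  rw [← germ_rs (P ⊗ Q) x (a ≫ i₁) (show x ∈ W₁ ⊓ W₂ from ⟨h₁, h₂⟩),
    ← germ_rs (P ⊗ Q) x (a ≫ j₁) (show x ∈ W₁ ⊓ W₂ from ⟨h₁, h₂⟩)]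
  refine congrArg (germ (P ⊗ Q) x _) ((rs_tmul (a ≫ i₁).op m n).trans ?_)
  exact (congrArg₂ (fun s t => s ⊗ₜ[X.sheaf.obj.obj (op (W₁ ⊓ W₂))] t) e₁' e₂').trans (rs_tmul (a ≫ j₁).op m' n').symm

/-- the product of two germs -/
noncomputable def pr (p : St P x) (q : St Q x) : St (P ⊗ Q) x :=
  let h := exists_pair P Q x p q
  gt P Q x h.choose_spec.choose h.choose_spec.choose_spec.choose
    h.choose_spec.choose_spec.choose_spec.choose

theorem pr_germ {U : X.Opens} (hx : x ∈ U) (m : P.obj (op U)) (n : Q.obj (op U)) :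
    pr P Q x (germ P x hx m) (germ Q x hx n) = gt P Q x hx m n :=
  let h := exists_pair P Q x (germ P x hx m) (germ Q x hx n)
  gt_congr P Q x _ _ h.choose_spec.choose_spec.choose_spec.choose_spec.1
    h.choose_spec.choose_spec.choose_spec.choose_spec.2

theorem pr_add_left (p p' : St P x) (q : St Q x) : pr P Q x (p + p') q = pr P Q x p q + pr P Q x p' q := by
  obtain ⟨U, hU, m, m', rfl, rfl⟩ := exists_pair P P x p p'
  obtain ⟨V, hV, n, rfl⟩ := exists_germ Q x q
  rw [← germ_rs P x (homOfLE inf_le_left : U ⊓ V ⟶ U) ⟨hU, hV⟩ m,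
    ← germ_rs P x (homOfLE inf_le_left : U ⊓ V ⟶ U) ⟨hU, hV⟩ m',
    ← germ_rs Q x (homOfLE inf_le_right : U ⊓ V ⟶ V) ⟨hU, hV⟩ n, ← map_add, pr_germ, pr_germ, pr_germ]
  exact (congrArg (germ (P ⊗ Q) x _) (TensorProduct.add_tmul _ _ _)).trans (map_add _ _ _)

theorem pr_add_right (p : St P x) (q q' : St Q x) : pr P Q x p (q + q') = pr P Q x p q + pr P Q x p q' := by
  obtain ⟨U, hU, n, n', rfl, rfl⟩ := exists_pair Q Q x q q'
  obtain ⟨V, hV, m, rfl⟩ := exists_germ P x p
  rw [← germ_rs Q x (homOfLE inf_le_left : U ⊓ V ⟶ U) ⟨hU, hV⟩ n,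
    ← germ_rs Q x (homOfLE inf_le_left : U ⊓ V ⟶ U) ⟨hU, hV⟩ n',
    ← germ_rs P x (homOfLE inf_le_right : U ⊓ V ⟶ V) ⟨hU, hV⟩ m, ← map_add, pr_germ, pr_germ, pr_germ]
  exact (congrArg (germ (P ⊗ Q) x _) (TensorProduct.tmul_add _ _ _)).trans (map_add _ _ _)

theorem pr_smul_left (r : Ox X x) (p : St P x) (q : St Q x) :
    pr P Q x (r • p) q = r • pr P Q x p q := by
  obtain ⟨U, hU, m, n, rfl, rfl⟩ := exists_pair P Q x p q
  obtain ⟨V, hV, a, rfl⟩ := TopCat.Presheaf.exists_germ_eq (F := X.presheaf) (x := x) r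
  let iU : U ⊓ V ⟶ U := homOfLE inf_le_left
  let iV : U ⊓ V ⟶ V := homOfLE inf_le_right
  have hW : x ∈ U ⊓ V := ⟨hU, hV⟩
  rw [← germ_rs P x iU hW m, ← germ_rs Q x iU hW n,
    ← TopCat.Presheaf.germ_res_apply X.presheaf iV x hW a, ← germ_smul' P x hW, pr_germ, pr_germ]
  unfold gt
  exact (congrArg (germ (P ⊗ Q) x hW) (TensorProduct.smul_tmul' (R := X.sheaf.obj.obj (op (U ⊓ V))) (R' := X.sheaf.obj.obj (op (U ⊓ V))) _ _ _).symm).trans
    (germ_smul' (P ⊗ Q) x hW _ _)

theorem pr_smul_right (r : Ox X x) (p : St P x) (q : St Q x) :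
    pr P Q x p (r • q) = r • pr P Q x p q := by
  obtain ⟨U, hU, m, n, rfl, rfl⟩ := exists_pair P Q x p q
  obtain ⟨V, hV, a, rfl⟩ := TopCat.Presheaf.exists_germ_eq (F := X.presheaf) (x := x) r
  let iU : U ⊓ V ⟶ U := homOfLE inf_le_left
  let iV : U ⊓ V ⟶ V := homOfLE inf_le_right
  have hW : x ∈ U ⊓ V := ⟨hU, hV⟩
  rw [← germ_rs P x iU hW m, ← germ_rs Q x iU hW n,
    ← TopCat.Presheaf.germ_res_apply X.presheaf iV x hW a, ← germ_smul' Q x hW, pr_germ, pr_germ]
  unfold gt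
  exact (congrArg (germ (P ⊗ Q) x hW) (TensorProduct.tmul_smul (R := X.sheaf.obj.obj (op (U ⊓ V))) (R' := X.sheaf.obj.obj (op (U ⊓ V))) _ _ _)).trans
    (germ_smul' (P ⊗ Q) x hW _ _)

/-- from the tensor product of stalks to the stalk of the tensor product -/
noncomputable def ofTensor : St P x ⊗[Ox X x] St Q x →ₗ[Ox X x] St (P ⊗ Q) x :=
  TensorProduct.lift (LinearMap.mk₂ (Ox X x) (pr P Q x) (pr_add_left P Q x) (pr_smul_left P Q x)
    (pr_add_right P Q x) (pr_smul_right P Q x))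

/-- on the sections over a neighbourhood -/
noncomputable def toTensor₀ {U : X.Opens} (hx : x ∈ U) :
    (P ⊗ Q).obj (op U) →+ St P x ⊗[Ox X x] St Q x :=
  TensorProduct.liftAddHom (R := X.sheaf.obj.obj (op U)) (M := P.obj (op U)) (N := Q.obj (op U))
    (AddMonoidHom.mk' (fun m => AddMonoidHom.mk' (fun n => germ P x hx m ⊗ₜ germ Q x hx n)
        (fun n n' => by rw [map_add, TensorProduct.tmul_add]))
      (fun m m' => by ext n; simp [TensorProduct.add_tmul]))
    (fun r m n => by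
      change germ P x hx (r • m) ⊗ₜ[Ox X x] germ Q x hx n = germ P x hx m ⊗ₜ[Ox X x] germ Q x hx (r • n)
      exact (congrArg (· ⊗ₜ[Ox X x] germ Q x hx n) (germ_smul' P x hx r m)).trans
        ((TensorProduct.smul_tmul _ _ _).trans
          (congrArg (germ P x hx m ⊗ₜ[Ox X x] ·) (germ_smul' Q x hx r n)).symm))

theorem toTensor₀_res {U V : X.Opens} (i : V ⟶ U) (hx : x ∈ V) (z : (P ⊗ Q).obj (op U)) :
    toTensor₀ P Q x hx (rs (P ⊗ Q) i.op z) = toTensor₀ P Q x (i.le hx) z := by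
  induction z using TensorProduct.induction_on with
  | zero =>
    exact ((congrArg (toTensor₀ P Q x hx) (map_zero ((P ⊗ Q).presheaf.map i.op).hom)).trans
      (map_zero _)).trans (map_zero _).symm
  | tmul m n =>
    change germ P x hx (rs P i.op m) ⊗ₜ[Ox X x] germ Q x hx (rs Q i.op n) = _
    rw [germ_rs, germ_rs]
    rfl
  | add a b ha hb =>
    exact ((congrArg (toTensor₀ P Q x hx) (rs_add (P ⊗ Q) i.op a b)).trans (map_add _ _ _)).trans
      ((congrArg₂ (· + ·) ha hb).trans (map_add (toTensor₀ P Q x (i.le hx)) a b).symm)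

/-- the cocone -/
noncomputable def toTensorNT :
    (OpenNhds.inclusion x).op ⋙ (PresheafOfModules.presheaf (R := X.presheaf ⋙ forget₂ CommRingCat RingCat)
      (show PresheafOfModules (X.presheaf ⋙ forget₂ CommRingCat RingCat) from P ⊗ Q)) ⟶
    (Functor.const _).obj (AddCommGrpCat.of (St P x ⊗[Ox X x] St Q x)) where
  app U := AddCommGrpCat.ofHom (toTensor₀ P Q x U.unop.2)
  naturality U V i := by
    refine AddCommGrpCat.hom_ext (AddMonoidHom.ext fun z => ?_)
    exact toTensor₀_res P Q x ((OpenNhds.inclusion x).map i.unop) V.unop.2 z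

/-- from the stalk of the tensor product to the tensor product of stalks -/
noncomputable def toTensor : St (P ⊗ Q) x →+ St P x ⊗[Ox X x] St Q x :=
  (Limits.colimit.desc _ ⟨_, toTensorNT P Q x⟩ :
    TopCat.Presheaf.stalk _ x ⟶ AddCommGrpCat.of (St P x ⊗[Ox X x] St Q x)).hom

theorem toTensor_germ {U : X.Opens} (hx : x ∈ U) (z : (P ⊗ Q).obj (op U)) :
    toTensor P Q x (germ (P ⊗ Q) x hx z) = toTensor₀ P Q x hx z :=
  congrArg (fun k => (ConcreteCategory.hom k) z)
    (Limits.colimit.ι_desc (⟨_, toTensorNT P Q x⟩ : Limits.Cocone _) (op ⟨U, hx⟩))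

theorem ofTensor_toTensor₀ {U : X.Opens} (hx : x ∈ U) (z : (P ⊗ Q).obj (op U)) :
    ofTensor P Q x (toTensor₀ P Q x hx z) = germ (P ⊗ Q) x hx z := by
  induction z using TensorProduct.induction_on with
  | zero =>
    exact ((congrArg (ofTensor P Q x) (map_zero (toTensor₀ P Q x hx))).trans (map_zero _)).trans
      (map_zero (germ (P ⊗ Q) x hx)).symm
  | tmul m n => exact pr_germ P Q x hx m n
  | add a b ha hb =>
    exact ((congrArg (ofTensor P Q x) (map_add (toTensor₀ P Q x hx) a b)).trans (map_add _ _ _)).trans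
      ((congrArg₂ (· + ·) ha hb).trans (map_add (germ (P ⊗ Q) x hx) a b).symm)

theorem ofTensor_bijective : Function.Bijective (ofTensor P Q x) := by
  have h₁ : ∀ t, toTensor P Q x (ofTensor P Q x t) = t := by
    intro t
    induction t using TensorProduct.induction_on with
    | zero => rw [map_zero, map_zero]
    | tmul p q =>
      obtain ⟨U, hU, m, n, rfl, rfl⟩ := exists_pair P Q x p q
      change toTensor P Q x (pr P Q x (germ P x hU m) (germ Q x hU n)) = _
      rw [pr_germ]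
      exact toTensor_germ P Q x hU _
    | add a b ha hb => rw [map_add, map_add, ha, hb]
  refine ⟨Function.LeftInverse.injective h₁, fun t => ?_⟩
  obtain ⟨U, hU, z, rfl⟩ := exists_germ (P ⊗ Q) x t
  exact ⟨_, ofTensor_toTensor₀ P Q x hU z⟩

/-- `(P ⊗ Q)_x = P_x ⊗ Q_x` -/
noncomputable def stalkTensorEquiv : St P x ⊗[Ox X x] St Q x ≃ₗ[Ox X x] St (P ⊗ Q) x :=
  LinearEquiv.ofBijective (ofTensor P Q x) (ofTensor_bijective P Q x)

end Groth.L00.StalkTensor
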