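/-
The linear stalk functor on modules: exactness, colimits, joint reflection, tensor products.
-/
import Groth.Agent.L00.StalkTensor
import Groth.Agent.L21.Modules
import Groth.Prelude.Def_DerSch
import Groth.Prelude.Def_DCoh4
import Mathlib.Topology.Sheaves.Sheafify
import Mathlib.Topology.Sheaves.Skyscraper
import Mathlib.Algebra.Category.ModuleCat.Colimits

set_option autoImplicit false

universe u

open CategoryTheory CategoryTheory.Limits MonoidalCategory AlgebraicGeometry Opposite TopologicalSpace TensorProduct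

namespace Groth.L00.Stk

open Groth.L00.Tensor Groth.L00.StalkTensor

variable {X : Scheme.{u}} (x : X)

/-- the linear stalk functor -/
noncomputable abbrev F (X : Scheme.{u}) (x : X) : X.Modules ⥤ ModuleCat.{u} (X.presheaf.stalk x) :=
  DerSch.stalkFunctor X x

/-- its underlying functor to abelian groups -/
noncomputable def forgetIso : F X x ⋙ forget₂ (ModuleCat.{u} (X.presheaf.stalk x)) AddCommGrpCat.{u} ≅
    Groth.L21.Mod.stalkF X x :=
  NatIso.ofComponents (fun M => Iso.refl _) (fun {M N} φ => by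
    simp only [Iso.refl_hom, Category.comp_id, Category.id_comp]
    rfl)

instance preservesFiniteLimits : PreservesFiniteLimits (F X x) :=
  haveI : PreservesFiniteLimits
      (F X x ⋙ forget₂ (ModuleCat.{u} (X.presheaf.stalk x)) AddCommGrpCat.{u}) :=
    preservesFiniteLimits_of_natIso (forgetIso x).symm
  ⟨fun J _ _ => preservesLimitsOfShape_of_reflects_of_preserves (F X x) (forget₂ _ AddCommGrpCat.{u})⟩

instance preservesColimits_stalkF : PreservesColimitsOfSize.{u, u} (Groth.L21.Mod.stalkF X x) := by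
  haveI := Groth.L21.Mod.preservesColimitsOfSize_toAbSh (X := X)
  classical
  haveI : PreservesColimitsOfSize.{u, u} (TopCat.Sheaf.forget AddCommGrpCat.{u} X.toTopCat ⋙
      TopCat.Presheaf.stalkFunctor AddCommGrpCat.{u} x) :=
    (stalkSkyscraperSheafAdjunction (x : X.toTopCat)).leftAdjoint_preservesColimits
  exact preservesColimits_of_natIso (Groth.L21.Mod.stalkFIso x)

instance preservesColimits : PreservesColimitsOfSize.{u, u} (F X x) :=
  haveI : PreservesColimitsOfSize.{u, u}
      (F X x ⋙ forget₂ (ModuleCat.{u} (X.presheaf.stalk x)) AddCommGrpCat.{u}) :=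
    preservesColimits_of_natIso (forgetIso x).symm
  ⟨fun {J _} => preservesColimitsOfShape_of_reflects_of_preserves (F X x) (forget₂ _ AddCommGrpCat.{u})⟩

instance preservesFiniteColimits : PreservesFiniteColimits (F X x) :=
  ⟨fun J _ _ =>
    haveI : PreservesFiniteColimits
        (F X x ⋙ forget₂ (ModuleCat.{u} (X.presheaf.stalk x)) AddCommGrpCat.{u}) :=
      preservesFiniteColimits_of_natIso (forgetIso x).symm
    preservesColimitsOfShape_of_reflects_of_preserves (F X x) (forget₂ _ AddCommGrpCat.{u})⟩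

/-- a module is zero iff all linear stalks are -/
theorem isZero_iff (M : X.Modules) : IsZero M ↔ ∀ x, IsZero ((F X x).obj M) := by
  rw [Groth.L21.Mod.isZero_iff_stalk]
  refine forall_congr' fun x => ⟨fun h => ?_, fun h => ?_⟩
  · haveI : Subsingleton (M.presheaf.stalk x) := AddCommGrpCat.subsingleton_of_isZero h
    haveI : Subsingleton ((F X x).obj M) := this
    exact ModuleCat.isZero_of_subsingleton _
  · exact ((forget₂ (ModuleCat.{u} (X.presheaf.stalk x)) AddCommGrpCat.{u}).map_isZero h).of_iso
      ((forgetIso x).app M).symm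

section Tensor

theorem stalk_unit_bijective (P : PX X) :
    Function.Bijective ((TopCat.Presheaf.stalkFunctor AddCommGrpCat.{u} x).map
      ((PresheafOfModules.toPresheaf _).map (Groth.L00.Tensor.unit P))) := by
  classical
  haveI := TopCat.Presheaf.stalkFunctor_map_unit_toSheafify_isIso (x : X.toTopCat) AddCommGrpCat.{u}
    (PresheafOfModules.presheaf P)
  exact (ConcreteCategory.isIso_iff_bijective _).1 this

/-- the germ map of the sheafified tensor product, on a pure tensor -/
noncomputable def τfun (M N : X.Modules) :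
    StalkTensor.St (pre M) x ⊗[Ox X x] StalkTensor.St (pre N) x →+
      (CohB1.tensorMod M N).presheaf.stalk x :=
  (((TopCat.Presheaf.stalkFunctor AddCommGrpCat.{u} x).map
      ((PresheafOfModules.toPresheaf _).map (Groth.L00.Tensor.unit (pre M ⊗ pre N)))).hom).comp
    (ofTensor (pre M) (pre N) x).toAddMonoidHom

theorem τfun_tmul (M N : X.Modules) {U : X.Opens} (hx : x ∈ U) (m : (pre M).obj (op U))
    (n : (pre N).obj (op U)) :
    τfun x M N (germ (pre M) x hx m ⊗ₜ germ (pre N) x hx n) =
      germ (pre (CohB1.tensorMod M N)) x hx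
        ((Groth.L00.Tensor.unit (pre M ⊗ pre N)).app (op U) (m ⊗ₜ[X.sheaf.obj.obj (op U)] n)) := by
  change ((TopCat.Presheaf.stalkFunctor AddCommGrpCat.{u} x).map
    ((PresheafOfModules.toPresheaf _).map (Groth.L00.Tensor.unit (pre M ⊗ pre N))))
    (pr (pre M) (pre N) x (germ (pre M) x hx m) (germ (pre N) x hx n)) = _
  rw [pr_germ]
  exact TopCat.Presheaf.stalkFunctor_map_germ_apply U x hx _ _

theorem τfun_smul (M N : X.Modules) (r : Ox X x)
    (t : StalkTensor.St (pre M) x ⊗[Ox X x] StalkTensor.St (pre N) x) :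
    τfun x M N (r • t) = r • τfun x M N t := by
  induction t using TensorProduct.induction_on with
  | zero => rw [smul_zero, map_zero, smul_zero]
  | tmul p q =>
    obtain ⟨U, hU, m, n, rfl, rfl⟩ := exists_pair (pre M) (pre N) x p q
    obtain ⟨V, hV, a, rfl⟩ := TopCat.Presheaf.exists_germ_eq (F := X.presheaf) (x := x) r
    let iU : U ⊓ V ⟶ U := homOfLE inf_le_left
    let iV : U ⊓ V ⟶ V := homOfLE inf_le_right
    have hW : x ∈ U ⊓ V := ⟨hU, hV⟩
    rw [TensorProduct.smul_tmul', ← germ_rs (pre M) x iU hW m, ← germ_rs (pre N) x iU hW n,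
      ← TopCat.Presheaf.germ_res_apply X.presheaf iV x hW a, ← germ_smul' (pre M) x hW, τfun_tmul, τfun_tmul]
    refine Eq.trans (congrArg (germ _ x hW) ?_) (germ_smul' (pre (CohB1.tensorMod M N)) x hW _ _)
    exact (congrArg ((Groth.L00.Tensor.unit (pre M ⊗ pre N)).app (op (U ⊓ V)))
      (TensorProduct.smul_tmul' (R := X.sheaf.obj.obj (op (U ⊓ V)))
        (R' := X.sheaf.obj.obj (op (U ⊓ V))) _ _ _).symm).trans
      (((Groth.L00.Tensor.unit (pre M ⊗ pre N)).app (op (U ⊓ V))).hom.map_smul _ _)
  | add a b ha hb => rw [smul_add, map_add, ha, hb, map_add, smul_add]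

theorem τfun_bijective (M N : X.Modules) : Function.Bijective (τfun x M N) :=
  (stalk_unit_bijective x (pre M ⊗ pre N)).comp (ofTensor_bijective (pre M) (pre N) x)

/-- `(M ⊗ N)_x ≅ M_x ⊗ N_x` -/
noncomputable def τ (M N : X.Modules) :
    ModuleCat.of (Ox X x) (StalkTensor.St (pre M) x ⊗[Ox X x] StalkTensor.St (pre N) x) ≅
      (F X x).obj (CohB1.tensorMod M N) :=
  LinearEquiv.toModuleIso (LinearEquiv.ofBijective
    { toFun := τfun x M N, map_add' := map_add _, map_smul' := τfun_smul x M N }
    (τfun_bijective x M N))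

/-- naturality -/
theorem τ_natural {M M' N N' : X.Modules} (f : M ⟶ M') (g : N ⟶ N') :
    ModuleCat.ofHom (TensorProduct.map ((F X x).map f).hom ((F X x).map g).hom) ≫ (τ x M' N').hom =
      (τ x M N).hom ≫ (F X x).map (tensorMap f g) := by
  ext : 1
  refine TensorProduct.ext' fun p q => ?_
  obtain ⟨U, hU, m, n, rfl, rfl⟩ := exists_pair (pre M) (pre N) x p q
  change τfun x M' N' (((F X x).map f).hom (germ (pre M) x hU m) ⊗ₜ
      ((F X x).map g).hom (germ (pre N) x hU n)) =
    ((F X x).map (tensorMap f g)).hom (τfun x M N (germ (pre M) x hU m ⊗ₜ germ (pre N) x hU n))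
  have h₁ : ((F X x).map f).hom (germ (pre M) x hU m) = germ (pre M') x hU (((preF X).map f).app (op U) m) :=
    DerSch.stalkFunctor_map_germ x f U hU m
  have h₂ : ((F X x).map g).hom (germ (pre N) x hU n) = germ (pre N') x hU (((preF X).map g).app (op U) n) :=
    DerSch.stalkFunctor_map_germ x g U hU n
  rw [h₁, h₂, τfun_tmul, τfun_tmul]
  refine Eq.trans ?_ (DerSch.stalkFunctor_map_germ x (tensorMap f g) U hU _).symm
  refine congrArg (germ _ x hU) ?_
  let h : pre M ⊗ pre N ⟶ pre M' ⊗ pre N' := (preF X).map f ⊗ₘ (preF X).map g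
  have hn : h ≫ Groth.L00.Tensor.unit (pre M' ⊗ pre N') =
      Groth.L00.Tensor.unit (pre M ⊗ pre N) ≫ (preF X).map ((shf X).map h) :=
    (PresheafOfModules.sheafificationAdjunction (𝟙 X.ringCatSheaf.obj)).unit.naturality h
  exact congrArg (fun k : pre M ⊗ pre N ⟶ pre (CohB1.tensorMod M' N') =>
    k.app (op U) (m ⊗ₜ[X.sheaf.obj.obj (op U)] n)) hn

end Tensor

end Groth.L00.Stk
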