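/-
Flat modules `free(yoneda U)^#` and a functorial flat cover of an O_X-module.
-/
import Groth.Agent.L00.StalkFunctor
import Mathlib.Algebra.Category.ModuleCat.Presheaf.Generator
import Mathlib.Algebra.Category.ModuleCat.Products
import Mathlib.RingTheory.Flat.Basic

set_option autoImplicit false
set_option backward.isDefEq.respectTransparency false
set_option backward.isDefEq.respectTransparency.types false

universe u

open CategoryTheory CategoryTheory.Limits AlgebraicGeometry Opposite TopologicalSpace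

namespace Groth.L00.FlatCover

open Groth.L00.Tensor Groth.L00.StalkTensor

variable {X : Scheme.{u}} (x : X)

/-- the structure presheaf of rings -/
abbrev RX (X : Scheme.{u}) := X.presheaf ⋙ forget₂ CommRingCat RingCat

/-- free presheaf on an open -/
noncomputable abbrev fy (U : X.Opens) : PX X :=
  (PresheafOfModules.free (RX X)).obj (yoneda.obj U)

/-- the structure presheaf as a module -/
noncomputable abbrev unitP (X : Scheme.{u}) : PresheafOfModules (RX X) := PresheafOfModules.unit _

/-- the canonical generator -/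
noncomputable def gen (U : X.Opens) {W : X.Opens} (i : W ⟶ U) : (fy U).obj (op W) :=
  ModuleCat.freeMk i

theorem rs_gen (U : X.Opens) {W V : X.Opens} (i : W ⟶ U) (j : V ⟶ W) :
    rs (fy U) j.op (gen U i) = gen U (j ≫ i) :=
  ModuleCat.freeDesc_apply _ _

theorem smul_gen (U : X.Opens) {W : X.Opens} (i : W ⟶ U) (m : (fy U).obj (op W)) :
    ∃ c : X.presheaf.obj (op W), m = c • gen U i := by
  have e : ∀ j : W ⟶ U, j = i := fun j => Subsingleton.elim _ _
  let m' : (W ⟶ U) →₀ X.presheaf.obj (op W) := m
  refine ⟨m' i, ?_⟩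
  change m' = m' i • Finsupp.single i (1 : X.presheaf.obj (op W))
  rw [Finsupp.smul_single, smul_eq_mul, mul_one]
  exact Finsupp.ext fun j => by rw [e j, Finsupp.single_eq_same]

theorem eq_zero_of_not_le (U : X.Opens) {W : X.Opens} (h : ¬ W ≤ U) (m : (fy U).obj (op W)) : m = 0 := by
  let m' : (W ⟶ U) →₀ X.presheaf.obj (op W) := m
  change m' = 0
  exact Finsupp.ext fun j => absurd j.le h

variable {U : X.Opens}

theorem subsingleton_St (hx : x ∉ U) : Subsingleton (St (fy U) x) := by
  refine subsingleton_of_forall_eq 0 fun p => ?_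
  obtain ⟨W, hW, m, rfl⟩ := exists_germ (fy U) x p
  rw [eq_zero_of_not_le U (fun h => hx (h hW)) m, map_zero]

variable (hx : x ∈ U)

/-- the generator of the stalk -/
noncomputable def g₀ : St (fy U) x := germ (fy U) x hx (gen U (𝟙 U))

/-- multiples of the generator -/
noncomputable def toSt : Ox X x →ₗ[Ox X x] St (fy U) x := LinearMap.toSpanSingleton _ _ (g₀ x hx)

theorem germ_gen {W : X.Opens} (hW : x ∈ W) (i : W ⟶ U) :
    germ (fy U) x hW (gen U i) = g₀ x hx := by
  rw [g₀, ← germ_rs (fy U) x i hW (gen U (𝟙 U)), rs_gen, Category.comp_id]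

theorem toSt_bijective : Function.Bijective (toSt x hx) := by
  refine ⟨?_, fun p => ?_⟩
  · let φ : fy U ⟶ (unitP X : PX X) :=
      PresheafOfModules.freeYonedaEquiv.symm (1 : X.presheaf.obj (op U))
    have hφ : φ.app (op U) (gen U (𝟙 U)) = (1 : X.presheaf.obj (op U)) :=
      PresheafOfModules.freeYonedaEquiv_symm_app _ U _
    refine (injective_iff_map_eq_zero _).2 fun r hr => ?_
    obtain ⟨V, hV, a, rfl⟩ := TopCat.Presheaf.exists_germ_eq (F := X.presheaf) (x := x) r
    let iU : U ⊓ V ⟶ U := homOfLE inf_le_left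
    let iV : U ⊓ V ⟶ V := homOfLE inf_le_right
    have hW : x ∈ U ⊓ V := ⟨hx, hV⟩
    change (X.presheaf.germ V x hV a : Ox X x) • g₀ x hx = 0 at hr
    rw [← TopCat.Presheaf.germ_res_apply X.presheaf iV x hW a] at hr ⊢
    rw [← germ_gen x hx hW iU, ← germ_smul' (fy U) x hW, ← (germ (fy U) x hW).map_zero] at hr
    obtain ⟨W', hW', i, j, hij⟩ := germ_eq (fy U) x hW hW hr
    have h1 : φ.app (op W') (rs (fy U) i.op (X.presheaf.map iV.op a • gen U iU)) = 0 := by
      rw [hij]
      exact (congrArg (φ.app (op W')) (map_zero (((fy U).map j.op).hom))).trans (map_zero (φ.app (op W')).hom)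
    have h2 : rs (fy U) i.op (X.presheaf.map iV.op a • gen U iU) =
        X.presheaf.map i.op (X.presheaf.map iV.op a) • gen U (i ≫ iU) :=
      (rs_smul (fy U) i.op _ _).trans (congrArg _ (rs_gen U iU i))
    have h3 : φ.app (op W') (gen U (i ≫ iU)) = (1 : X.presheaf.obj (op W')) := by
      have := PresheafOfModules.naturality_apply φ (i ≫ iU).op (gen U (𝟙 U))
      rw [hφ] at this
      refine Eq.trans ?_ (this.trans (map_one (X.presheaf.map (i ≫ iU).op).hom))
      exact congrArg (φ.app (op W')) ((rs_gen U (𝟙 U) (i ≫ iU)).trans (congrArg _ (Category.comp_id _))).symm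
    rw [h2, (φ.app (op W')).hom.map_smul, h3] at h1
    have h4 : X.presheaf.map i.op (X.presheaf.map iV.op a) = 0 := (mul_one _).symm.trans h1
    rw [← TopCat.Presheaf.germ_res_apply X.presheaf i x hW' (X.presheaf.map iV.op a), h4, map_zero]
  · obtain ⟨W, hW, m, rfl⟩ := exists_germ (fy U) x p
    have hW' : x ∈ W ⊓ U := ⟨hW, hx⟩
    obtain ⟨c, hc⟩ := smul_gen U (homOfLE inf_le_right : W ⊓ U ⟶ U) (rs (fy U) (homOfLE inf_le_left).op m)
    refine ⟨X.presheaf.germ _ x hW' c, ?_⟩
    rw [← germ_rs (fy U) x (homOfLE inf_le_left) hW' m, hc, germ_smul', germ_gen x hx hW']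
    rfl

theorem flat_St : Module.Flat (Ox X x) (St (fy U) x) := by
  by_cases h : x ∈ U
  · exact Module.Flat.of_linearEquiv (LinearEquiv.ofBijective (toSt x h) (toSt_bijective x h)).symm
  · haveI := subsingleton_St x h
    infer_instance

/-- stalk of the sheafification, linearly -/
noncomputable def ηx (P : PX X) : St P x →ₗ[Ox X x] St (pre ((shf X).obj P)) x where
  toFun := (TopCat.Presheaf.stalkFunctor AddCommGrpCat.{u} x).map
    ((PresheafOfModules.toPresheaf _).map (Groth.L00.Tensor.unit P))
  map_add' := map_add _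
  map_smul' r p := by
    obtain ⟨W, hW, m, rfl⟩ := exists_germ P x p
    obtain ⟨V, hV, a, rfl⟩ := TopCat.Presheaf.exists_germ_eq (F := X.presheaf) (x := x) r
    let iW : W ⊓ V ⟶ W := homOfLE inf_le_left
    let iV : W ⊓ V ⟶ V := homOfLE inf_le_right
    have hWV : x ∈ W ⊓ V := ⟨hW, hV⟩
    have key : ∀ n : P.obj (op (W ⊓ V)), (TopCat.Presheaf.stalkFunctor AddCommGrpCat.{u} x).map
        ((PresheafOfModules.toPresheaf _).map (Groth.L00.Tensor.unit P)) (germ P x hWV n) =
        germ (pre ((shf X).obj P)) x hWV ((Groth.L00.Tensor.unit P).app _ n) :=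
      fun n => TopCat.Presheaf.stalkFunctor_map_germ_apply _ x hWV _ _
    change _ = X.presheaf.germ V x hV a • _
    rw [← germ_rs P x iW hWV m, ← TopCat.Presheaf.germ_res_apply X.presheaf iV x hWV a, ← germ_smul' P x hWV]
    refine (key _).trans ?_
    rw [key, ← germ_smul']
    exact congrArg _ (((Groth.L00.Tensor.unit P).app (op (W ⊓ V))).hom.map_smul _ _)

theorem ηx_bijective (P : PX X) : Function.Bijective (ηx x P) := Groth.L00.Stk.stalk_unit_bijective x P

theorem ηx_germ (P : PX X) {W : X.Opens} (hW : x ∈ W) (n : P.obj (op W)) :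
    ηx x P (germ P x hW n) = germ (pre ((shf X).obj P)) x hW ((Groth.L00.Tensor.unit P).app _ n) := by
  change (TopCat.Presheaf.stalkFunctor AddCommGrpCat.{u} x).map
    ((PresheafOfModules.toPresheaf _).map (Groth.L00.Tensor.unit P)) (germ P x hW n) = _
  exact TopCat.Presheaf.stalkFunctor_map_germ_apply _ x hW _ _

/-- the flat generators -/
noncomputable def G (U : X.Opens) : X.Modules := (shf X).obj (fy U)

theorem isFlat_G (U : X.Opens) : FlatMod.IsFlat (G U) := fun x =>
  haveI := flat_St x (U := U)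
  Module.Flat.of_linearEquiv (LinearEquiv.ofBijective (ηx x (fy U)) (ηx_bijective x _)).symm

theorem isFlat_coprod {ι : Type u} (M : ι → X.Modules) (h : ∀ i, FlatMod.IsFlat (M i)) :
    FlatMod.IsFlat (∐ M) := by
  classical
  intro x
  haveI : ∀ i, Module.Flat (X.presheaf.stalk x) ((Groth.L00.Stk.F X x).obj (M i)) := fun i => h i x
  exact Module.Flat.of_linearEquiv ((PreservesCoproduct.iso (Groth.L00.Stk.F X x) M) ≪≫
    ModuleCat.coprodIsoDirectSum _).toLinearEquiv

/-- indices of the cover: local sections -/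
abbrev Ix (M : X.Modules) : Type u := Σ U : X.Opens, (pre M).obj (op U)

/-- the map of a generator given by a section -/
noncomputable def genMap {M : X.Modules} {U : X.Opens} (s : (pre M).obj (op U)) : G U ⟶ M :=
  ((shfAdj' X).homEquiv (fy U) M).symm
    (PresheafOfModules.freeYonedaEquiv (R := RX X).symm s)
where
  /-- the sheafification adjunction -/
  shfAdj' (X : Scheme.{u}) : shf X ⊣ preF X :=
    PresheafOfModules.sheafificationAdjunction (𝟙 X.ringCatSheaf.obj)

theorem genMap_comp {M N : X.Modules} (φ : M ⟶ N) {U : X.Opens} (s : (pre M).obj (op U)) :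
    genMap s ≫ φ = genMap (((preF X).map φ).app (op U) s) := by
  refine (Adjunction.homEquiv_naturality_right_symm _ _ _).symm.trans (congrArg _ ?_)
  apply PresheafOfModules.freeYonedaEquiv.injective
  rw [Equiv.apply_symm_apply]
  refine (PresheafOfModules.freeYonedaEquiv_comp _ _).trans ?_
  exact congrArg _ (Equiv.apply_symm_apply _ _)

/-- the functorial flat coverBig -/
noncomputable def coverBig (X : Scheme.{u}) : X.Modules ⥤ X.Modules where
  obj M := ∐ fun i : Ix M => G i.1
  map φ := Sigma.desc fun i => Sigma.ι (fun j : Ix _ => G j.1) ⟨i.1, ((preF X).map φ).app (op i.1) i.2⟩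
  map_id M := by
    refine Sigma.hom_ext _ _ fun i => ?_
    rw [Sigma.ι_desc, Category.comp_id]
    rfl
  map_comp φ ψ := by
    refine Sigma.hom_ext _ _ fun i => ?_
    rw [Sigma.ι_desc, Sigma.ι_desc_assoc, Sigma.ι_desc]
    rfl

/-- the covering map -/
noncomputable def πBig (X : Scheme.{u}) : coverBig X ⟶ 𝟭 X.Modules where
  app M := Sigma.desc fun i : Ix M => genMap i.2
  naturality M N φ := by
    refine Sigma.hom_ext _ _ fun i => ?_
    dsimp [coverBig]
    rw [Sigma.ι_desc_assoc, Sigma.ι_desc, Sigma.ι_desc_assoc, genMap_comp]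
    rfl

theorem isFlat_coverBig (M : X.Modules) : FlatMod.IsFlat ((coverBig X).obj M) :=
  isFlat_coprod _ fun i => isFlat_G i.1

theorem epi_πBig (M : X.Modules) : Epi ((πBig X).app M) := by
  apply Preadditive.epi_of_isZero_cokernel
  rw [Groth.L00.Stk.isZero_iff]
  intro x
  haveI : Epi ((Groth.L00.Stk.F X x).map ((πBig X).app M)) := by
    rw [ModuleCat.epi_iff_surjective]
    intro p
    obtain ⟨W, hW, s, rfl⟩ := exists_germ (pre M) x p
    let i : Ix M := ⟨W, s⟩
    refine ⟨(Groth.L00.Stk.F X x).map (Sigma.ι (fun j : Ix M => G j.1) i)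
      (germ (pre (G W)) x hW ((Groth.L00.Tensor.unit (fy W)).app _ (gen W (𝟙 W)))), ?_⟩
    have : Sigma.ι (fun j : Ix M => G j.1) i ≫ (πBig X).app M = genMap s := Sigma.ι_desc _ _
    refine ((ConcreteCategory.comp_apply _ _ _).symm.trans (ConcreteCategory.congr_hom
      (((Groth.L00.Stk.F X x).map_comp _ _).symm.trans (congrArg (Groth.L00.Stk.F X x).map this)) _)).trans ?_
    refine (DerSch.stalkFunctor_map_germ x (genMap s) W hW _).trans ?_
    refine congrArg (germ (pre M) x hW) ?_
    have h2 : Groth.L00.Tensor.unit (fy W) ≫ (preF X).map (genMap s) =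
        PresheafOfModules.freeYonedaEquiv (R := RX X).symm s :=
      ((genMap.shfAdj' X).homEquiv_unit _ _ _).symm.trans (Equiv.apply_symm_apply _ _)
    refine (congrArg (fun k : fy W ⟶ pre M => k.app (op W) (gen W (𝟙 W))) h2).trans ?_
    exact PresheafOfModules.freeYonedaEquiv_symm_app _ W s
  exact (isZero_cokernel_of_epi _).of_iso (PreservesCokernel.iso (Groth.L00.Stk.F X x) _)

/-- the reduced cover: the cover of zero is zero -/
noncomputable def cover (X : Scheme.{u}) : X.Modules ⥤ X.Modules where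
  obj M := cokernel ((coverBig X).map (0 : M ⟶ M))
  map φ := cokernel.map _ _ ((coverBig X).map φ) ((coverBig X).map φ)
    (by rw [← Functor.map_comp, ← Functor.map_comp, zero_comp, comp_zero])
  map_id M := by
    refine coequalizer.hom_ext ?_
    simp
  map_comp φ ψ := by
    refine coequalizer.hom_ext ?_
    simp

theorem map_zero_πBig (M : X.Modules) : (coverBig X).map (0 : M ⟶ M) ≫ (πBig X).app M = 0 :=
  ((πBig X).naturality (0 : M ⟶ M)).trans comp_zero

/-- the covering map -/
noncomputable def π (X : Scheme.{u}) : cover X ⟶ 𝟭 X.Modules where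
  app M := cokernel.desc _ ((πBig X).app M) (map_zero_πBig M)
  naturality M N φ := by
    refine coequalizer.hom_ext ?_
    dsimp [cover]
    simp only [cokernel.π_desc_assoc, cokernel.π_desc, Category.assoc]
    exact (πBig X).naturality φ

theorem epi_π (M : X.Modules) : Epi ((π X).app M) :=
  haveI := epi_πBig M
  epi_of_epi_fac (f := cokernel.π ((coverBig X).map (0 : M ⟶ M))) (cokernel.π_desc _ _ (map_zero_πBig M))

theorem isFlat_cover (M : X.Modules) : FlatMod.IsFlat ((cover X).obj M) := fun x => by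
  let e : (coverBig X).obj M ⟶ (coverBig X).obj M := (coverBig X).map (0 : M ⟶ M)
  have he : e ≫ e = e := by rw [← Functor.map_comp, zero_comp]
  let s : (cover X).obj M ⟶ (coverBig X).obj M :=
    cokernel.desc e (𝟙 _ - e) (by rw [Preadditive.comp_sub, Category.comp_id, he, sub_self])
  have hs : s ≫ cokernel.π e = 𝟙 _ := by
    refine coequalizer.hom_ext ?_
    change cokernel.π e ≫ s ≫ cokernel.π e = cokernel.π e ≫ 𝟙 _
    rw [cokernel.π_desc_assoc, Preadditive.sub_comp, cokernel.condition, sub_zero, Category.id_comp,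
      Category.comp_id]
  haveI : Module.Flat (X.presheaf.stalk x) ((Groth.L00.Stk.F X x).obj ((coverBig X).obj M)) :=
    isFlat_coverBig M x
  exact Module.Flat.of_retract ((Groth.L00.Stk.F X x).map s).hom ((Groth.L00.Stk.F X x).map (cokernel.π e)).hom
    (congrArg ModuleCat.Hom.hom (((Groth.L00.Stk.F X x).map_comp _ _).symm.trans
      ((congrArg (Groth.L00.Stk.F X x).map hs).trans ((Groth.L00.Stk.F X x).map_id _))))

theorem isZero_cover {M : X.Modules} (h : IsZero M) : IsZero ((cover X).obj M) := by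
  have e : (coverBig X).map (0 : M ⟶ M) = 𝟙 _ := by rw [h.eq_of_src (0 : M ⟶ M) (𝟙 M), CategoryTheory.Functor.map_id]
  haveI : Epi ((coverBig X).map (0 : M ⟶ M)) := by rw [e]; infer_instance
  exact isZero_cokernel_of_epi _

end Groth.L00.FlatCover
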