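/-
An additive functor preserving coproducts commutes with the total complex of a bifunctor.
-/
import Mathlib.Algebra.Homology.Bifunctor
import Mathlib.Algebra.Homology.Additive
import Mathlib.CategoryTheory.Limits.Preserves.Shapes.Products

set_option autoImplicit false
set_option quotPrecheck false
set_option backward.isDefEq.respectTransparency false
set_option backward.isDefEq.respectTransparency.types false

open CategoryTheory CategoryTheory.Limits HomologicalComplex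

namespace Groth.L00.FunctorTotal

universe v v' w w₁

variable {C₁ C₂ C₁' C₂' : Type*} [Category C₁] [Category C₂] [Category C₁'] [Category C₂']
  {D : Type*} [Category.{v} D] {E : Type*} [Category.{v'} E]
  [Preadditive C₁] [Preadditive C₂] [Preadditive C₁'] [Preadditive C₂'] [Preadditive D] [Preadditive E]
  (F : C₁ ⥤ C₂ ⥤ D) [F.Additive] [∀ X, (F.obj X).Additive]
  (F' : C₁' ⥤ C₂' ⥤ E) [F'.Additive] [∀ X, (F'.obj X).Additive]
  (G₁ : C₁ ⥤ C₁') (G₂ : C₂ ⥤ C₂') (G : D ⥤ E) [G₁.Additive] [G₂.Additive] [G.Additive]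
  (β : ∀ X Y, (F'.obj (G₁.obj X)).obj (G₂.obj Y) ≅ G.obj ((F.obj X).obj Y))
  (hβ₁ : ∀ {X X' : C₁} (f : X ⟶ X') (Y : C₂),
    (F'.map (G₁.map f)).app (G₂.obj Y) ≫ (β X' Y).hom = (β X Y).hom ≫ G.map ((F.map f).app Y))
  (hβ₂ : ∀ (X : C₁) {Y Y' : C₂} (g : Y ⟶ Y'),
    (F'.obj (G₁.obj X)).map (G₂.map g) ≫ (β X Y').hom = (β X Y).hom ≫ G.map ((F.obj X).map g))
  {I₁ I₂ J : Type w₁} {c₁ : ComplexShape I₁} {c₂ : ComplexShape I₂} {c : ComplexShape J}
  [TotalComplexShape c₁ c₂ c] [DecidableEq J]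
  (K₁ : HomologicalComplex C₁ c₁) (K₂ : HomologicalComplex C₂ c₂)

local notation "Z" => HomologicalComplex.mapBifunctor K₁ K₂ F c
local notation "L₁" => (G₁.mapHomologicalComplex c₁).obj K₁
local notation "L₂" => (G₂.mapHomologicalComplex c₂).obj K₂

variable [HasMapBifunctor K₁ K₂ F c]
  [HasMapBifunctor ((G₁.mapHomologicalComplex c₁).obj K₁) ((G₂.mapHomologicalComplex c₂).obj K₂) F' c]

/-- the comparison in one degree -/
noncomputable def compX (j : J) : (HomologicalComplex.mapBifunctor L₁ L₂ F' c).X j ⟶ G.obj ((Z).X j) :=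
  mapBifunctorDesc fun i₁ i₂ h => (β (K₁.X i₁) (K₂.X i₂)).hom ≫ G.map (ιMapBifunctor K₁ K₂ F c i₁ i₂ j h)

theorem ι_compX (i₁ : I₁) (i₂ : I₂) (j : J) (h : ComplexShape.π c₁ c₂ c (i₁, i₂) = j) :
    ιMapBifunctor L₁ L₂ F' c i₁ i₂ j h ≫ compX F F' G₁ G₂ G β K₁ K₂ j =
      (β (K₁.X i₁) (K₂.X i₂)).hom ≫ G.map (ιMapBifunctor K₁ K₂ F c i₁ i₂ j h) :=
  ι_mapBifunctorDesc _ i₁ i₂ h

theorem ιOrZero_compX (i₁ : I₁) (i₂ : I₂) (j : J) :
    ιMapBifunctorOrZero L₁ L₂ F' c i₁ i₂ j ≫ compX F F' G₁ G₂ G β K₁ K₂ j =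
      (β (K₁.X i₁) (K₂.X i₂)).hom ≫ G.map (ιMapBifunctorOrZero K₁ K₂ F c i₁ i₂ j) := by
  by_cases h : ComplexShape.π c₁ c₂ c (i₁, i₂) = j
  · rw [ιMapBifunctorOrZero_eq _ _ _ _ _ _ _ h, ιMapBifunctorOrZero_eq _ _ _ _ _ _ _ h, ι_compX]
  · rw [ιMapBifunctorOrZero_eq_zero _ _ _ _ _ _ _ h, ιMapBifunctorOrZero_eq_zero _ _ _ _ _ _ _ h,
      G.map_zero, comp_zero, zero_comp]

include hβ₁ in
theorem d₁_compX (i₁ : I₁) (i₂ : I₂) (j : J) :
    HomologicalComplex.mapBifunctor.d₁ L₁ L₂ F' c i₁ i₂ j ≫ compX F F' G₁ G₂ G β K₁ K₂ j =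
      (β (K₁.X i₁) (K₂.X i₂)).hom ≫ G.map (HomologicalComplex.mapBifunctor.d₁ K₁ K₂ F c i₁ i₂ j) := by
  by_cases h : c₁.Rel i₁ (c₁.next i₁)
  · rw [mapBifunctor.d₁_eq' _ _ _ _ h, mapBifunctor.d₁_eq' _ _ _ _ h, Linear.units_smul_comp,
      Category.assoc, ιOrZero_compX, Units.smul_def, Units.smul_def, Functor.map_zsmul, Preadditive.comp_zsmul, Functor.map_comp,
      ← Category.assoc, ← Category.assoc]
    congr 2
    exact hβ₁ _ _
  · rw [mapBifunctor.d₁_eq_zero _ _ _ _ _ _ _ h, mapBifunctor.d₁_eq_zero _ _ _ _ _ _ _ h,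
      G.map_zero, comp_zero, zero_comp]

include hβ₂ in
theorem d₂_compX (i₁ : I₁) (i₂ : I₂) (j : J) :
    HomologicalComplex.mapBifunctor.d₂ L₁ L₂ F' c i₁ i₂ j ≫ compX F F' G₁ G₂ G β K₁ K₂ j =
      (β (K₁.X i₁) (K₂.X i₂)).hom ≫ G.map (HomologicalComplex.mapBifunctor.d₂ K₁ K₂ F c i₁ i₂ j) := by
  by_cases h : c₂.Rel i₂ (c₂.next i₂)
  · rw [mapBifunctor.d₂_eq' _ _ _ _ _ h, mapBifunctor.d₂_eq' _ _ _ _ _ h, Linear.units_smul_comp,
      Category.assoc, ιOrZero_compX, Units.smul_def, Units.smul_def, Functor.map_zsmul, Preadditive.comp_zsmul, Functor.map_comp,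
      ← Category.assoc, ← Category.assoc]
    congr 2
    exact hβ₂ _ _
  · rw [mapBifunctor.d₂_eq_zero _ _ _ _ _ _ _ h, mapBifunctor.d₂_eq_zero _ _ _ _ _ _ _ h,
      G.map_zero, comp_zero, zero_comp]

/-- the cofan obtained by applying `G` to the summands -/
noncomputable def mapCofanIsColimit (j : J)
    [PreservesColimitsOfShape (Discrete ((ComplexShape.π c₁ c₂ c) ⁻¹' {j})) G] :
    IsColimit (Cofan.mk (G.obj ((Z).X j)) fun i : (ComplexShape.π c₁ c₂ c) ⁻¹' {j} =>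
      G.map (ιMapBifunctor K₁ K₂ F c i.1.1 i.1.2 j i.2)) :=
  isColimitCofanMkObjOfIsColimit G _ _
    ((((F.mapBifunctorHomologicalComplex c₁ c₂).obj K₁).obj K₂).toGradedObject.isColimitCofanMapObj
      (ComplexShape.π c₁ c₂ c) j)

variable [∀ j : J, PreservesColimitsOfShape (Discrete ((ComplexShape.π c₁ c₂ c) ⁻¹' {j})) G]

theorem isIso_compX (j : J) : IsIso (compX F F' G₁ G₂ G β K₁ K₂ (c := c) j) := by
  let hc := mapCofanIsColimit F G K₁ K₂ (c := c) j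
  refine ⟨⟨hc.desc (Cofan.mk _ fun i => (β (K₁.X i.1.1) (K₂.X i.1.2)).inv ≫
    ιMapBifunctor L₁ L₂ F' c i.1.1 i.1.2 j i.2), ?_, ?_⟩⟩
  · apply mapBifunctor.hom_ext
    intro i₁ i₂ h
    rw [← Category.assoc, ι_compX, Category.assoc, Category.comp_id]
    have := hc.fac (Cofan.mk _ fun i => (β (K₁.X i.1.1) (K₂.X i.1.2)).inv ≫
      ιMapBifunctor L₁ L₂ F' c i.1.1 i.1.2 j i.2) ⟨⟨(i₁, i₂), h⟩⟩
    dsimp at this
    erw [this]
    exact Iso.hom_inv_id_assoc _ _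
  · refine hc.hom_ext ?_
    rintro ⟨⟨⟨i₁, i₂⟩, h⟩⟩
    rw [← Category.assoc, hc.fac]
    change ((β (K₁.X i₁) (K₂.X i₂)).inv ≫ ιMapBifunctor L₁ L₂ F' c i₁ i₂ j h) ≫ _ = _
    rw [Category.assoc, ι_compX, Iso.inv_hom_id_assoc]
    exact (Category.comp_id _).symm

include hβ₁ hβ₂ in
/-- `G` commutes with the total complex -/
noncomputable def totalIso :
    HomologicalComplex.mapBifunctor L₁ L₂ F' c ≅ (G.mapHomologicalComplex c).obj (Z) :=
  HomologicalComplex.Hom.isoOfComponents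
    (fun j => @asIso _ _ _ _ (compX F F' G₁ G₂ G β K₁ K₂ j) (isIso_compX F F' G₁ G₂ G β K₁ K₂ j))
    (fun j j' _ => by
      apply mapBifunctor.hom_ext
      intro i₁ i₂ h
      change ιMapBifunctor L₁ L₂ F' c i₁ i₂ j h ≫ compX F F' G₁ G₂ G β K₁ K₂ j ≫ G.map ((Z).d j j') =
        ιMapBifunctor L₁ L₂ F' c i₁ i₂ j h ≫ _ ≫ compX F F' G₁ G₂ G β K₁ K₂ j'
      rw [← Category.assoc, ι_compX, Category.assoc, ← G.map_comp, mapBifunctor.d_eq, mapBifunctor.d_eq,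
        Preadditive.comp_add, Preadditive.add_comp, Preadditive.comp_add]
      rw [← Category.assoc (f := ιMapBifunctor L₁ L₂ F' c i₁ i₂ j h),
        ← Category.assoc (f := ιMapBifunctor L₁ L₂ F' c i₁ i₂ j h), mapBifunctor.ι_D₁,
        mapBifunctor.ι_D₂, mapBifunctor.ι_D₁, mapBifunctor.ι_D₂, d₁_compX F F' G₁ G₂ G β hβ₁,
        d₂_compX F F' G₁ G₂ G β hβ₂, G.map_add, Preadditive.comp_add])

end Groth.L00.FunctorTotal
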