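/-
The tensor product of complexes of modules commutes with stalks; bounded above flat complexes are
K-flat.
-/
import Groth.Agent.L00.StalkFunctor
import Groth.Agent.L00.FunctorTotal
import Groth.Agent.L28.TensorQis
import Mathlib.Algebra.Homology.BifunctorFlip
import Mathlib.Algebra.Homology.ShortComplex.PreservesHomology

set_option autoImplicit false
set_option backward.isDefEq.respectTransparency false
set_option backward.isDefEq.respectTransparency.types false

universe u

open CategoryTheory CategoryTheory.Limits MonoidalCategory AlgebraicGeometry HomologicalComplex ZeroObject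

namespace Groth.L00.Stk

open Groth.L00.Tensor

variable {X : Scheme.{u}} (x : X)

/-- stalks of complexes -/
noncomputable abbrev S (X : Scheme.{u}) (x : X) :
    CochainComplex X.Modules ℤ ⥤ CochainComplex (ModuleCat.{u} (X.presheaf.stalk x)) ℤ :=
  (F X x).mapHomologicalComplex (ComplexShape.up ℤ)

instance preservesColimits₀ : PreservesColimitsOfSize.{0, 0} (F X x) :=
  preservesColimitsOfSize_shrink.{0, u, 0, u} _

/-- `M_x ⊗ N_x ≅ (N ⊗ M)_x` -/
noncomputable def β (M N : X.Modules) :
    ((curriedTensor (ModuleCat.{u} (X.presheaf.stalk x))).obj ((F X x).obj M)).obj ((F X x).obj N) ≅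
      (F X x).obj (((DCoh.tensorBi (X := X)).flip.obj M).obj N) :=
  τ x M N ≪≫ (F X x).mapIso (tensorComm M N)

theorem tensorComm_natural {M M' N N' : X.Modules} (f : M ⟶ M') (g : N ⟶ N') :
    tensorMap f g ≫ (tensorComm M' N').hom = (tensorComm M N).hom ≫ tensorMap g f := by
  refine ((shf X).map_comp _ _).symm.trans ((congrArg (shf X).map ?_).trans ((shf X).map_comp _ _))
  exact BraidedCategory.braiding_naturality _ _

theorem β_natural₁ {M M' : X.Modules} (f : M ⟶ M') (N : X.Modules) :
    ((curriedTensor (ModuleCat.{u} (X.presheaf.stalk x))).map ((F X x).map f)).app ((F X x).obj N) ≫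
        (β x M' N).hom =
      (β x M N).hom ≫ (F X x).map (((DCoh.tensorBi (X := X)).flip.map f).app N) := by
  have h : ((DCoh.tensorBi (X := X)).flip.map f).app N = tensorMap (𝟙 N) f := by
    refine congrArg (shf X).map ?_
    rw [CategoryTheory.Functor.map_id]
    exact (MonoidalCategory.id_tensorHom _ _).symm
  have h' : ((curriedTensor (ModuleCat.{u} (X.presheaf.stalk x))).map ((F X x).map f)).app ((F X x).obj N) =
      ModuleCat.ofHom (TensorProduct.map ((F X x).map f).hom ((F X x).map (𝟙 N)).hom) := by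
    rw [CategoryTheory.Functor.map_id]; rfl
  rw [h, h']
  simp only [β, Iso.trans_hom, Functor.mapIso_hom]
  rw [← Category.assoc, τ_natural, Category.assoc, ← Functor.map_comp, tensorComm_natural,
    Functor.map_comp, Category.assoc]

theorem β_natural₂ (M : X.Modules) {N N' : X.Modules} (g : N ⟶ N') :
    ((curriedTensor (ModuleCat.{u} (X.presheaf.stalk x))).obj ((F X x).obj M)).map ((F X x).map g) ≫
        (β x M N').hom =
      (β x M N).hom ≫ (F X x).map (((DCoh.tensorBi (X := X)).flip.obj M).map g) := by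
  have h : ((DCoh.tensorBi (X := X)).flip.obj M).map g = tensorMap g (𝟙 M) := by
    refine congrArg (shf X).map ?_
    rw [CategoryTheory.Functor.map_id]
    exact (MonoidalCategory.tensorHom_id _ _).symm
  have h' : ((curriedTensor (ModuleCat.{u} (X.presheaf.stalk x))).obj ((F X x).obj M)).map ((F X x).map g) =
      ModuleCat.ofHom (TensorProduct.map ((F X x).map (𝟙 M)).hom ((F X x).map g).hom) := by
    rw [CategoryTheory.Functor.map_id]; rfl
  rw [h, h']
  simp only [β, Iso.trans_hom, Functor.mapIso_hom]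
  rw [← Category.assoc, τ_natural, Category.assoc, ← Functor.map_comp, tensorComm_natural,
    Functor.map_comp, Category.assoc]

/-- `(L ⊗ E)_x ≅ E_x ⊗ L_x` -/
noncomputable def tensorCxIso (L E : CochainComplex X.Modules ℤ) :
    HomologicalComplex.tensorObj ((S X x).obj E) ((S X x).obj L) ≅
      (S X x).obj ((DCoh.tensorCx.obj L).obj E) :=
  haveI : (DCoh.tensorBi (X := X)).flip.Additive :=
    { map_add := fun {M N f g} => by
        refine NatTrans.ext (funext fun P => ?_)
        exact ((DCoh.tensorBi (X := X)).obj P).map_add }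
  haveI : ∀ M, ((DCoh.tensorBi (X := X)).flip.obj M).Additive := fun M =>
    { map_add := fun {N P f g} => by
        exact congrArg (fun k => NatTrans.app k M) ((DCoh.tensorBi (X := X)).map_add) }
  FunctorTotal.totalIso (DCoh.tensorBi (X := X)).flip (curriedTensor _) (F X x) (F X x) (F X x)
      (β x) (β_natural₁ x) (β_natural₂ x) E L ≪≫
    (S X x).mapIso (mapBifunctorFlipIso L E DCoh.tensorBi (ComplexShape.up ℤ))

/-- acyclicity is checked on stalks -/
theorem acyclic_iff (L : CochainComplex X.Modules ℤ) (i : ℤ) :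
    IsZero (L.homology i) ↔ ∀ x, IsZero (((S X x).obj L).homology i) := by
  rw [isZero_iff]
  exact forall_congr' fun x =>
    ⟨fun h => h.of_iso ((L.sc i).mapHomologyIso (F X x)), fun h => h.of_iso ((L.sc i).mapHomologyIso (F X x)).symm⟩

/-- K-flatness is checked on stalks -/
theorem isKFlat_of_stalks (E : CochainComplex X.Modules ℤ)
    (h : ∀ (x : X) (L : CochainComplex (ModuleCat.{u} (X.presheaf.stalk x)) ℤ),
      (∀ i, IsZero (L.homology i)) → ∀ i, IsZero ((HomologicalComplex.tensorObj ((S X x).obj E) L).homology i)) :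
    DCoh.IsKFlat E := fun L hL i => (acyclic_iff _ i).2 fun x =>
  (h x _ (fun j => (acyclic_iff L j).1 (hL j) x) i).of_iso
    ((homologyFunctor _ _ i).mapIso (tensorCxIso x L E)).symm

end Groth.L00.Stk

namespace Groth.L00.KFlatAlg

open Groth.L28 Groth.L28.TensorCx

variable {A : Type u} [CommRing A] (L : CochainComplex (ModuleCat.{u} A) ℤ)

theorem mem_fil_of_bounded (M : CochainComplex (ModuleCat.{u} A) ℤ) (n : ℤ) (z : (HomologicalComplex.tensorObj L M).X n) :
    ∃ N : ℤ, z ∈ fil L M n (fun p _ => N ≤ p) := by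
  have hdir : Directed (· ≤ ·) (fun N : ℤ => fil L M n (fun p _ => N ≤ p)) := fun a b =>
    ⟨min a b, fil_mono L M (fun p q _ (h : a ≤ p) => (min_le_left a b).trans h),
      fil_mono L M (fun p q _ (h : b ≤ p) => (min_le_right a b).trans h)⟩
  suffices h : z ∈ ⨆ N : ℤ, fil L M n (fun p _ => N ≤ p) from
    (Submodule.mem_iSup_of_directed (fun N : ℤ => fil L M n (fun p _ => N ≤ p)) hdir).1 h
  let T := ⨆ N : ℤ, fil L M n (fun p _ => N ≤ p)
  have h0 : (ModuleCat.ofHom T.mkQ : (HomologicalComplex.tensorObj L M).X n ⟶ ModuleCat.of A _) = 0 :=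
    TensorCx.hom_ext fun p q h w => (Submodule.Quotient.mk_eq_zero T).mpr
      (Submodule.mem_iSup_of_mem p (ins_mem_fil L M (S := fun p' _ => p ≤ p') h le_rfl w))
  exact (Submodule.Quotient.mk_eq_zero T).mp (ConcreteCategory.congr_hom h0 z)

/-- a bounded above flat complex tensored with any quasi-isomorphism is a quasi-isomorphism -/
theorem quasiIso_of_flat_left {M Q : CochainComplex (ModuleCat.{u} A) ℤ} (η : M ⟶ Q) [QuasiIso η]
    [∀ p, Module.Flat A (L.X p)] (a : ℤ) (hL : ∀ p, a < p → IsZero (L.X p)) :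
    QuasiIso (HomologicalComplex.tensorHom (𝟙 L) η) := by
  have main : ∀ (j i : ℤ), i + 1 = j → ∀ (x : (HomologicalComplex.tensorObj L M).X j) (y : (HomologicalComplex.tensorObj L Q).X i),
      (HomologicalComplex.tensorObj L M).d j (j + 1) x = 0 →
      (HomologicalComplex.tensorHom (𝟙 L) η).f j x = (HomologicalComplex.tensorObj L Q).d i j y →
      ∃ (u : (HomologicalComplex.tensorObj L M).X i) (e : (HomologicalComplex.tensorObj L Q).X (i - 1)),
        (HomologicalComplex.tensorObj L M).d i j u = x ∧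
        (HomologicalComplex.tensorHom (𝟙 L) η).f i u + (HomologicalComplex.tensorObj L Q).d (i - 1) i e = y := by
    intro j i hij x y hx he
    obtain ⟨N₁, h₁⟩ := mem_fil_of_bounded L M j x
    obtain ⟨N₂, h₂⟩ := mem_fil_of_bounded L Q i y
    obtain ⟨k, hk⟩ : ∃ k : ℕ, a + 1 - (k : ℤ) ≤ min N₁ N₂ :=
      ⟨(a + 1 - min N₁ N₂).toNat, by omega⟩
    exact TensorQis.cone_exact L η a hL j i hij k x y
      (fil_mono L M (fun p _ _ (h : N₁ ≤ p) => (hk.trans (min_le_left _ _)).trans h) h₁)
      (fil_mono L Q (fun p _ _ (h : N₂ ≤ p) => (hk.trans (min_le_right _ _)).trans h) h₂) hx he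
  refine HomElt.quasiIso_of_bijective _ fun j => ⟨?_, ?_⟩
  · refine (HomElt.injective_homologyMap_iff _ (i := j - 1) (k := j + 1) (by simp) (by simp)).mpr ?_
    intro x w hx he
    obtain ⟨u, e, hu, -⟩ := main j (j - 1) (by omega) x w hx he
    exact ⟨u, hu⟩
  · refine (HomElt.surjective_homologyMap_iff _ (i := j - 1) (k := j + 1) (by simp) (by simp)).mpr ?_
    intro y hy
    obtain ⟨u, e, hu, he⟩ := main (j + 1) j rfl 0 y (by simp) (by simp [hy])
    exact ⟨u, e, hu, he⟩

/-- a bounded above flat complex is K-flat -/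
theorem acyclic_tensor_of_bounded_flat [∀ p, Module.Flat A (L.X p)] (a : ℤ)
    (hL : ∀ p, a < p → IsZero (L.X p)) (M : CochainComplex (ModuleCat.{u} A) ℤ)
    (hM : ∀ i, IsZero (M.homology i)) (i : ℤ) : IsZero ((HomologicalComplex.tensorObj L M).homology i) := by
  haveI : QuasiIso (0 : M ⟶ (0 : CochainComplex (ModuleCat.{u} A) ℤ)) := ⟨fun j => by
    rw [quasiIsoAt_iff_isIso_homologyMap]
    exact ⟨0, (hM j).eq_of_src _ _,
      (((homologyFunctor _ _ j).map_isZero (Limits.isZero_zero _)).eq_of_src _ _)⟩⟩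
  haveI := quasiIso_of_flat_left L (0 : M ⟶ (0 : CochainComplex (ModuleCat.{u} A) ℤ)) a hL
  have hz : IsZero ((HomologicalComplex.tensorObj L (0 : CochainComplex (ModuleCat.{u} A) ℤ)).X i) := by
    rw [IsZero.iff_id_eq_zero]
    refine mapBifunctor.hom_ext fun p q h => ?_
    exact (((curriedTensor _).obj (L.X p)).map_isZero
      ((HomologicalComplex.eval _ _ q).map_isZero (Limits.isZero_zero _))).eq_of_src _ _
  exact (ShortComplex.isZero_homology_of_isZero_X₂ _ hz).of_iso
    (asIso (homologyMap (HomologicalComplex.tensorHom (𝟙 L) (0 : M ⟶ (0 : CochainComplex (ModuleCat.{u} A) ℤ))) i))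

end Groth.L00.KFlatAlg
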