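/-
The tensor product of sheaves of modules on a small ringed site preserves colimits in the first
variable, so it is a left adjoint (internal hom exists).
-/
import Groth.Prelude.Def_ModSite
import Groth.Agent.L00.TensorLocal
import Groth.Agent.L10.SheafModGroth
import Mathlib.Algebra.Category.ModuleCat.Sheaf.Localization
import Mathlib.CategoryTheory.Abelian.GrothendieckCategory.Subobject
import Mathlib.CategoryTheory.Abelian.Subobject
import Mathlib.CategoryTheory.Limits.Preserves.Basic
import Mathlib.CategoryTheory.Adjunction.AdjointFunctorTheorems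
import Mathlib.CategoryTheory.Generator.Basic

set_option autoImplicit false

universe u

open CategoryTheory MonoidalCategory CategoryTheory.Limits Opposite

namespace Groth.L00.ModSiteTensor

variable {C : Type u} [SmallCategory C] {J : GrothendieckTopology C} {O : Sheaf J CommRingCat.{u}}

abbrev PMo (O : Sheaf J CommRingCat.{u}) := PresheafOfModules.{u} (O.obj ⋙ forget₂ CommRingCat RingCat)

noncomputable abbrev shf (O : Sheaf J CommRingCat.{u}) : PMo O ⥤ ModSite.Mod O := ModSite.sheafify O

noncomputable abbrev preF (O : Sheaf J CommRingCat.{u}) : ModSite.Mod O ⥤ PMo O :=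
  SheafOfModules.forget (ModSite.ringSh O)

noncomputable def idR (O : Sheaf J CommRingCat.{u}) :
    O.obj ⋙ forget₂ CommRingCat RingCat ⟶ (ModSite.ringSh O).obj := 𝟙 _

instance (O : Sheaf J CommRingCat.{u}) : IsIso (idR O) :=
  ⟨⟨𝟙 _, Category.id_comp (𝟙 (ModSite.ringSh O).obj), Category.id_comp (𝟙 (ModSite.ringSh O).obj)⟩⟩

noncomputable def shfAdj (O : Sheaf J CommRingCat.{u}) :
    shf O ⊣ SheafOfModules.forget (ModSite.ringSh O) ⋙
      PresheafOfModules.restrictScalars (𝟙 (ModSite.ringSh O).obj) :=
  PresheafOfModules.sheafificationAdjunction (𝟙 (ModSite.ringSh O).obj)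

instance (O : Sheaf J CommRingCat.{u}) : IsIso (shfAdj O).counit :=
  inferInstanceAs (IsIso (PresheafOfModules.sheafificationAdjunction (𝟙 (ModSite.ringSh O).obj)).counit)

noncomputable def unit (P : PMo O) : P ⟶ (preF O).obj ((shf O).obj P) :=
  (PresheafOfModules.sheafificationAdjunction (𝟙 (ModSite.ringSh O).obj)).unit.app P

theorem isIso_shf_map {P Q : PMo O} (f : P ⟶ Q)
    (hf : J.W ((PresheafOfModules.toPresheaf _).map f)) : IsIso ((shf O).map f) :=
  (Iff.of_eq (congrArg (fun W => W f)
    (PresheafOfModules.inverseImage_W_toPresheaf_eq_inverseImage_isomorphisms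
      (J := J) (𝟙 (ModSite.ringSh O).obj)).symm)).2 hf

theorem isIso_shf_whisker (P : PMo O) (N : PMo O) : IsIso ((shf O).map (unit P ▷ N)) :=
  isIso_shf_map _ (Groth.L00.Tensor.W_whiskerRight (unit P) N (idR O) (J.W_toSheafify _))

noncomputable def preTensor (N : ModSite.Mod O) : PMo O ⥤ ModSite.Mod O :=
  MonoidalCategory.tensorRight ((preF O).obj N) ⋙ shf O

theorem preservesColimits_preTensor (N : ModSite.Mod O) :
    PreservesColimitsOfSize.{u, u} (preTensor N) :=
  haveI : PreservesColimitsOfSize.{u, u} (shf O) := (shfAdj O).leftAdjoint_preservesColimits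
  comp_preservesColimits _ _

noncomputable def shfCompIso (N : ModSite.Mod O) :
    shf O ⋙ (ModSite.tensorBi O).flip.obj N ≅ preTensor N :=
  Iso.symm (NatIso.ofComponents
    (fun P => @asIso _ _ _ _ ((shf O).map (unit P ▷ (preF O).obj N)) (isIso_shf_whisker P _))
    (fun {P Q} f => by
      change (shf O).map (f ▷ (preF O).obj N) ≫ (shf O).map (unit Q ▷ (preF O).obj N) =
        (shf O).map (unit P ▷ (preF O).obj N) ≫
          (shf O).map ((preF O).map ((shf O).map f) ▷ (preF O).obj N)
      refine ((shf O).map_comp _ _).symm.trans ((congrArg (shf O).map ?_).trans ((shf O).map_comp _ _))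
      have hn : f ≫ unit Q = unit P ≫ (preF O).map ((shf O).map f) :=
        (PresheafOfModules.sheafificationAdjunction (𝟙 (ModSite.ringSh O).obj)).unit.naturality f
      exact (MonoidalCategory.comp_whiskerRight _ _ _).symm.trans
        ((congrArg (fun k => k ▷ (preF O).obj N) hn).trans (MonoidalCategory.comp_whiskerRight _ _ _))))

section Reflective

variable {A D E : Type*} [Category A] [Category D] [Category E] {L : A ⥤ D} {R : D ⥤ A}

theorem preservesColimit_of_reflective (adj : L ⊣ R) [IsIso adj.counit] (F : D ⥤ E)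
    {K₀ : Type*} [Category K₀] (K : K₀ ⥤ D) [HasColimit (K ⋙ R)] [PreservesColimit (K ⋙ R) (L ⋙ F)] :
    PreservesColimit K F := by
  haveI : PreservesColimit (K ⋙ R) L := adj.leftAdjoint_preservesColimits.preservesColimitsOfShape.preservesColimit
  let i : (K ⋙ R) ⋙ L ≅ K :=
    Functor.associator _ _ _ ≪≫ Functor.isoWhiskerLeft K (asIso adj.counit) ≪≫ Functor.rightUnitor K
  let c := colimit.cocone (K ⋙ R)
  have hc : IsColimit ((Cocone.precompose i.inv).obj (L.mapCocone c)) :=
    (IsColimit.precomposeInvEquiv i _).symm (isColimitOfPreserves L (colimit.isColimit _))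
  refine preservesColimit_of_preserves_colimit_cocone hc ?_
  have h2 : IsColimit (F.mapCocone (L.mapCocone c)) :=
    isColimitOfPreserves (L ⋙ F) (colimit.isColimit (K ⋙ R))
  refine IsColimit.ofIsoColimit
    ((IsColimit.precomposeInvEquiv (Functor.isoWhiskerRight i F) _).symm h2)
    (Cocone.ext (Iso.refl _) (fun j => ?_))
  simp [i]

end Reflective

theorem preservesColimits_tensorRight (N : ModSite.Mod O) :
    PreservesColimitsOfSize.{u, u} ((ModSite.tensorBi O).flip.obj N) where
  preservesColimitsOfShape {K₀ _} := ⟨fun {K} =>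
    haveI := preservesColimits_preTensor N
    haveI : PreservesColimitsOfSize.{u, u} (shf O ⋙ (ModSite.tensorBi O).flip.obj N) :=
      preservesColimits_of_natIso (shfCompIso N).symm
    preservesColimit_of_reflective (shfAdj O) ((ModSite.tensorBi O).flip.obj N) K⟩

theorem hasSheafHom (N : ModSite.Mod O) : ModSite.HasSheafHom N := by
  haveI := Groth.L10.shMod_isGrothendieckAbelian (ModSite.ringSh O)
  haveI := preservesColimits_tensorRight N
  haveI : WellPowered.{u} (ModSite.Mod O) := IsGrothendieckAbelian.wellPowered _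
  haveI : WellPowered.{u} (ModSite.Mod O)ᵒᵖ := CategoryTheory.Abelian.wellPowered_opposite
  exact isLeftAdjoint_of_preservesColimits_of_isSeparating
    (isSeparator_separator (ModSite.Mod O)) _

end Groth.L00.ModSiteTensor
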