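/-
`CohB1.tensorMod` is functorial and preserves colimits in each variable.
-/
import Groth.Agent.L00.TensorMod
import Mathlib.CategoryTheory.Limits.Preserves.Basic
import Mathlib.CategoryTheory.Adjunction.Limits

set_option autoImplicit false

universe u

open CategoryTheory MonoidalCategory AlgebraicGeometry CategoryTheory.Limits

namespace Groth.L00.Tensor

variable {X : Scheme.{u}}

/-- `M ↦ M ⊗ N` -/
noncomputable def tensorRightF (N : X.Modules) : X.Modules ⥤ X.Modules where
  obj M := CohB1.tensorMod M N
  map f := tensorMap f (𝟙 N)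
  map_id M := tensorMap_id M N
  map_comp f g := by rw [← tensorMap_comp, Category.comp_id]

/-- `N ↦ M ⊗ N` -/
noncomputable def tensorLeftF (M : X.Modules) : X.Modules ⥤ X.Modules where
  obj N := CohB1.tensorMod M N
  map f := tensorMap (𝟙 M) f
  map_id N := tensorMap_id M N
  map_comp f g := by rw [← tensorMap_comp, Category.comp_id]

/-- commutativity, naturally -/
noncomputable def tensorFlipIso (N : X.Modules) : tensorRightF N ≅ tensorLeftF N :=
  NatIso.ofComponents (fun M => tensorComm M N) (fun f => by
    refine ((shf X).map_comp _ _).symm.trans ((congrArg (shf X).map ?_).trans ((shf X).map_comp _ _))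
    exact BraidedCategory.braiding_naturality _ _)

/-- tensoring a presheaf with a module, then sheafifying -/
noncomputable def preTensorRightF (N : X.Modules) : PX X ⥤ X.Modules :=
  MonoidalCategory.tensorRight (pre N) ⋙ shf X

instance (N : X.Modules) : PreservesColimitsOfSize.{u, u} (preTensorRightF N) :=
  haveI : PreservesColimitsOfSize.{u, u} (shf X) :=
    (PresheafOfModules.sheafificationAdjunction (𝟙 X.ringCatSheaf.obj)).leftAdjoint_preservesColimits
  comp_preservesColimits _ _

/-- the tensor functor on sheafified presheaves -/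
noncomputable def shfCompTensorRightIso (N : X.Modules) :
    shf X ⋙ tensorRightF N ≅ preTensorRightF N :=
  Iso.symm (NatIso.ofComponents
    (fun P => @asIso _ _ _ _ ((shf X).map (unit P ▷ pre N))
      ((isIso_shf_map_iff _).2 (Wp_whiskerRight (unit P) (pre N) (Wp_unit P))))
    (fun {P Q} f => by
      change (shf X).map (f ▷ pre N) ≫ (shf X).map (unit Q ▷ pre N) =
        (shf X).map (unit P ▷ pre N) ≫ (shf X).map ((preF X).map ((shf X).map f) ⊗ₘ (preF X).map (𝟙 N))
      refine ((shf X).map_comp _ _).symm.trans ((congrArg (shf X).map ?_).trans ((shf X).map_comp _ _))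
      have hn : f ≫ unit Q = unit P ≫ (preF X).map ((shf X).map f) :=
        (PresheafOfModules.sheafificationAdjunction (𝟙 X.ringCatSheaf.obj)).unit.naturality f
      have hid : (preF X).map (𝟙 N) = 𝟙 (pre N) := (preF X).map_id N
      refine ((MonoidalCategory.comp_whiskerRight _ _ _).symm.trans
        ((congrArg (fun k => k ▷ pre N) hn).trans (MonoidalCategory.comp_whiskerRight _ _ _))).trans ?_
      exact congrArg (fun k => unit P ▷ pre N ≫ k)
        ((MonoidalCategory.tensorHom_id _ _).symm.trans
          (congrArg (fun k => (preF X).map ((shf X).map f) ⊗ₘ k) hid.symm))))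

section Reflective

variable {C D E : Type*} [Category C] [Category D] [Category E] {L : C ⥤ D} {R : D ⥤ C}

/-- a functor out of a reflective subcategory preserves the colimits it preserves upstairs -/
theorem preservesColimit_of_reflective (adj : L ⊣ R) [IsIso adj.counit] (F : D ⥤ E)
    {J : Type*} [Category J] (K : J ⥤ D) [HasColimit (K ⋙ R)] [PreservesColimit (K ⋙ R) (L ⋙ F)] :
    PreservesColimit K F := by
  haveI : PreservesColimit (K ⋙ R) L := adj.leftAdjoint_preservesColimits.preservesColimitsOfShape.preservesColimit
  let i : (K ⋙ R) ⋙ L ≅ K :=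
    Functor.associator _ _ _ ≪≫ Functor.isoWhiskerLeft K (asIso adj.counit) ≪≫ Functor.rightUnitor K
  let c := colimit.cocone (K ⋙ R)
  have hc : IsColimit ((Cocone.precompose i.inv).obj (L.mapCocone c)) :=
    (IsColimit.precomposeInvEquiv i _).symm (isColimitOfPreserves L (colimit.isColimit _))
  refine preservesColimit_of_preserves_colimit_cocone hc ?_
  have h2 : IsColimit (F.mapCocone (L.mapCocone c)) :=
    isColimitOfPreserves (L ⋙ F) (colimit.isColimit (K ⋙ R))
  refine IsColimit.ofIsoColimit
    ((IsColimit.precomposeInvEquiv (Functor.isoWhiskerRight i F) _).symm h2)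
    (Cocone.ext (Iso.refl _) (fun j => ?_))
  simp [i]

end Reflective

/-- the sheafification adjunction -/
noncomputable def shfAdj (X : Scheme.{u}) :
    shf X ⊣ SheafOfModules.forget X.ringCatSheaf ⋙
      PresheafOfModules.restrictScalars (𝟙 X.ringCatSheaf.obj) :=
  PresheafOfModules.sheafificationAdjunction (𝟙 X.ringCatSheaf.obj)

instance isIso_shfAdj_counit (X : Scheme.{u}) : IsIso (shfAdj X).counit :=
  inferInstanceAs (IsIso (PresheafOfModules.sheafificationAdjunction (𝟙 X.ringCatSheaf.obj)).counit)

instance preservesColimits_tensorRightF (N : X.Modules) :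
    PreservesColimitsOfSize.{u, u} (tensorRightF N) where
  preservesColimitsOfShape {J _} := ⟨fun {K} =>
    haveI : PreservesColimitsOfSize.{u, u} (shf X ⋙ tensorRightF N) :=
      preservesColimits_of_natIso (shfCompTensorRightIso N).symm
    preservesColimit_of_reflective (shfAdj X) (tensorRightF N) K⟩

instance preservesColimits_tensorLeftF (N : X.Modules) :
    PreservesColimitsOfSize.{u, u} (tensorLeftF N) :=
  preservesColimits_of_natIso (tensorFlipIso N)

end Groth.L00.Tensor
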