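/-
Internal hom of sheaves of modules exists, on schemes and on small ringed sites.
-/
import Groth.Prelude.Def_DCoh4
import Groth.Agent.L00.TensorColim
import Groth.Agent.L00.ModSiteTensor

set_option autoImplicit false

universe u

open CategoryTheory CategoryTheory.Limits AlgebraicGeometry

namespace Groth.L00.Tensor

theorem grothendieckAbelian_modules (X : Scheme.{u}) : IsGrothendieckAbelian.{u} X.Modules :=
  Groth.L10.shMod_isGrothendieckAbelian (ModSite.ringSh X.sheaf)

theorem dcoh_hasSheafHom {X : Scheme.{u}} (M : X.Modules) : DCoh.HasSheafHom M := by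
  haveI := grothendieckAbelian_modules X
  haveI : WellPowered.{u} X.Modules := IsGrothendieckAbelian.wellPowered _
  haveI : WellPowered.{u} (X.Modules)ᵒᵖ := CategoryTheory.Abelian.wellPowered_opposite
  haveI : PreservesColimitsOfSize.{u, u} ((DCoh.tensorBi (X := X)).obj M) :=
    preservesColimits_of_natIso (NatIso.ofComponents (fun N => Iso.refl _) (fun {N N'} f => by
      simp only [Iso.refl_hom, Category.id_comp, Category.comp_id]
      ) : tensorLeftF M ≅ _)
  exact isLeftAdjoint_of_preservesColimits_of_isSeparating
    (isSeparator_separator X.Modules) _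

end Groth.L00.Tensor
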