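/-
Closure properties of K-flat complexes of O_X-modules.
-/
import Groth.Agent.L00.KFlatStalk
import Groth.Agent.L00.BifunctorExact
import Groth.Agent.L00.SheafHom
import Mathlib.Algebra.Homology.BifunctorHomotopy
import Mathlib.Algebra.Homology.HomologySequenceLemmas
import Mathlib.RingTheory.Flat.Equalizer

set_option autoImplicit false
set_option backward.isDefEq.respectTransparency false
set_option backward.isDefEq.respectTransparency.types false

universe u

open CategoryTheory CategoryTheory.Limits MonoidalCategory AlgebraicGeometry HomologicalComplex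

namespace Groth.L00.KFlat

/-- filtered colimits / coproducts of acyclic complexes are acyclic -/
theorem acyclic_of_isColimit {C : Type*} [Category C] [Abelian C] {J : Type*} [Category J]
    [HasColimitsOfShape J C] [HasExactColimitsOfShape J C]
    (K : J ⥤ CochainComplex C ℤ) {c : Cocone K} (hc : IsColimit c) (i : ℤ)
    (h : ∀ j, IsZero ((K.obj j).homology i)) : IsZero (c.pt.homology i) := by
  rw [← HomologicalComplex.exactAt_iff_isZero_homology]
  let S : ShortComplex (J ⥤ C) :=
    ShortComplex.mk (X₁ := K ⋙ eval C (ComplexShape.up ℤ) ((ComplexShape.up ℤ).prev i))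
      (X₂ := K ⋙ eval C (ComplexShape.up ℤ) i) (X₃ := K ⋙ eval C (ComplexShape.up ℤ) ((ComplexShape.up ℤ).next i))
      { app := fun j => (K.obj j).d _ i, naturality := fun _ _ f => (K.map f).comm _ _ }
      { app := fun j => (K.obj j).d i _, naturality := fun _ _ f => (K.map f).comm _ _ }
      (by ext j; exact (K.obj j).d_comp_d _ _ _)
  have hS : S.Exact := by
    rw [ShortComplex.exact_iff_isZero_homology]
    exact Functor.isZero _ fun j => (h j).of_iso (S.mapHomologyIso ((evaluation J C).obj j)).symm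
  have hp := fun n => isColimitOfPreserves (eval C (ComplexShape.up ℤ) n) hc
  exact colim.exact_mapShortComplex hS (hp _) (hp _) (hp _) (c.pt.d _ i) (c.pt.d i _)
    (fun j => (c.ι.app j).comm _ _) (fun j => (c.ι.app j).comm _ _)

variable {X : Scheme.{u}}

instance ab5 : AB5OfSize.{u, u} X.Modules :=
  haveI := Groth.L00.Tensor.grothendieckAbelian_modules X
  inferInstance

instance ab4u : AB4OfSize.{u} X.Modules :=
  haveI := Groth.L00.Tensor.grothendieckAbelian_modules X
  haveI : HasFiniteBiproducts X.Modules := Abelian.hasFiniteBiproducts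
  AB4.of_AB5 X.Modules

instance ab4₀ : AB4OfSize.{0} X.Modules :=
  AB4OfSize_shrink.{0, u} X.Modules

instance preservesColimits_tensorBi_obj (M : X.Modules) :
    PreservesColimitsOfSize.{u, u} ((DCoh.tensorBi (X := X)).obj M) :=
  preservesColimits_of_natIso (NatIso.ofComponents (fun N => Iso.refl _) (fun {N N'} f => by
      simp only [Iso.refl_hom, Category.id_comp, Category.comp_id]) : Groth.L00.Tensor.tensorLeftF M ≅ _)

instance preservesColimits₀_tensorBi_obj (M : X.Modules) :
    PreservesColimitsOfSize.{0, 0} ((DCoh.tensorBi (X := X)).obj M) :=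
  preservesColimitsOfSize_shrink.{0, u, 0, u} _

/-- short exactness is checked on stalks -/
theorem shortExact_of_stalks (S : ShortComplex X.Modules)
    (h : ∀ x, (S.map (Groth.L00.Stk.F X x)).ShortExact) : S.ShortExact := by
  refine { exact := ?_, mono_f := ?_, epi_g := ?_ }
  · rw [ShortComplex.exact_iff_isZero_homology, Groth.L00.Stk.isZero_iff]
    exact fun x => ((ShortComplex.exact_iff_isZero_homology _).1 (h x).exact).of_iso
      (S.mapHomologyIso (Groth.L00.Stk.F X x)).symm
  · apply Preadditive.mono_of_isZero_kernel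
    rw [Groth.L00.Stk.isZero_iff]
    intro x
    haveI : Mono ((Groth.L00.Stk.F X x).map S.f) := (h x).mono_f
    exact (isZero_kernel_of_mono _).of_iso (PreservesKernel.iso (Groth.L00.Stk.F X x) S.f)
  · apply Preadditive.epi_of_isZero_cokernel
    rw [Groth.L00.Stk.isZero_iff]
    intro x
    haveI : Epi ((Groth.L00.Stk.F X x).map S.g) := (h x).epi_g
    exact (isZero_cokernel_of_epi _).of_iso (PreservesCokernel.iso (Groth.L00.Stk.F X x) S.g)

/-- tensoring preserves short exact sequences with flat quotient -/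
theorem shortExact_tensor_of_flat (M : X.Modules) (S : ShortComplex X.Modules) (hS : S.ShortExact)
    (h3 : FlatMod.IsFlat S.X₃) : (S.map ((DCoh.tensorBi (X := X)).obj M)).ShortExact := by
  refine shortExact_of_stalks _ fun x => ?_
  let S' : ShortComplex (ModuleCat.{u} (X.presheaf.stalk x)) := S.map (Groth.L00.Stk.F X x)
  have hS' : S'.ShortExact := hS.map_of_exact _
  haveI : Module.Flat (X.presheaf.stalk x) S'.X₃ := h3 x
  let T := (curriedTensor (ModuleCat.{u} (X.presheaf.stalk x))).obj ((Groth.L00.Stk.F X x).obj M)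
  have hT : (S'.map T).ShortExact := by
    refine { exact := ?_, mono_f := ?_, epi_g := ?_ }
    · rw [ShortComplex.moduleCat_exact_iff_ker_sub_range]
      intro y hy
      exact (lTensor_exact _ (CategoryTheory.ShortComplex.ShortExact.moduleCat_exact_iff_function_exact _ |>.1 hS'.exact)
        hS'.moduleCat_surjective_g y).1 hy
    · rw [ModuleCat.mono_iff_injective]
      exact LinearMap.lTensor_injective_of_exact_of_flat S'.g.hom hS'.moduleCat_surjective_g
        S'.f.hom hS'.moduleCat_injective_f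
        (CategoryTheory.ShortComplex.ShortExact.moduleCat_exact_iff_function_exact _ |>.1 hS'.exact) _
    · rw [ModuleCat.epi_iff_surjective]
      exact LinearMap.lTensor_surjective _ hS'.moduleCat_surjective_g
  have hτ : ∀ {N N' : X.Modules} (g : N ⟶ N'),
      T.map ((Groth.L00.Stk.F X x).map g) ≫ (Groth.L00.Stk.τ x M N').hom =
        (Groth.L00.Stk.τ x M N).hom ≫ (Groth.L00.Stk.F X x).map (((DCoh.tensorBi (X := X)).obj M).map g) := by
    intro N N' g
    have e1 : ((DCoh.tensorBi (X := X)).obj M).map g = Groth.L00.Tensor.tensorMap (𝟙 M) g := by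
      refine congrArg (Groth.L00.Tensor.shf X).map ?_
      rw [CategoryTheory.Functor.map_id]
      exact (MonoidalCategory.id_tensorHom _ _).symm
    have e2 : T.map ((Groth.L00.Stk.F X x).map g) =
        ModuleCat.ofHom (TensorProduct.map ((Groth.L00.Stk.F X x).map (𝟙 M)).hom ((Groth.L00.Stk.F X x).map g).hom) := by
      rw [CategoryTheory.Functor.map_id]; rfl
    rw [e1, e2, Groth.L00.Stk.τ_natural]
  exact (ShortComplex.shortExact_iff_of_iso (ShortComplex.isoMk (Groth.L00.Stk.τ x M S.X₁)
    (Groth.L00.Stk.τ x M S.X₂) (Groth.L00.Stk.τ x M S.X₃) (hτ S.f).symm (hτ S.g).symm)).1 hT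

/-- abbreviation: `E ↦ L ⊗ E` -/
noncomputable abbrev T (L : CochainComplex X.Modules ℤ) :
    CochainComplex X.Modules ℤ ⥤ CochainComplex X.Modules ℤ :=
  BifExact.T (DCoh.tensorBi (X := X)) L

theorem of_iso {E E' : CochainComplex X.Modules ℤ} (e : E ≅ E') (h : DCoh.IsKFlat E) :
    DCoh.IsKFlat E' := fun L hL i =>
  (h L hL i).of_iso ((homologyFunctor _ _ i).mapIso ((T L).mapIso e)).symm

theorem zero (E : CochainComplex X.Modules ℤ) (h : IsZero E) : DCoh.IsKFlat E := fun L _ i =>
  (homologyFunctor _ _ i).map_isZero ((T L).map_isZero h)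

theorem of_isColimit {J : Type*} [Category J] [HasColimitsOfShape J X.Modules]
    [HasExactColimitsOfShape J X.Modules]
    [∀ M, PreservesColimitsOfShape J ((DCoh.tensorBi (X := X)).obj M)]
    (K : J ⥤ CochainComplex X.Modules ℤ) {c : Cocone K} (hc : IsColimit c)
    (h : ∀ j, DCoh.IsKFlat (K.obj j)) : DCoh.IsKFlat c.pt := fun L hL i =>
  acyclic_of_isColimit _ (isColimitOfPreserves (T L) hc) i (fun j => h j L hL i)

theorem coproduct {ι : Type u} (E : ι → CochainComplex X.Modules ℤ) (h : ∀ a, DCoh.IsKFlat (E a)) :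
    DCoh.IsKFlat (∐ E) :=
  of_isColimit (Discrete.functor E) (colimit.isColimit _) fun j => h j.as

theorem shortExact_T (L : CochainComplex X.Modules ℤ) {S : ShortComplex (CochainComplex X.Modules ℤ)}
    (hS : S.ShortExact) (h3 : ∀ n, FlatMod.IsFlat (S.X₃.X n)) : (S.map (T L)).ShortExact :=
  BifExact.shortExact_T _ L S fun p q =>
    shortExact_tensor_of_flat (L.X p) _ (hS.map_of_exact (eval _ _ q)) (h3 q)

theorem two_of_three {S : ShortComplex (CochainComplex X.Modules ℤ)}
    (hT : ∀ L, (S.map (T L)).ShortExact) :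
    (DCoh.IsKFlat S.X₁ → DCoh.IsKFlat S.X₂ → DCoh.IsKFlat S.X₃) ∧
    (DCoh.IsKFlat S.X₁ → DCoh.IsKFlat S.X₃ → DCoh.IsKFlat S.X₂) ∧
    (DCoh.IsKFlat S.X₂ → DCoh.IsKFlat S.X₃ → DCoh.IsKFlat S.X₁) := by
  refine ⟨fun h1 h2 L hL i => ?_, fun h1 h3 L hL i => ?_, fun h2 h3 L hL i => ?_⟩
  · exact ((hT L).homology_exact₃ i (i + 1) (by simp)).isZero_X₂
      ((h2 L hL i).eq_of_src _ _) ((h1 L hL (i + 1)).eq_of_tgt _ _)
  · exact ((hT L).homology_exact₂ i).isZero_X₂ ((h1 L hL i).eq_of_src _ _) ((h3 L hL i).eq_of_tgt _ _)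
  · exact ((hT L).homology_exact₁ (i - 1) i (by simp)).isZero_X₂
      ((h3 L hL (i - 1)).eq_of_src _ _) ((h2 L hL i).eq_of_tgt _ _)

theorem two_of_three_flat {S : ShortComplex (CochainComplex X.Modules ℤ)} (hS : S.ShortExact)
    (h3 : ∀ n, FlatMod.IsFlat (S.X₃.X n)) :
    (DCoh.IsKFlat S.X₁ → DCoh.IsKFlat S.X₂ → DCoh.IsKFlat S.X₃) ∧
    (DCoh.IsKFlat S.X₁ → DCoh.IsKFlat S.X₃ → DCoh.IsKFlat S.X₂) ∧
    (DCoh.IsKFlat S.X₂ → DCoh.IsKFlat S.X₃ → DCoh.IsKFlat S.X₁) :=
  two_of_three fun L => shortExact_T L hS h3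

theorem two_of_three_split {S : ShortComplex (CochainComplex X.Modules ℤ)}
    (σ : ∀ q, (S.map (eval X.Modules (ComplexShape.up ℤ) q)).Splitting) :
    (DCoh.IsKFlat S.X₁ → DCoh.IsKFlat S.X₂ → DCoh.IsKFlat S.X₃) ∧
    (DCoh.IsKFlat S.X₁ → DCoh.IsKFlat S.X₃ → DCoh.IsKFlat S.X₂) ∧
    (DCoh.IsKFlat S.X₂ → DCoh.IsKFlat S.X₃ → DCoh.IsKFlat S.X₁) :=
  two_of_three fun L => BifExact.shortExact_T_of_splitting _ L S σ

/-- tensoring preserves homotopies -/
noncomputable def tensorHomotopy (L : CochainComplex X.Modules ℤ) {E E' : CochainComplex X.Modules ℤ}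
    {f g : E ⟶ E'} (h : Homotopy f g) : Homotopy ((T L).map f) ((T L).map g) :=
  mapBifunctorMapHomotopy₂ (𝟙 L) h (DCoh.tensorBi (X := X)) (ComplexShape.up ℤ)

/-- tensoring preserves homotopy equivalences -/
noncomputable def tensorHomotopyEquiv (L : CochainComplex X.Modules ℤ)
    {E E' : CochainComplex X.Modules ℤ} (e : HomotopyEquiv E E') :
    HomotopyEquiv ((T L).obj E) ((T L).obj E') where
  hom := (T L).map e.hom
  inv := (T L).map e.inv
  homotopyHomInvId :=
    (Homotopy.ofEq ((T L).map_comp _ _).symm).trans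
      ((tensorHomotopy L e.homotopyHomInvId).trans (Homotopy.ofEq ((T L).map_id _)))
  homotopyInvHomId :=
    (Homotopy.ofEq ((T L).map_comp _ _).symm).trans
      ((tensorHomotopy L e.homotopyInvHomId).trans (Homotopy.ofEq ((T L).map_id _)))

theorem of_homotopyEquiv {E E' : CochainComplex X.Modules ℤ} (e : HomotopyEquiv E E')
    (h : DCoh.IsKFlat E) : DCoh.IsKFlat E' := fun L hL i =>
  (h L hL i).of_iso ((tensorHomotopyEquiv L e).toHomologyIso i).symm

end Groth.L00.KFlat
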