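/-
Functorial K-flat resolutions of complexes of O_X-modules.
-/
import Groth.Agent.L00.KFlatBasic
import Groth.Agent.L00.FlatCover
import Groth.Agent.L00.CellTower
import Mathlib.Algebra.Category.ModuleCat.AB
import Mathlib.Algebra.Category.ModuleCat.Biproducts
import Mathlib.Algebra.Category.ModuleCat.Monoidal.Closed
import Mathlib.CategoryTheory.Monoidal.Closed.Basic

set_option autoImplicit false
set_option backward.isDefEq.respectTransparency false
set_option backward.isDefEq.respectTransparency.types false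

universe u

open CategoryTheory CategoryTheory.Limits MonoidalCategory AlgebraicGeometry CochainComplex CochainComplex.HomComplex

namespace Groth.L00.KFlat

/-- filtered colimits of flat modules are flat -/
theorem flat_of_isColimit {A : Type u} [CommRing A] {J : Type*} [Category J]
    [HasColimitsOfShape J (ModuleCat.{u} A)] [HasExactColimitsOfShape J (ModuleCat.{u} A)]
    [∀ N : ModuleCat.{u} A, PreservesColimitsOfShape J (tensorLeft N)]
    (D : J ⥤ ModuleCat.{u} A) {c : Cocone D} (hc : IsColimit c) (h : ∀ j, Module.Flat A (D.obj j)) :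
    Module.Flat A c.pt := by
  rw [Module.Flat.iff_rTensor_preserves_injective_linearMap]
  intro N N' _ _ _ _ f hf
  let φ : D ⋙ tensorLeft (ModuleCat.of A N) ⟶ D ⋙ tensorLeft (ModuleCat.of A N') :=
    Functor.whiskerLeft D ((curriedTensor (ModuleCat.{u} A)).map (ModuleCat.ofHom f))
  haveI : ∀ j, Mono (φ.app j) := fun j => by
    rw [ModuleCat.mono_iff_injective]
    haveI := h j
    exact Module.Flat.rTensor_preserves_injective_linearMap f hf
  haveI : Mono φ := NatTrans.mono_of_mono_app φ
  have := colim.map_mono' φ (isColimitOfPreserves (tensorLeft (ModuleCat.of A N)) hc)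
    (isColimitOfPreserves (tensorLeft (ModuleCat.of A N')) hc) (ModuleCat.ofHom f ▷ c.pt)
    (fun j => whisker_exchange (ModuleCat.ofHom f) (c.ι.app j))
  exact (ModuleCat.mono_iff_injective _).1 this

theorem flat_prod {A : Type u} [CommRing A] (M N : Type u) [AddCommGroup M] [Module A M]
    [AddCommGroup N] [Module A N] [Module.Flat A M] [Module.Flat A N] : Module.Flat A (M × N) := by
  rw [Module.Flat.iff_lTensor_preserves_injective_linearMap]
  intro P P' _ _ _ _ f hf
  have key : LinearMap.comp (TensorProduct.prodLeft A A M N P').toLinearMap (f.lTensor (M × N)) =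
      ((f.lTensor M).prodMap (f.lTensor N)).comp (TensorProduct.prodLeft A A M N P).toLinearMap :=
    TensorProduct.ext' fun ⟨m, n⟩ p => by simp
  have : Function.Injective (LinearMap.comp (TensorProduct.prodLeft A A M N P').toLinearMap (f.lTensor (M × N))) := by
    rw [key]
    exact ((Module.Flat.lTensor_preserves_injective_linearMap f hf).prodMap
      (Module.Flat.lTensor_preserves_injective_linearMap f hf)).comp (LinearEquiv.injective _)
  rw [LinearMap.coe_comp] at this
  exact Function.Injective.of_comp this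

theorem hasExactColimitsOfShapeNat_moduleCat (A : Type u) [CommRing A] :
    HasExactColimitsOfShape ℕ (ModuleCat.{u} A) :=
  haveI : HasFilteredColimitsOfSize.{u, u} (ModuleCat.{u} A) := ⟨fun _ _ _ => inferInstance⟩
  haveI : HasFilteredColimitsOfSize.{0, 0} (ModuleCat.{u} A) := hasFilteredColimitsOfSize_shrink.{0, 0, u, u}
  haveI : AB5OfSize.{0, 0} (ModuleCat.{u} A) := AB5OfSize_shrink.{0, 0, u, u} (ModuleCat.{u} A)
  inferInstance

variable {X : Scheme.{u}}

instance hasColimitsOfShapeNat : HasColimitsOfShape ℕ X.Modules :=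
  haveI := Groth.L00.Tensor.grothendieckAbelian_modules X
  haveI : HasColimitsOfSize.{0, 0} X.Modules := hasColimitsOfSizeShrink.{0, 0, u, u} _
  inferInstance

instance hasExactColimitsOfShapeNat : HasExactColimitsOfShape ℕ X.Modules :=
  haveI := Groth.L00.Tensor.grothendieckAbelian_modules X
  haveI : HasFilteredColimitsOfSize.{u, u} X.Modules := ⟨fun _ _ _ => inferInstance⟩
  haveI : HasFilteredColimitsOfSize.{0, 0} X.Modules := hasFilteredColimitsOfSize_shrink.{0, 0, u, u}
  haveI : AB5OfSize.{0, 0} X.Modules := AB5OfSize_shrink.{0, 0, u, u} X.Modules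
  inferInstance

/-- flatness is invariant under isomorphism -/
theorem isFlat_of_iso {M N : X.Modules} (e : M ≅ N) (h : FlatMod.IsFlat M) : FlatMod.IsFlat N := fun x =>
  haveI : Module.Flat (X.presheaf.stalk x) ((Groth.L00.Stk.F X x).obj M) := h x
  Module.Flat.of_linearEquiv ((Groth.L00.Stk.F X x).mapIso e).symm.toLinearEquiv

theorem isFlat_biprod {M N : X.Modules} (h : FlatMod.IsFlat M) (h' : FlatMod.IsFlat N) :
    FlatMod.IsFlat (M ⊞ N) := fun x =>
  haveI : Module.Flat (X.presheaf.stalk x) ((Groth.L00.Stk.F X x).obj M) := h x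
  haveI : Module.Flat (X.presheaf.stalk x) ((Groth.L00.Stk.F X x).obj N) := h' x
  haveI : PreservesBinaryBiproduct M N (Groth.L00.Stk.F X x) :=
    preservesBinaryBiproduct_of_preservesBinaryProduct _
  haveI := flat_prod (A := X.presheaf.stalk x) ((Groth.L00.Stk.F X x).obj M) ((Groth.L00.Stk.F X x).obj N)
  Module.Flat.of_linearEquiv
    ((Groth.L00.Stk.F X x).mapBiprod M N ≪≫ ModuleCat.biprodIsoProd _ _).toLinearEquiv

theorem isFlat_zero {M : X.Modules} (h : IsZero M) : FlatMod.IsFlat M := fun x =>
  haveI : Subsingleton ((Groth.L00.Stk.F X x).obj M) :=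
    ModuleCat.subsingleton_of_isZero ((Groth.L00.Stk.F X x).map_isZero h)
  (inferInstance : Module.Flat (X.presheaf.stalk x) ((Groth.L00.Stk.F X x).obj M))

theorem isFlat_mappingCone {E E' : CochainComplex X.Modules ℤ} (φ : E ⟶ E')
    (h : ∀ n, FlatMod.IsFlat (E.X n)) (h' : ∀ n, FlatMod.IsFlat (E'.X n)) (n : ℤ) :
    FlatMod.IsFlat ((mappingCone φ).X n) :=
  isFlat_of_iso (HomologicalComplex.homotopyCofiber.XIsoBiprod φ n (n + 1) rfl).symm
    (isFlat_biprod (h (n + 1)) (h' n))

theorem isFlat_colimitNat (D : ℕ ⥤ X.Modules) {c : Cocone D} (hc : IsColimit c)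
    (h : ∀ k, FlatMod.IsFlat (D.obj k)) : FlatMod.IsFlat c.pt := fun x =>
  haveI := hasExactColimitsOfShapeNat_moduleCat (X.presheaf.stalk x)
  haveI : ∀ N : ModuleCat.{u} (X.presheaf.stalk x), PreservesColimitsOfShape ℕ (tensorLeft N) :=
    fun N => (Closed.adj (X := N)).leftAdjoint_preservesColimits.preservesColimitsOfShape
  flat_of_isColimit _ (isColimitOfPreserves (Groth.L00.Stk.F X x) hc) (fun k => h k x)

/-- a bounded above flat complex is K-flat -/
theorem of_bounded (E : CochainComplex X.Modules ℤ) (b : ℤ) (hb : E.IsStrictlyLE b)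
    (h : ∀ n, FlatMod.IsFlat (E.X n)) : DCoh.IsKFlat E :=
  Groth.L00.Stk.isKFlat_of_stalks E fun x L hL i =>
    haveI : ∀ p, Module.Flat (X.presheaf.stalk x) (((Groth.L00.Stk.S X x).obj E).X p) := fun p => h p x
    Groth.L00.KFlatAlg.acyclic_tensor_of_bounded_flat _ b
      (fun p hp => (Groth.L00.Stk.F X x).map_isZero (E.isZero_of_isStrictlyLE b p hp)) L hL i

theorem single (M : X.Modules) (h : FlatMod.IsFlat M) (q : ℤ) :
    DCoh.IsKFlat ((HomologicalComplex.single X.Modules (ComplexShape.up ℤ) q).obj M) :=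
  of_bounded _ q inferInstance fun n => by
    by_cases hn : n = q
    · subst hn
      exact isFlat_of_iso (HomologicalComplex.singleObjXSelf _ _ _).symm h
    · exact isFlat_zero (HomologicalComplex.isZero_single_obj_X _ _ _ _ hn)

/-- complexes with zero differential and flat terms are K-flat -/
theorem of_zeroDiff (E : CochainComplex X.Modules ℤ) (hd : ∀ m n, E.d m n = 0)
    (h : ∀ n, FlatMod.IsFlat (E.X n)) : DCoh.IsKFlat E := by
  let S : ℤ → CochainComplex X.Modules ℤ := fun q =>
    (HomologicalComplex.single X.Modules (ComplexShape.up ℤ) q).obj (E.X q)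
  haveI : HasColimitsOfShape (Discrete ℤ) X.Modules :=
    haveI := Groth.L00.Tensor.grothendieckAbelian_modules X
    haveI : HasColimitsOfSize.{0, 0} X.Modules := hasColimitsOfSizeShrink.{0, 0, u, u} _
    inferInstance
  let d : ∀ q, S q ⟶ E := fun q =>
    HomologicalComplex.mkHomFromSingle (𝟙 (E.X q)) (fun n _ => by rw [hd, comp_zero])
  let f : (∐ S) ⟶ E := Sigma.desc d
  haveI : ∀ m, IsIso (f.f m) := fun m => by
    let g : E.X m ⟶ (∐ S).X m :=
      (HomologicalComplex.singleObjXSelf (ComplexShape.up ℤ) m (E.X m)).inv ≫ (Sigma.ι S m).f m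
    refine ⟨⟨g, ?_, ?_⟩⟩
    · refine (isColimitOfPreserves (HomologicalComplex.eval X.Modules (ComplexShape.up ℤ) m)
        (colimit.isColimit (Discrete.functor S))).hom_ext ?_
      rintro ⟨q⟩
      change (Sigma.ι S q).f m ≫ f.f m ≫ g = (Sigma.ι S q).f m ≫ 𝟙 _
      rw [← Category.assoc, ← HomologicalComplex.comp_f, Sigma.ι_desc, Category.comp_id]
      by_cases hq : m = q
      · subst hq
        simp [d, g]
      · exact (HomologicalComplex.isZero_single_obj_X _ _ _ _ hq).eq_of_src _ _
    · change _ ≫ f.f m = _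
      rw [Category.assoc, ← HomologicalComplex.comp_f, Sigma.ι_desc]
      simp [d]
  haveI := HomologicalComplex.Hom.isIso_of_components f
  exact of_iso (asIso f) (of_isColimit (Discrete.functor S) (colimit.isColimit _)
    fun j => single _ (h j.as) j.as)

/-- a cone on a zero differential flat complex preserves K-flatness -/
theorem mappingCone_of_zeroDiff {P N : CochainComplex X.Modules ℤ} (φ : P ⟶ N)
    (hd : ∀ m n, P.d m n = 0) (hP : ∀ n, FlatMod.IsFlat (P.X n)) (hN : DCoh.IsKFlat N) :
    DCoh.IsKFlat (mappingCone φ) :=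
  (two_of_three_split (mappingCone.triangleRotateShortComplexSplitting φ)).2.1 hN
    (of_zeroDiff _ (fun m n => by
      change (1 : ℤ).negOnePow • P.d (m + 1) (n + 1) = 0
      rw [hd, smul_zero]) (fun n => hP (n + 1)))

variable (X)

/-- the cell tower of `O_X`-modules -/
noncomputable abbrev Res : Arrow (CochainComplex X.Modules ℤ) ⥤ CochainComplex X.Modules ℤ :=
  Cell.res (FlatCover.cover X) (FlatCover.π X)

instance epi_π' (A : X.Modules) : Epi ((FlatCover.π X).app A) := FlatCover.epi_π A

variable {X}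

theorem isKFlat_res (e : Arrow (CochainComplex X.Modules ℤ)) (h : DCoh.IsKFlat e.left) :
    DCoh.IsKFlat ((Res X).obj e) := by
  refine Cell.res_induction (FlatCover.cover X) (FlatCover.π X) e (fun N => DCoh.IsKFlat N) h
    (fun f ih => mappingCone_of_zeroDiff _ (fun _ _ => rfl) (fun n => FlatCover.isFlat_cover _) ih)
    (fun K c hc hK => of_isColimit K hc hK)

theorem isFlat_res (e : Arrow (CochainComplex X.Modules ℤ)) (h : ∀ n, FlatMod.IsFlat (e.left.X n))
    (n : ℤ) : FlatMod.IsFlat (((Res X).obj e).X n) :=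
  Cell.res_induction (FlatCover.cover X) (FlatCover.π X) e (fun N => ∀ n, FlatMod.IsFlat (N.X n)) h
    (fun f ih => isFlat_mappingCone _ (fun m => FlatCover.isFlat_cover _) ih)
    (fun K c hc hK n => isFlat_colimitNat _
      (isColimitOfPreserves (HomologicalComplex.eval X.Modules (ComplexShape.up ℤ) n) hc) (fun k => hK k n)) n

/-- a contractible flat complex covering every degree -/
noncomputable def coverCx (G : CochainComplex X.Modules ℤ) : CochainComplex X.Modules ℤ where
  X p := (FlatCover.cover X).obj (G.X (p - 1))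
  d _ _ := 0
  shape _ _ _ := rfl
  d_comp_d' _ _ _ _ _ := comp_zero

/-- the covering cochain -/
noncomputable def coverCochain (G : CochainComplex X.Modules ℤ) : Cochain (coverCx G) G (-1) :=
  Cochain.mk fun p q hpq =>
    (FlatCover.π X).app _ ≫ (G.XIsoOfEq (show p - 1 = q by omega)).hom

/-- its coboundary -/
noncomputable def coverHom (G : CochainComplex X.Modules ℤ) : coverCx G ⟶ G :=
  Cocycle.homOf (Cocycle.mk (δ (-1) 0 (coverCochain G)) 1 (by omega) (δ_δ _ _ _ _))

/-- the contractible start -/
noncomputable def start (G : CochainComplex X.Modules ℤ) : CochainComplex X.Modules ℤ :=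
  mappingCone (𝟙 (coverCx G))

/-- its map to `G` -/
noncomputable def startHom (G : CochainComplex X.Modules ℤ) : start G ⟶ G :=
  mappingCone.desc (𝟙 (coverCx G)) (coverCochain G) (coverHom G) (by
    ext p
    simp [coverHom, Cocycle.homOf])

theorem epi_startHom_f (G : CochainComplex X.Modules ℤ) (n : ℤ) : Epi ((startHom G).f n) := by
  haveI : Epi ((mappingCone.inl (𝟙 (coverCx G))).v (n + 1) n (by omega) ≫ (startHom G).f n) := by
    rw [startHom, mappingCone.inl_v_desc_f]
    simp only [coverCochain, Cochain.mk_v]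
    exact epi_comp _ _
  exact epi_of_epi ((mappingCone.inl (𝟙 (coverCx G))).v (n + 1) n _) _

theorem isFlat_start (G : CochainComplex X.Modules ℤ) (n : ℤ) : FlatMod.IsFlat ((start G).X n) :=
  isFlat_mappingCone _ (fun _ => FlatCover.isFlat_cover _) (fun _ => FlatCover.isFlat_cover _) n

theorem isKFlat_start (G : CochainComplex X.Modules ℤ) : DCoh.IsKFlat (start G) :=
  mappingCone_of_zeroDiff _ (fun _ _ => rfl) (fun _ => FlatCover.isFlat_cover _)
    (of_zeroDiff _ (fun _ _ => rfl) (fun _ => FlatCover.isFlat_cover _))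

/-- factorisation through a K-flat complex, degreewise epimorphic -/
theorem exists_factor {K L : CochainComplex X.Modules ℤ} (a : K ⟶ L) (hK : DCoh.IsKFlat K) :
    ∃ (N : CochainComplex X.Modules ℤ) (b : K ⟶ N) (c : N ⟶ L), DCoh.IsKFlat N ∧ QuasiIso c ∧
      b ≫ c = a ∧ (∀ n, Epi (c.f n)) ∧
      ((∀ n : ℤ, FlatMod.IsFlat (K.X n)) → ∀ n : ℤ, FlatMod.IsFlat (N.X n)) := by
  let e : Arrow (CochainComplex X.Modules ℤ) := Arrow.mk (biprod.desc a (startHom L))
  have hio : (Cell.resIn _ _).app e ≫ (Cell.resOut _ _).app e = e.hom :=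
    NatTrans.congr_app (Cell.resIn_resOut (FlatCover.cover X) (FlatCover.π X)) e
  refine ⟨(Res X).obj e, biprod.inl ≫ (Cell.resIn _ _).app e, (Cell.resOut _ _).app e,
    isKFlat_res e ?_, Cell.quasiIso_resOut _ _ e, ?_, fun n => ?_, fun hfl => isFlat_res e fun n => ?_⟩
  · let S : ShortComplex (CochainComplex X.Modules ℤ) :=
      ShortComplex.mk (biprod.inl : K ⟶ K ⊞ start L) biprod.snd (by simp)
    have σ : S.Splitting := { r := biprod.fst, s := biprod.inr }
    exact (two_of_three_split (S := S)
      fun q => σ.map (HomologicalComplex.eval X.Modules (ComplexShape.up ℤ) q)).2.1 hK (isKFlat_start L)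
  · rw [Category.assoc, hio]
    exact biprod.inl_desc _ _
  · haveI : Epi ((startHom L).f n) := epi_startHom_f L n
    let π := FlatCover.π X
    have : ((biprod.inr : start L ⟶ K ⊞ start L) ≫ (Cell.resIn _ π).app e).f n ≫
        ((Cell.resOut _ π).app e).f n = (startHom L).f n := by
      rw [← HomologicalComplex.comp_f, Category.assoc, hio]
      exact congrArg (fun t => HomologicalComplex.Hom.f t n) (biprod.inr_desc _ _)
    exact epi_of_epi_fac this
  · exact isFlat_of_iso
      ((HomologicalComplex.eval X.Modules (ComplexShape.up ℤ) n).mapBiprod K (start L)).symm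
      (isFlat_biprod (hfl n) (isFlat_start L n))

/-- K-flat resolutions -/
theorem exists_resolution (G : CochainComplex X.Modules ℤ) :
    ∃ (K : CochainComplex X.Modules ℤ) (q : K ⟶ G), DCoh.IsKFlat K ∧ (∀ n : ℤ, FlatMod.IsFlat (K.X n)) ∧
      QuasiIso q ∧ ∀ n : ℤ, Epi (q.f n) := by
  have hz : IsZero (HomologicalComplex.zero : CochainComplex X.Modules ℤ) := HomologicalComplex.isZero_zero
  obtain ⟨N, b, c, hN, hc, -, he, hf⟩ :=
    exists_factor (0 : (HomologicalComplex.zero : CochainComplex X.Modules ℤ) ⟶ G) (zero _ hz)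
  exact ⟨N, c, hN, hf (fun n => isFlat_zero ((HomologicalComplex.eval X.Modules (ComplexShape.up ℤ) n).map_isZero hz)),
    hc, he⟩

end Groth.L00.KFlat
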