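/-
Symmetry of the tensor product of complexes; quasi-isomorphisms between K-flat complexes stay
quasi-isomorphisms after tensoring.
-/
import Groth.Agent.L00.KFlatRes
import Groth.Agent.L00.ConeTransfer

set_option autoImplicit false
set_option backward.isDefEq.respectTransparency false
set_option backward.isDefEq.respectTransparency.types false

universe u

open CategoryTheory CategoryTheory.Limits MonoidalCategory AlgebraicGeometry CochainComplex
open Groth.L00.Tensor

namespace Groth.L00.KFlat

variable {X : Scheme.{u}}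

instance additive_flip : (DCoh.tensorBi (X := X)).flip.Additive where
  map_add {M N f g} := by
    refine NatTrans.ext (funext fun P => ?_)
    exact ((DCoh.tensorBi (X := X)).obj P).map_add

instance additive_flip_obj (M : X.Modules) : ((DCoh.tensorBi (X := X)).flip.obj M).Additive where
  map_add {N P f g} := congrArg (fun k => NatTrans.app k M) ((DCoh.tensorBi (X := X)).map_add)

/-- `M ⊗ N ≅ N ⊗ M` as values of the bifunctor -/
noncomputable def commβ (M N : X.Modules) :
    ((DCoh.tensorBi (X := X)).obj ((𝟭 _).obj M)).obj ((𝟭 _).obj N) ≅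
      (𝟭 _).obj (((DCoh.tensorBi (X := X)).flip.obj M).obj N) :=
  tensorComm M N

theorem commβ_natural₁ {M M' : X.Modules} (f : M ⟶ M') (N : X.Modules) :
    ((DCoh.tensorBi (X := X)).map ((𝟭 _).map f)).app ((𝟭 _).obj N) ≫ (commβ M' N).hom =
      (commβ M N).hom ≫ (𝟭 _).map (((DCoh.tensorBi (X := X)).flip.map f).app N) := by
  refine ((shf X).map_comp _ _).symm.trans ((congrArg (shf X).map ?_).trans ((shf X).map_comp _ _))
  exact BraidedCategory.braiding_naturality_left _ _

theorem commβ_natural₂ (M : X.Modules) {N N' : X.Modules} (g : N ⟶ N') :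
    ((DCoh.tensorBi (X := X)).obj ((𝟭 _).obj M)).map ((𝟭 _).map g) ≫ (commβ M N').hom =
      (commβ M N).hom ≫ (𝟭 _).map (((DCoh.tensorBi (X := X)).flip.obj M).map g) := by
  refine ((shf X).map_comp _ _).symm.trans ((congrArg (shf X).map ?_).trans ((shf X).map_comp _ _))
  exact BraidedCategory.braiding_naturality_right _ _

/-- `E ⊗ L ≅ L ⊗ E` -/
noncomputable def commIso (L E : CochainComplex X.Modules ℤ) : (T E).obj L ≅ (T L).obj E :=
  FunctorTotal.totalIso (DCoh.tensorBi (X := X)).flip (DCoh.tensorBi (X := X)) (𝟭 _) (𝟭 _) (𝟭 _)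
      commβ commβ_natural₁ commβ_natural₂ (c := ComplexShape.up ℤ) E L ≪≫
    ((𝟭 X.Modules).mapHomologicalComplex (ComplexShape.up ℤ)).mapIso
      (HomologicalComplex.mapBifunctorFlipIso L E (DCoh.tensorBi (X := X)) (ComplexShape.up ℤ))

theorem commIso_ι (L E : CochainComplex X.Modules ℤ) (p q n : ℤ) (h : q + p = n) :
    HomologicalComplex.ιMapBifunctor E L (DCoh.tensorBi (X := X)) (ComplexShape.up ℤ) q p n h ≫
        (commIso L E).hom.f n =
      (commβ (E.X q) (L.X p)).hom ≫
        (ComplexShape.σ (ComplexShape.up ℤ) (ComplexShape.up ℤ) (ComplexShape.up ℤ) p q •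
          HomologicalComplex.ιMapBifunctor L E (DCoh.tensorBi (X := X)) (ComplexShape.up ℤ) p q n
            (show p + q = n by omega)) := by
  simp only [commIso, Iso.trans_hom, HomologicalComplex.comp_f, FunctorTotal.totalIso,
    HomologicalComplex.Hom.isoOfComponents_hom_f, asIso_hom]
  rw [← Category.assoc]
  refine (congrArg (fun k => k ≫ _) (FunctorTotal.ι_compX (DCoh.tensorBi (X := X)).flip (DCoh.tensorBi (X := X))
    (𝟭 _) (𝟭 _) (𝟭 _) commβ (c := ComplexShape.up ℤ) E L q p n h)).trans ?_
  rw [Category.assoc]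
  refine congrArg (fun k => (commβ (E.X q) (L.X p)).hom ≫ k) ?_
  exact HomologicalComplex.ι_mapBifunctorFlipIso_hom _ _ _ _ _ _ _ _

/-- naturality in the first variable -/
theorem commIso_natural {L L' : CochainComplex X.Modules ℤ} (a : L ⟶ L') (E : CochainComplex X.Modules ℤ) :
    (T E).map a ≫ (commIso L' E).hom =
      (commIso L E).hom ≫ ((DCoh.tensorCx (X := X)).map a).app E := by
  ext n : 1
  refine HomologicalComplex.mapBifunctor.hom_ext fun q p h => ?_
  have h' : p + q = n := by dsimp at h; omega
  rw [HomologicalComplex.comp_f, HomologicalComplex.comp_f, BifExact.ι_T_map_assoc, commIso_ι,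
    ← Category.assoc (f := HomologicalComplex.ιMapBifunctor E L _ _ q p n h), commIso_ι, Category.assoc,
    Linear.units_smul_comp]
  rw [show HomologicalComplex.ιMapBifunctor L E (DCoh.tensorBi (X := X)) (ComplexShape.up ℤ) p q n h' ≫
      (((DCoh.tensorCx (X := X)).map a).app E).f n =
      ((DCoh.tensorBi (X := X)).map (a.f p)).app (E.X q) ≫
        HomologicalComplex.ιMapBifunctor L' E (DCoh.tensorBi (X := X)) (ComplexShape.up ℤ) p q n h' from ?_]
  · rw [Linear.comp_units_smul, Linear.comp_units_smul, Linear.comp_units_smul]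
    refine congrArg (fun k => ComplexShape.σ (ComplexShape.up ℤ) (ComplexShape.up ℤ) (ComplexShape.up ℤ) p q • k) ?_
    rw [← Category.assoc, ← Category.assoc]
    refine congrArg (fun k => k ≫ HomologicalComplex.ιMapBifunctor L' E (DCoh.tensorBi (X := X)) (ComplexShape.up ℤ) p q n h') ?_
    exact commβ_natural₂ (E.X q) (a.f p)
  · refine (HomologicalComplex.ι_mapBifunctorMap a (𝟙 E) (DCoh.tensorBi (X := X)) (ComplexShape.up ℤ) p q n h').trans ?_
    rw [HomologicalComplex.id_f, CategoryTheory.Functor.map_id, Category.id_comp]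

/-- shifts of K-flat complexes are K-flat -/
theorem shift (E : CochainComplex X.Modules ℤ) (k : ℤ) (h : DCoh.IsKFlat E) : DCoh.IsKFlat (E⟦k⟧) :=
  fun L hL i => by
    refine IsZero.of_iso ?_ ((HomologicalComplex.homologyFunctor _ _ i).mapIso
      (CochainComplex.mapBifunctorShift₂Iso L E (DCoh.tensorBi (X := X)) k))
    exact (h L hL (k + i)).of_iso (((CochainComplex.ShiftSequence.shiftIso X.Modules k i (k + i) rfl).app _))

theorem isKFlat_cone {P Q : CochainComplex X.Modules ℤ} (α : P ⟶ Q) (hP : DCoh.IsKFlat P)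
    (hQ : DCoh.IsKFlat Q) : DCoh.IsKFlat (mappingCone α) :=
  (two_of_three_split (mappingCone.triangleRotateShortComplexSplitting α)).2.1 hQ (shift P 1 hP)

/-- an acyclic K-flat complex stays acyclic after tensoring with anything -/
theorem acyclic_tensor (K : CochainComplex X.Modules ℤ) (hK : DCoh.IsKFlat K)
    (hacyc : ∀ i, IsZero (K.homology i)) (L : CochainComplex X.Modules ℤ) (i : ℤ) :
    IsZero (((T L).obj K).homology i) := by
  have key : ∀ R : CochainComplex X.Modules ℤ, DCoh.IsKFlat R → ∀ i, IsZero (((T K).obj R).homology i) :=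
    fun R hR => hR K hacyc
  obtain ⟨R, r, hR, -, hr, -⟩ := exists_resolution L
  haveI := hr
  have hC : ∀ i, IsZero (((T K).obj (mappingCone r)).homology i) := fun i =>
    (hK (mappingCone r) (ConeTransfer.acyclic_cone r) i).of_iso
      ((HomologicalComplex.homologyFunctor _ _ i).mapIso (commIso (mappingCone r) K))
  have hS := BifExact.shortExact_T_of_splitting (DCoh.tensorBi (X := X)) K
    (mappingCone.triangleRotateShortComplex r) (mappingCone.triangleRotateShortComplexSplitting r)
  refine IsZero.of_iso ?_ ((HomologicalComplex.homologyFunctor _ _ i).mapIso (commIso L K)).symm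
  exact (hS.homology_exact₁ (i - 1) i (by simp)).isZero_X₂
    ((key _ (shift R 1 hR) (i - 1)).eq_of_src _ _) ((hC i).eq_of_tgt _ _)

/-- tensoring keeps quasi-isomorphisms between K-flat complexes -/
theorem quasiIso_tensor {P Q : CochainComplex X.Modules ℤ} (α : P ⟶ Q) [QuasiIso α]
    (hP : DCoh.IsKFlat P) (hQ : DCoh.IsKFlat Q) (L : CochainComplex X.Modules ℤ) :
    QuasiIso ((T L).map α) :=
  ConeTransfer.quasiIso_map (T L) (fun S σ => BifExact.shortExact_T_of_splitting _ L S σ) α
    (fun i => (((HomologicalComplex.homologyFunctor _ _ i).map_isZero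
      (HomologicalComplex.isZero_zero)).of_iso
      ((tensorHomotopyEquiv L
        { hom := 0
          inv := 0
          homotopyHomInvId := (Homotopy.ofEq (by simp)).trans (mappingCone.homotopyToZeroOfId P).symm
          homotopyInvHomId := Homotopy.ofEq (HomologicalComplex.isZero_zero.eq_of_src _ _) :
          HomotopyEquiv (mappingCone (𝟙 P)) (HomologicalComplex.zero : CochainComplex X.Modules ℤ) }).toHomologyIso i ≪≫
        (HomologicalComplex.homologyFunctor _ _ i).mapIso ((T L).map_isZero HomologicalComplex.isZero_zero).isoZero ≪≫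
        (HomologicalComplex.homologyFunctor _ _ i).mapIso HomologicalComplex.isZero_zero.isoZero.symm)))
    (fun i => acyclic_tensor _ (isKFlat_cone α hP hQ) (ConeTransfer.acyclic_cone α) L i)

/-- the same, in the first variable -/
theorem quasiIso_tensor_left {P Q : CochainComplex X.Modules ℤ} (α : P ⟶ Q) [QuasiIso α]
    (hP : DCoh.IsKFlat P) (hQ : DCoh.IsKFlat Q) (E : CochainComplex X.Modules ℤ) :
    QuasiIso (((DCoh.tensorCx (X := X)).map α).app E) := by
  haveI := quasiIso_tensor α hP hQ E
  have h : QuasiIso ((commIso P E).hom ≫ ((DCoh.tensorCx (X := X)).map α).app E) := by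
    rw [← commIso_natural]; infer_instance
  exact quasiIso_of_comp_left (commIso P E).hom _

end Groth.L00.KFlat
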