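/-
Skyscraper O_X-modules: the exact right adjoint of the linear stalk functor.
-/
import Groth.Agent.L00.StalkFunctor
import Mathlib.Topology.Sheaves.SheafCondition.UniqueGluing
import Mathlib.Algebra.Category.ModuleCat.Presheaf

set_option autoImplicit false
set_option backward.isDefEq.respectTransparency false
set_option backward.isDefEq.respectTransparency.types false

universe u

open CategoryTheory CategoryTheory.Limits AlgebraicGeometry Opposite TopologicalSpace

namespace Groth.L00.Sky

open Groth.L00.Tensor Groth.L00.StalkTensor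

variable {X : Scheme.{u}} (x : X) (N : ModuleCat.{u} (X.presheaf.stalk x))

/-- sections over `U` -/
def Sec (U : X.Opens) : Type u := PLift (x ∈ U) → N

noncomputable instance (U : X.Opens) : AddCommGroup (Sec x N U) :=
  inferInstanceAs (AddCommGroup (PLift (x ∈ U) → N))

/-- scalars act through germs -/
noncomputable instance secModule (U : X.Opens) : Module (X.presheaf.obj (op U)) (Sec x N U) where
  smul r s := fun h => (X.presheaf.germ U x h.down r : X.presheaf.stalk x) • s h
  one_smul s := funext fun h => by
    change (X.presheaf.germ U x h.down (1 : X.presheaf.obj (op U)) : X.presheaf.stalk x) • s h = _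
    rw [map_one, one_smul]
  mul_smul r r' s := funext fun h => by
    change (X.presheaf.germ U x h.down (r * r') : X.presheaf.stalk x) • s h = _
    rw [map_mul, mul_smul]
    rfl
  smul_zero r := funext fun h => smul_zero _
  smul_add r s t := funext fun h => smul_add _ _ _
  add_smul r r' s := funext fun h => by
    change (X.presheaf.germ U x h.down (r + r') : X.presheaf.stalk x) • s h = _
    rw [map_add, add_smul]
    rfl
  zero_smul s := funext fun h => by
    change (X.presheaf.germ U x h.down (0 : X.presheaf.obj (op U)) : X.presheaf.stalk x) • s h = _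
    rw [map_zero, zero_smul]
    rfl

/-- the abelian presheaf -/
noncomputable def abPre : X.Opensᵒᵖ ⥤ Ab.{u} where
  obj U := AddCommGrpCat.of (Sec x N U.unop)
  map {U V} i := AddCommGrpCat.ofHom
    { toFun := fun s h => s ⟨i.unop.le h.down⟩
      map_zero' := rfl
      map_add' := fun _ _ => rfl }

noncomputable instance (U : X.Opensᵒᵖ) :
    Module ((X.presheaf ⋙ forget₂ CommRingCat RingCat).obj U) ((abPre x N).obj U) :=
  secModule x N U.unop

theorem abPre_map_smul ⦃U V : X.Opensᵒᵖ⦄ (i : U ⟶ V)
    (r : (X.presheaf ⋙ forget₂ CommRingCat RingCat).obj U) (m : (abPre x N).obj U) :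
    (abPre x N).map i (r • m) =
      (X.presheaf ⋙ forget₂ CommRingCat RingCat).map i r • (abPre x N).map i m := by
  funext h
  change (X.presheaf.germ U.unop x (i.unop.le h.down) r : X.presheaf.stalk x) • m ⟨_⟩ =
    (X.presheaf.germ V.unop x h.down (X.presheaf.map i r) : X.presheaf.stalk x) • m ⟨_⟩
  rw [show i = i.unop.op from rfl, TopCat.Presheaf.germ_res_apply]

theorem abPre_isSheaf : TopCat.Presheaf.IsSheaf (abPre x N) := by
  rw [TopCat.Presheaf.isSheaf_iff_isSheafUniqueGluing]
  intro ι U sf hc
  classical
  let s : Sec x N (iSup U) := fun h =>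
    sf (Opens.mem_iSup.1 h.down).choose ⟨(Opens.mem_iSup.1 h.down).choose_spec⟩
  refine ⟨s, fun i => funext fun h => ?_, fun t ht => funext fun h => ?_⟩
  · exact congrFun (hc _ i) ⟨⟨(Opens.mem_iSup.1 ((Opens.leSupr U i).le h.down)).choose_spec, h.down⟩⟩
  · exact congrFun (ht (Opens.mem_iSup.1 h.down).choose) ⟨(Opens.mem_iSup.1 h.down).choose_spec⟩

/-- the skyscraper module -/
noncomputable def sky : X.Modules where
  val := PresheafOfModules.ofPresheaf (R := X.presheaf ⋙ forget₂ CommRingCat RingCat) (abPre x N)
    (abPre_map_smul x N)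
  isSheaf := abPre_isSheaf x N

variable {x N}

theorem sec_ext {U : X.Opens} {s t : Sec x N U} (h : ∀ hx : x ∈ U, s ⟨hx⟩ = t ⟨hx⟩) : s = t :=
  funext fun ⟨hx⟩ => h hx

variable (x) in
/-- functoriality -/
noncomputable def skyMap {N N' : ModuleCat.{u} (X.presheaf.stalk x)} (f : N ⟶ N') : sky x N ⟶ sky x N' :=
  ⟨PresheafOfModules.homMk
    { app := fun U => AddCommGrpCat.ofHom
        { toFun := fun (s : Sec x N U.unop) => (fun h => f (s h) : Sec x N' U.unop)
          map_zero' := funext fun h => map_zero f.hom
          map_add' := fun s t => funext fun h => map_add f.hom _ _ }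
      naturality := fun _ _ _ => rfl }
    (fun U r m => funext fun h => f.hom.map_smul _ _)⟩

theorem skyMap_app {N N' : ModuleCat.{u} (X.presheaf.stalk x)} (f : N ⟶ N') (U : X.Opens)
    (s : Sec x N U) (h : PLift (x ∈ U)) :
    ((skyMap x f).app U s : Sec x N' U) h = f (s h) := rfl

variable (x) in
/-- the skyscraper functor -/
noncomputable def skyF : ModuleCat.{u} (X.presheaf.stalk x) ⥤ X.Modules where
  obj := sky x
  map f := skyMap x f
  map_id N := by apply Scheme.Modules.hom_ext; intro U; ext s; rfl
  map_comp f g := by apply Scheme.Modules.hom_ext; intro U; ext s; rfl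

section Adj

variable (M : X.Modules) (N : ModuleCat.{u} (X.presheaf.stalk x))

/-- from stalk maps to maps into the skyscraper -/
noncomputable def toHom (φ : (Groth.L00.Stk.F X x).obj M ⟶ N) : M ⟶ sky x N :=
  ⟨PresheafOfModules.homMk
    { app := fun U => AddCommGrpCat.ofHom
        { toFun := fun m => (fun h => φ (germ (pre M) x h.down m) : Sec x N U.unop)
          map_zero' := funext fun h => by rw [map_zero]; exact map_zero φ.hom
          map_add' := fun a b => funext fun h => by rw [map_add]; exact map_add φ.hom _ _ }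
      naturality := fun U V i => by
        ext m
        funext h
        exact congrArg φ (germ_rs (pre M) x i.unop h.down m) }
    (fun U r m => funext fun h => by
      change φ (germ (pre M) x h.down (r • m)) = (X.presheaf.germ U.unop x h.down r : X.presheaf.stalk x) • _
      rw [germ_smul']
      exact φ.hom.map_smul _ _)⟩

theorem toHom_app (φ : (Groth.L00.Stk.F X x).obj M ⟶ N) (U : X.Opens) (m : (pre M).obj (op U))
    (h : PLift (x ∈ U)) : ((toHom M N φ).app U m : Sec x N U) h = φ (germ (pre M) x h.down m) := rfl

variable {M N} (ψ : M ⟶ sky x N)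

/-- value at a germ -/
noncomputable def evalHom {U : X.Opens} (hx : x ∈ U) : (pre M).obj (op U) →+ N where
  toFun m := (ψ.app U m : Sec x N U) ⟨hx⟩
  map_zero' := congrFun (map_zero (ψ.app U).hom) _
  map_add' a b := congrFun (map_add (ψ.app U).hom a b) _

/-- cocone on germs -/
noncomputable def evalNT :
    (OpenNhds.inclusion x).op ⋙ (PresheafOfModules.presheaf (R := X.presheaf ⋙ forget₂ CommRingCat RingCat)
      (show PresheafOfModules (X.presheaf ⋙ forget₂ CommRingCat RingCat) from pre M)) ⟶
    (Functor.const _).obj (AddCommGrpCat.of N) where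
  app U := AddCommGrpCat.ofHom (evalHom ψ U.unop.2)
  naturality U V i := by
    refine AddCommGrpCat.hom_ext (AddMonoidHom.ext fun m => ?_)
    exact congrFun (ConcreteCategory.congr_hom
      (((Scheme.Modules.toPresheaf X).map ψ).naturality ((OpenNhds.inclusion x).map i.unop).op) m)
      ⟨V.unop.2⟩

/-- additive map on the stalk -/
noncomputable def evalStalk : St (pre M) x →+ N :=
  (colimit.desc _ { pt := AddCommGrpCat.of N, ι := evalNT ψ }).hom

theorem evalStalk_germ {U : X.Opens} (hx : x ∈ U) (m : (pre M).obj (op U)) :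
    evalStalk ψ (germ (pre M) x hx m) = (ψ.app U m : Sec x N U) ⟨hx⟩ :=
  ConcreteCategory.congr_hom (colimit.ι_desc { pt := AddCommGrpCat.of N, ι := evalNT ψ } (op ⟨U, hx⟩)) m

/-- from maps into the skyscraper to stalk maps -/
noncomputable def ofHom : (Groth.L00.Stk.F X x).obj M ⟶ N :=
  ModuleCat.ofHom (X := (Groth.L00.Stk.F X x).obj M)
    { toFun := evalStalk ψ
      map_add' := map_add _
      map_smul' := fun r p => by
        obtain ⟨W, hW, m, rfl⟩ := exists_germ (pre M) x p
        obtain ⟨V, hV, a, rfl⟩ := TopCat.Presheaf.exists_germ_eq (F := X.presheaf) (x := x) r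
        let iW : W ⊓ V ⟶ W := homOfLE inf_le_left
        let iV : W ⊓ V ⟶ V := homOfLE inf_le_right
        have hWV : x ∈ W ⊓ V := ⟨hW, hV⟩
        change evalStalk ψ (_ • _) = X.presheaf.germ V x hV a • _
        rw [← germ_rs (pre M) x iW hWV m, ← TopCat.Presheaf.germ_res_apply X.presheaf iV x hWV a,
          ← germ_smul' (pre M) x hWV, evalStalk_germ, evalStalk_germ]
        exact congrFun ((ψ.val.app (op (W ⊓ V))).hom.map_smul (X.presheaf.map iV.op a)
          (rs (pre M) iW.op m)) ⟨hWV⟩ }

theorem ofHom_germ {U : X.Opens} (hx : x ∈ U) (m : (pre M).obj (op U)) :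
    ofHom ψ (germ (pre M) x hx m) = (ψ.app U m : Sec x N U) ⟨hx⟩ := evalStalk_germ ψ hx m

end Adj

variable (x) in
/-- stalk is left adjoint to skyscraper -/
noncomputable def adj : Groth.L00.Stk.F X x ⊣ skyF x :=
  Adjunction.mkOfHomEquiv
    { homEquiv := fun M N =>
        { toFun := toHom M N
          invFun := ofHom
          left_inv := fun φ => by
            ext p
            obtain ⟨U, hU, m, rfl⟩ := exists_germ (pre M) x p
            exact ofHom_germ _ hU m
          right_inv := fun ψ => by
            apply Scheme.Modules.hom_ext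
            intro U
            ext m
            exact funext fun h => ofHom_germ ψ h.down m }
      homEquiv_naturality_left_symm := fun {M' M N} f g => by
        ext p
        obtain ⟨U, hU, m, rfl⟩ := exists_germ (pre M') x p
        change ofHom (f ≫ g) (germ (pre M') x hU m) =
          ofHom g ((Groth.L00.Stk.F X x).map f (germ (pre M') x hU m))
        rw [ofHom_germ]
        refine Eq.trans ?_ (congrArg (ofHom g) (DerSch.stalkFunctor_map_germ x f U hU m)).symm
        exact (ofHom_germ g hU (f.app U m)).symm
      homEquiv_naturality_right := fun {M N N'} f g => rfl }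

variable (x) in
instance : (skyF x).IsRightAdjoint := (adj x).isRightAdjoint

variable (x) in
instance : (skyF x).Additive := (adj x).right_adjoint_additive

/-- the stalk of a skyscraper at its point -/
theorem isIso_counit (N : ModuleCat.{u} (X.presheaf.stalk x)) : IsIso ((adj x).counit.app N) := by
  rw [ConcreteCategory.isIso_iff_bijective]
  have hc : (adj x).counit.app N = ofHom (𝟙 (sky x N)) := by
    simp [adj, skyF]
  rw [hc]
  refine ⟨(injective_iff_map_eq_zero (ofHom (𝟙 (sky x N))).hom).2 fun p hp => ?_, fun n => ?_⟩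
  · obtain ⟨U, hU, s, rfl⟩ := exists_germ (pre (sky x N)) x p
    have hs : s = 0 := sec_ext fun hx => (ofHom_germ (𝟙 (sky x N)) hU s).symm.trans hp
    rw [hs, map_zero]
  · exact ⟨germ (pre (sky x N)) x (U := ⊤) trivial (fun _ => n : Sec x N ⊤),
      ofHom_germ (𝟙 (sky x N)) _ _⟩

/-- stalk of skyscraper, naturally -/
noncomputable def counitIso (x : X) : skyF x ⋙ Groth.L00.Stk.F X x ≅ 𝟭 _ :=
  haveI : ∀ N, IsIso ((adj x).counit.app N) := fun N => isIso_counit N
  haveI := NatIso.isIso_of_isIso_app (adj x).counit
  asIso (adj x).counit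

variable (x) in
instance preservesHomology_skyF : (skyF x).PreservesHomology := by
  refine Functor.preservesHomology_of_map_exact _ fun S hS => ?_
  rw [ShortComplex.exact_iff_isZero_homology, Groth.L00.Stk.isZero_iff]
  intro z
  refine IsZero.of_iso ?_ ((S.map (skyF x)).mapHomologyIso (Groth.L00.Stk.F X z)).symm
  rw [← ShortComplex.exact_iff_isZero_homology, ShortComplex.moduleCat_exact_iff]
  intro p hp
  obtain ⟨U, hU, s, rfl⟩ := exists_germ (pre (sky x S.X₂)) z p
  have hp' : germ (pre (sky x S.X₃)) z hU ((skyMap x S.g).app U s) =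
      germ (pre (sky x S.X₃)) z hU 0 := by
    rw [map_zero]
    exact (DerSch.stalkFunctor_map_germ z (skyMap x S.g) U hU s).symm.trans hp
  obtain ⟨W, hW, i, j, hij⟩ := germ_eq (pre (sky x S.X₃)) z hU hU hp'
  classical
  rw [ShortComplex.moduleCat_exact_iff] at hS
  have hk : ∀ h : PLift (x ∈ W), ∃ a, S.f a = (rs (pre (sky x S.X₂)) i.op s : Sec x S.X₂ W) h := fun h =>
    hS _ (congrFun hij h)
  refine ⟨germ (pre (sky x S.X₁)) z hW (fun h => (hk h).choose : Sec x S.X₁ W), ?_⟩
  refine (DerSch.stalkFunctor_map_germ z (skyMap x S.f) W hW _).trans ?_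
  refine Eq.trans (congrArg (germ (pre (sky x S.X₂)) z hW) ?_) (germ_rs (pre (sky x S.X₂)) z i hW s)
  exact funext fun h => (hk h).choose_spec

end Groth.L00.Sky
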