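/-
Stalks of pullbacks of O-modules, and base change of tensor products of complexes of modules.
-/
import Groth.Agent.L00.Skyscraper
import Groth.Agent.L00.FunctorTotal
import Mathlib.Algebra.Category.ModuleCat.ChangeOfRings
import Mathlib.Algebra.Category.ModuleCat.Monoidal.Basic
import Mathlib.Algebra.Homology.Monoidal
import Mathlib.Algebra.Category.ModuleCat.Colimits
import Mathlib.CategoryTheory.Adjunction.Unique

set_option autoImplicit false
set_option backward.isDefEq.respectTransparency false
set_option backward.isDefEq.respectTransparency.types false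

universe u

open CategoryTheory CategoryTheory.Limits MonoidalCategory AlgebraicGeometry Opposite TopologicalSpace

namespace Groth.L00.PullStalk

open Groth.L00.Sky

variable {X Y : Scheme.{u}} (f : X ⟶ Y) (x : X)

/-- the map of local rings -/
noncomputable abbrev φ : Y.presheaf.stalk (f x) →+* X.presheaf.stalk x := (f.stalkMap x).hom

theorem push_smul (M : X.Modules) (U : Y.Opens) (r : Γ(Y, U))
    (m : Γ((Scheme.Modules.pushforward f).obj M, U)) :
    r • m = (show Γ(M, f ⁻¹ᵁ U) from (f.app U r) • (show Γ(M, f ⁻¹ᵁ U) from m)) := rfl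

/-- pushforward of a skyscraper is a skyscraper -/
noncomputable def pushSkyHom (N : ModuleCat.{u} (X.presheaf.stalk x)) :
    (Scheme.Modules.pushforward f).obj (sky x N) ⟶ sky (f x) ((ModuleCat.restrictScalars (φ f x)).obj N) :=
  ⟨PresheafOfModules.homMk
    { app := fun U => AddCommGrpCat.ofHom
        { toFun := fun (s : Sec x N (f ⁻¹ᵁ U.unop)) =>
            ((fun h => s ⟨h.down⟩) : Sec (f x) ((ModuleCat.restrictScalars (φ f x)).obj N) U.unop)
          map_zero' := rfl
          map_add' := fun _ _ => rfl }
      naturality := fun U V i => rfl }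
    (fun U r (s : Sec x N (f ⁻¹ᵁ U.unop)) => funext fun h => by
      change (X.presheaf.germ (f ⁻¹ᵁ U.unop) x h.down (f.app U.unop r) : X.presheaf.stalk x) • s ⟨h.down⟩ =
        (φ f x) (Y.presheaf.germ U.unop (f x) h.down r) • (show N from s ⟨h.down⟩)
      rw [show (φ f x) (Y.presheaf.germ U.unop (f x) h.down r) =
        X.presheaf.germ (f ⁻¹ᵁ U.unop) x h.down (f.app U.unop r) from
          Scheme.Hom.germ_stalkMap_apply f U.unop x h.down r])⟩

instance (N : ModuleCat.{u} (X.presheaf.stalk x)) : IsIso (pushSkyHom f x N) := by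
  haveI : IsIso ((Scheme.Modules.toPresheaf Y).map (pushSkyHom f x N)) := by
    haveI : ∀ U, IsIso (((Scheme.Modules.toPresheaf Y).map (pushSkyHom f x N)).app U) := fun U => by
      rw [ConcreteCategory.isIso_iff_bijective]
      exact ⟨fun s t h => funext fun a => congrFun h ⟨a.down⟩,
        fun s => ⟨fun a => s ⟨a.down⟩, rfl⟩⟩
    exact NatIso.isIso_of_isIso_app _
  exact isIso_of_reflects_iso _ (Scheme.Modules.toPresheaf Y)

/-- naturally -/
noncomputable def pushSkyIso :
    skyF x ⋙ Scheme.Modules.pushforward f ≅ ModuleCat.restrictScalars (φ f x) ⋙ skyF (f x) :=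
  NatIso.ofComponents (fun N => asIso (pushSkyHom f x N)) (fun {N N'} g => by
    apply Scheme.Modules.hom_ext
    intro U
    ext s
    rfl)

/-- the stalk of a pullback -/
noncomputable def stalkIso :
    Scheme.Modules.pullback f ⋙ Groth.L00.Stk.F X x ≅
      Groth.L00.Stk.F Y (f x) ⋙ ModuleCat.extendScalars (φ f x) :=
  ((Scheme.Modules.pullbackPushforwardAdjunction f).comp (Sky.adj x)).leftAdjointUniq
    (((Sky.adj (f x)).comp (ModuleCat.extendRestrictScalarsAdj (φ f x))).ofNatIsoRight (pushSkyIso f x).symm)

end Groth.L00.PullStalk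

namespace Groth.L00.BaseChangeTensor

variable {A B : Type u} [CommRing A] [CommRing B] (g : A →+* B)

/-- `k ⊗ l ↦ (1 ⊗ k) ⊗ l` -/
noncomputable def βIso (K : ModuleCat.{u} A) (L : ModuleCat.{u} B) :
    ((curriedTensor (ModuleCat.{u} A)).obj K).obj ((ModuleCat.restrictScalars g).obj L) ≅
      (ModuleCat.restrictScalars g).obj (((ModuleCat.extendScalars g ⋙ curriedTensor (ModuleCat.{u} B)).obj K).obj L) :=
  letI := g.toAlgebra
  letI : Module A L := Module.compHom L g
  haveI : IsScalarTower A B L := IsScalarTower.of_compHom A B L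
  LinearEquiv.toModuleIso
    (TensorProduct.comm A K L ≪≫ₗ
      (TensorProduct.AlgebraTensorModule.cancelBaseChange A B B L K).symm.restrictScalars A ≪≫ₗ
      (TensorProduct.comm B L (TensorProduct A B K)).restrictScalars A)

theorem βIso_natural₁ {K K' : ModuleCat.{u} A} (a : K ⟶ K') (L : ModuleCat.{u} B) :
    ((curriedTensor (ModuleCat.{u} A)).map a).app ((ModuleCat.restrictScalars g).obj L) ≫ (βIso g K' L).hom =
      (βIso g K L).hom ≫ (ModuleCat.restrictScalars g).map
        (((ModuleCat.extendScalars g ⋙ curriedTensor (ModuleCat.{u} B)).map a).app L) := by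
  ext : 1
  refine TensorProduct.ext' fun k l => ?_
  rfl

theorem βIso_natural₂ (K : ModuleCat.{u} A) {L L' : ModuleCat.{u} B} (b : L ⟶ L') :
    ((curriedTensor (ModuleCat.{u} A)).obj K).map ((ModuleCat.restrictScalars g).map b) ≫ (βIso g K L').hom =
      (βIso g K L).hom ≫ (ModuleCat.restrictScalars g).map
        (((ModuleCat.extendScalars g ⋙ curriedTensor (ModuleCat.{u} B)).obj K).map b) := by
  ext : 1
  refine TensorProduct.ext' fun k l => ?_
  rfl

instance preservesColimits₀_restrictScalars : PreservesColimitsOfSize.{0, 0} (ModuleCat.restrictScalars.{u} g) :=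
  ⟨fun {J} _ => ⟨fun {F} => inferInstance⟩⟩

instance additive_extendScalars : (ModuleCat.extendScalars.{u, u, u} g).Additive :=
  (ModuleCat.extendRestrictScalarsAdj g).left_adjoint_additive

instance additive_comp_obj (K : ModuleCat.{u} A) :
    ((ModuleCat.extendScalars g ⋙ curriedTensor (ModuleCat.{u} B)).obj K).Additive :=
  inferInstanceAs ((curriedTensor (ModuleCat.{u} B)).obj ((ModuleCat.extendScalars g).obj K)).Additive

/-- `K ⊗_A L ≅ (B ⊗_A K) ⊗_B L` for complexes -/
noncomputable def tensorIso (K : CochainComplex (ModuleCat.{u} A) ℤ) (L : CochainComplex (ModuleCat.{u} B) ℤ) :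
    HomologicalComplex.tensorObj K (((ModuleCat.restrictScalars g).mapHomologicalComplex _).obj L) ≅
      ((ModuleCat.restrictScalars g).mapHomologicalComplex _).obj
        (HomologicalComplex.tensorObj (((ModuleCat.extendScalars g).mapHomologicalComplex _).obj K) L) :=
  FunctorTotal.totalIso (ModuleCat.extendScalars g ⋙ curriedTensor (ModuleCat.{u} B))
    (curriedTensor (ModuleCat.{u} A)) (𝟭 _) (ModuleCat.restrictScalars g) (ModuleCat.restrictScalars g)
    (βIso g) (βIso_natural₁ g) (βIso_natural₂ g) (c := ComplexShape.up ℤ) K L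

end Groth.L00.BaseChangeTensor
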