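/-
K-flatness on stalks; pullbacks and tildes of K-flat complexes.
-/
import Groth.Agent.L00.KFlatStalk
import Groth.Agent.L00.PullStalk
import Mathlib.Algebra.Homology.BifunctorFlip
import Mathlib.AlgebraicGeometry.Modules.Tilde

set_option autoImplicit false
set_option backward.isDefEq.respectTransparency false
set_option backward.isDefEq.respectTransparency.types false

universe u

open CategoryTheory CategoryTheory.Limits MonoidalCategory AlgebraicGeometry Opposite

namespace Groth.L00.KFlatAlg

variable {A B : Type u} [CommRing A] [CommRing B]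

/-- K-flatness of a complex of modules, in the form used on stalks -/
abbrev KF (K : CochainComplex (ModuleCat.{u} A) ℤ) : Prop :=
  ∀ M : CochainComplex (ModuleCat.{u} A) ℤ, (∀ i, IsZero (M.homology i)) →
    ∀ i, IsZero ((HomologicalComplex.tensorObj K M).homology i)

theorem KF_of_iso {K K' : CochainComplex (ModuleCat.{u} A) ℤ} (e : K ≅ K') (h : KF K) : KF K' :=
  fun M hM i => (h M hM i).of_iso ((HomologicalComplex.homologyFunctor _ _ i).mapIso
    (((curriedTensor (ModuleCat.{u} A)).map₂CochainComplex.mapIso e.symm).app M))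

instance preservesHomology_restrictScalars (g : A →+* B) :
    (ModuleCat.restrictScalars.{u} g).PreservesHomology :=
  Functor.preservesHomology_of_map_exact _ fun S hS => by
    rw [ShortComplex.moduleCat_exact_iff] at hS ⊢
    intro y hy
    exact hS y hy

theorem isZero_restrictScalars_iff (g : A →+* B) (M : ModuleCat.{u} B) :
    IsZero ((ModuleCat.restrictScalars g).obj M) ↔ IsZero M :=
  ⟨fun h => by
      have h' := ModuleCat.isZero_iff_subsingleton.1 h
      exact ModuleCat.isZero_iff_subsingleton.2 h',
    fun h => by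
      have h' := ModuleCat.isZero_iff_subsingleton.1 h
      exact ModuleCat.isZero_iff_subsingleton.2 h'⟩

theorem acyclic_restrictScalars (g : A →+* B) (M : CochainComplex (ModuleCat.{u} B) ℤ) (i : ℤ) :
    IsZero ((((ModuleCat.restrictScalars g).mapHomologicalComplex (ComplexShape.up ℤ)).obj M).homology i) ↔
      IsZero (M.homology i) :=
  ((M.sc i).mapHomologyIso (ModuleCat.restrictScalars g)).isZero_iff.trans (isZero_restrictScalars_iff g _)

/-- K-flat complexes stay K-flat after extension of scalars -/
theorem KF_extend (g : A →+* B) {K : CochainComplex (ModuleCat.{u} A) ℤ} (hK : KF K) :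
    KF (((ModuleCat.extendScalars g).mapHomologicalComplex (ComplexShape.up ℤ)).obj K) := fun L hL i =>
  (acyclic_restrictScalars g _ i).1
    ((hK _ (fun j => (acyclic_restrictScalars g L j).2 (hL j)) i).of_iso
      ((HomologicalComplex.homologyFunctor _ _ i).mapIso (BaseChangeTensor.tensorIso g K L)).symm)

instance additive_flip : (curriedTensor (ModuleCat.{u} A)).flip.Additive where
  map_add {M N f g} := by
    refine NatTrans.ext (funext fun P => ?_)
    exact ((curriedTensor (ModuleCat.{u} A)).obj P).map_add

instance additive_flip_obj (M : ModuleCat.{u} A) : ((curriedTensor (ModuleCat.{u} A)).flip.obj M).Additive where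
  map_add {N P f g} := congrArg (fun k => NatTrans.app k M) ((curriedTensor (ModuleCat.{u} A)).map_add)

/-- symmetry -/
noncomputable def commIso (L K : CochainComplex (ModuleCat.{u} A) ℤ) :
    HomologicalComplex.tensorObj K L ≅ HomologicalComplex.tensorObj L K :=
  FunctorTotal.totalIso (curriedTensor (ModuleCat.{u} A)).flip (curriedTensor (ModuleCat.{u} A))
      (𝟭 _) (𝟭 _) (𝟭 _) (fun M N => β_ M N)
      (fun f N => BraidedCategory.braiding_naturality_left f N)
      (fun M _ _ g => BraidedCategory.braiding_naturality_right M g) (c := ComplexShape.up ℤ) K L ≪≫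
    ((𝟭 (ModuleCat.{u} A)).mapHomologicalComplex (ComplexShape.up ℤ)).mapIso
      (HomologicalComplex.mapBifunctorFlipIso L K (curriedTensor (ModuleCat.{u} A)) (ComplexShape.up ℤ))

end Groth.L00.KFlatAlg

namespace Groth.L00.KFlat

open Groth.L00.KFlatAlg

variable {X Y : Scheme.{u}}

/-- the stalks of a K-flat complex are K-flat -/
theorem stalk_KF (K : CochainComplex X.Modules ℤ) (hK : DCoh.IsKFlat K) (x : X) :
    KF ((Groth.L00.Stk.S X x).obj K) := fun M hM i => by
  let M' : CochainComplex X.Modules ℤ := ((Sky.skyF x).mapHomologicalComplex (ComplexShape.up ℤ)).obj M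
  have hM' : ∀ j, IsZero (M'.homology j) := fun j =>
    ((Sky.skyF x).map_isZero (hM j)).of_iso ((M.sc j).mapHomologyIso (Sky.skyF x))
  have h := (Groth.L00.Stk.acyclic_iff _ i).1 (hK M' hM' i) x
  let e : (Groth.L00.Stk.S X x).obj M' ≅ M :=
    HomologicalComplex.Hom.isoOfComponents (fun j => (Sky.counitIso x).app (M.X j))
      (fun j k _ => ((Sky.counitIso x).hom.naturality (M.d j k)).symm)
  refine h.of_iso ((HomologicalComplex.homologyFunctor _ _ i).mapIso ?_)
  exact ((curriedTensor (ModuleCat.{u} (X.presheaf.stalk x))).map₂CochainComplex.obj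
      ((Groth.L00.Stk.S X x).obj K)).mapIso e.symm ≪≫
    Groth.L00.Stk.tensorCxIso x M' K

theorem of_stalk_KF (E : CochainComplex X.Modules ℤ) (h : ∀ x, KF ((Groth.L00.Stk.S X x).obj E)) :
    DCoh.IsKFlat E := Groth.L00.Stk.isKFlat_of_stalks E h

/-- stalks of a pulled back complex -/
noncomputable def pullCxIso (f : X ⟶ Y) (K : CochainComplex Y.Modules ℤ) (x : X) :
    (Groth.L00.Stk.S X x).obj (((Scheme.Modules.pullback f).mapHomologicalComplex (ComplexShape.up ℤ)).obj K) ≅
      ((ModuleCat.extendScalars (PullStalk.φ f x)).mapHomologicalComplex (ComplexShape.up ℤ)).obj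
        ((Groth.L00.Stk.S Y (f x)).obj K) :=
  HomologicalComplex.Hom.isoOfComponents (fun j => (PullStalk.stalkIso f x).app (K.X j))
    (fun j k _ => ((PullStalk.stalkIso f x).hom.naturality (K.d j k)).symm)

theorem pullback_kflat (f : X ⟶ Y) (K : CochainComplex Y.Modules ℤ) (hK : DCoh.IsKFlat K) :
    DCoh.IsKFlat (((Scheme.Modules.pullback f).mapHomologicalComplex (ComplexShape.up ℤ)).obj K) :=
  of_stalk_KF _ fun x => KF_of_iso (pullCxIso f K x).symm (KF_extend _ (stalk_KF K hK (f x)))

section Tilde

variable (R : CommRingCat.{u}) (x : (Spec R : Scheme.{u}))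

/-- `R → O_x` -/
noncomputable def toStalk : R →+* (Spec R).presheaf.stalk x :=
  ((Spec R).presheaf.germ (⊤ : (Spec R).Opens) x trivial).hom.comp (Scheme.ΓSpecIso R).inv.hom

/-- global sections of a skyscraper -/
noncomputable def skyΓIso :
    Sky.skyF x ⋙ moduleSpecΓFunctor (R := R) ≅ ModuleCat.restrictScalars (toStalk R x) :=
  NatIso.ofComponents (fun N => @LinearEquiv.toModuleIso R _ _ _ _ _ ((Sky.skyF x ⋙ moduleSpecΓFunctor (R := R)).obj N).isModule
      ((ModuleCat.restrictScalars (toStalk R x)).obj N).isModule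
    { toFun := fun (s : Sky.Sec x N ⊤) => s ⟨trivial⟩
      invFun := fun n => (fun _ => n : Sky.Sec x N ⊤)
      left_inv := fun s => rfl
      right_inv := fun n => rfl
      map_add' := fun s t => rfl
      map_smul' := fun r (s : Sky.Sec x N ⊤) => by
        change ((Spec R).presheaf.germ (⊤ : (Spec R).Opens) x trivial
          ((Spec R).ringCatSheaf.obj.map _ ((Scheme.ΓSpecIso R).inv r)) : (Spec R).presheaf.stalk x) • s ⟨trivial⟩ = _
        rw [show ((Spec R).ringCatSheaf.obj.map _ ((Scheme.ΓSpecIso R).inv r)) = (Scheme.ΓSpecIso R).inv r from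
          (congrArg (fun k => (Spec R).ringCatSheaf.obj.map k ((Scheme.ΓSpecIso R).inv r)) (Subsingleton.elim _ (𝟙 _))).trans
            (ConcreteCategory.congr_hom ((Spec R).ringCatSheaf.obj.map_id _) _)]
        rfl })
    (fun {N N'} g => by ext s; rfl)

/-- stalks of tilde -/
noncomputable def tildeStalkIso :
    tilde.functor R ⋙ Groth.L00.Stk.F (Spec R) x ≅ ModuleCat.extendScalars (toStalk R x) :=
  ((tilde.adjunction (R := R)).comp (Sky.adj x)).leftAdjointUniq
    ((ModuleCat.extendRestrictScalarsAdj (toStalk R x)).ofNatIsoRight (skyΓIso R x).symm)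

end Tilde

theorem tilde_kflat (R : CommRingCat.{u}) (K : CochainComplex (ModuleCat.{u} R) ℤ)
    (hK : KF K) : DCoh.IsKFlat (((tilde.functor R).mapHomologicalComplex (ComplexShape.up ℤ)).obj K) :=
  of_stalk_KF _ fun x => KF_of_iso
    (HomologicalComplex.Hom.isoOfComponents (fun j => (tildeStalkIso R x).app (K.X j))
      (fun j k _ => ((tildeStalkIso R x).hom.naturality (K.d j k)).symm)).symm
    (KF_extend _ hK)

end Groth.L00.KFlat
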