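/-
Left derived functors from a functorial resolution.
-/
import Mathlib.CategoryTheory.Functor.Derived.LeftDerived
import Mathlib.CategoryTheory.Localization.Predicate

set_option autoImplicit false
set_option backward.isDefEq.respectTransparency false
set_option backward.isDefEq.respectTransparency.types false

open CategoryTheory Category

namespace Groth.L00.LeftDeriv

section General

variable {C D H : Type*} [Category C] [Category D] [Category H]
  (F : C ⥤ H) (W : MorphismProperty C) (L : C ⥤ D) [L.IsLocalization W]
  (R : C ⥤ C) (r : R ⟶ 𝟭 C)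

/-- `F` of the resolution descends -/
noncomputable def LF (hF : W.IsInvertedBy (R ⋙ F)) : D ⥤ H := Localization.lift (R ⋙ F) hF L

variable (hr : ∀ X, W (r.app X)) (hF : W.IsInvertedBy (R ⋙ F)) (hrr : ∀ X, IsIso (F.map (r.app (R.obj X))))

/-- the counit -/
noncomputable def α : L ⋙ LF F W L R hF ⟶ F :=
  (Localization.fac (R ⋙ F) hF L).hom ≫ Functor.whiskerRight r F ≫ F.leftUnitor.hom

theorem α_app (X : C) :
    (α F W L R r hF).app X = (Localization.fac (R ⋙ F) hF L).hom.app X ≫ F.map (r.app X) := by
  simp [α]

include hrr in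
theorem isIso_α_app (X : C) : IsIso ((α F W L R r hF).app (R.obj X)) := by
  rw [α_app]
  haveI := hrr X
  infer_instance

include hr hrr in
theorem isRightKanExtension : (LF F W L R hF).IsRightKanExtension (α F W L R r hF) := by
  haveI := Localization.essSurj L W
  haveI : ∀ X, IsIso (L.map (r.app X)) := fun X => Localization.inverts L W _ (hr X)
  letI : Localization.Lifting L W (R ⋙ F) (LF F W L R hF) := ⟨Localization.fac (R ⋙ F) hF L⟩
  refine ⟨⟨Limits.IsTerminal.ofUniqueHom (fun E => CostructuredArrow.homMk ?_ ?_) ?_⟩⟩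
  · letI : Localization.Lifting L W (L ⋙ E.left) E.left := ⟨Iso.refl _⟩
    exact Localization.liftNatTrans L W (L ⋙ E.left) (R ⋙ F) E.left (LF F W L R hF)
      { app := fun X => E.left.map (inv (L.map (r.app X))) ≫ E.hom.app (R.obj X)
        naturality := fun X Y g => by
          have h1 : inv (L.map (r.app X)) ≫ L.map (R.map g) = L.map g ≫ inv (L.map (r.app Y)) := by
            rw [IsIso.inv_comp_eq, ← assoc, IsIso.eq_comp_inv, ← L.map_comp, ← L.map_comp]
            exact congrArg L.map (r.naturality g)
          dsimp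
          rw [← Functor.map_comp_assoc, ← h1, Functor.map_comp_assoc, assoc]
          exact congrArg (fun k => E.left.map (inv (L.map (r.app X))) ≫ k) (E.hom.naturality (R.map g)) }
  · letI : Localization.Lifting L W (L ⋙ E.left) E.left := ⟨Iso.refl _⟩
    ext X
    change (Localization.liftNatTrans L W _ _ _ _ _).app (L.obj X) ≫ (α F W L R r hF).app X = E.hom.app X
    rw [Localization.liftNatTrans_app, α_app]
    change (𝟙 _ ≫ (E.left.map (inv (L.map (r.app X))) ≫ E.hom.app (R.obj X)) ≫
      (Localization.fac (R ⋙ F) hF L).inv.app X) ≫ (Localization.fac (R ⋙ F) hF L).hom.app X ≫ F.map (r.app X) = _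
    simp only [assoc, id_comp, Iso.inv_hom_id_app_assoc]
    have hn : E.left.map (L.map (r.app X)) ≫ E.hom.app X = E.hom.app (R.obj X) ≫ F.map (r.app X) :=
      E.hom.naturality (r.app X)
    rw [← hn, ← Functor.map_comp_assoc, IsIso.inv_hom_id, CategoryTheory.Functor.map_id, id_comp]
  · intro E m
    ext : 1
    refine Localization.natTrans_ext L W fun X => ?_
    have hm : ∀ Y, m.left.app (L.obj Y) ≫ (α F W L R r hF).app Y = E.hom.app Y := fun Y =>
      congrArg (fun t => NatTrans.app t Y) (CostructuredArrow.w m)
    haveI := isIso_α_app F W L R r hF hrr X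
    have key : ∀ (n : E.left ⟶ LF F W L R hF), (∀ Y, n.app (L.obj Y) ≫ (α F W L R r hF).app Y = E.hom.app Y) →
        n.app (L.obj X) = E.left.map (inv (L.map (r.app X))) ≫ (E.hom.app (R.obj X) ≫
          inv ((α F W L R r hF).app (R.obj X))) ≫ (LF F W L R hF).map (L.map (r.app X)) := by
      intro n hn
      rw [← hn (R.obj X)]
      simp only [assoc, IsIso.hom_inv_id_assoc]
      rw [← n.naturality, ← Functor.map_comp_assoc,
        IsIso.inv_hom_id, CategoryTheory.Functor.map_id, id_comp]
      rfl
    refine (key m.left hm).trans (key _ fun Y => ?_).symm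
    letI : Localization.Lifting L W (L ⋙ E.left) E.left := ⟨Iso.refl _⟩
    change (Localization.liftNatTrans L W _ _ _ _ _).app (L.obj Y) ≫ (α F W L R r hF).app Y = E.hom.app Y
    rw [Localization.liftNatTrans_app, α_app]
    change (𝟙 _ ≫ (E.left.map (inv (L.map (r.app Y))) ≫ E.hom.app (R.obj Y)) ≫
      (Localization.fac (R ⋙ F) hF L).inv.app Y) ≫ (Localization.fac (R ⋙ F) hF L).hom.app Y ≫ F.map (r.app Y) = _
    simp only [assoc, id_comp, Iso.inv_hom_id_app_assoc]
    have hn : E.left.map (L.map (r.app Y)) ≫ E.hom.app Y = E.hom.app (R.obj Y) ≫ F.map (r.app Y) :=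
      E.hom.naturality (r.app Y)
    rw [← hn, ← Functor.map_comp_assoc, IsIso.inv_hom_id, CategoryTheory.Functor.map_id, id_comp]

include L r hr hF hrr in
theorem hasLeftDerivedFunctor : F.HasLeftDerivedFunctor W := by
  haveI := isRightKanExtension F W L R r hr hF hrr
  rw [Functor.hasLeftDerivedFunctor_iff F L W]
  exact Functor.HasRightKanExtension.mk (LF F W L R hF) (α F W L R r hF)

include hr hrr in
theorem isLeftDerivedFunctor : (LF F W L R hF).IsLeftDerivedFunctor (α F W L R r hF) W :=
  ⟨isRightKanExtension F W L R r hr hF hrr⟩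

end General

section Quotient

variable {C K D H : Type*} [Category C] [Category K] [Category D] [Category H]
  (q : C ⥤ K) [q.Full] (ob : K → C) (hob : ∀ Y, q.obj (ob Y) = Y) (W : MorphismProperty K)
  (L : K ⥤ D) [L.IsLocalization W] (F : K ⥤ H) (G : D ⥤ H) (a : (q ⋙ L) ⋙ G ⟶ q ⋙ F)

/-- components of the descended transformation -/
noncomputable def descendApp (Y : K) : G.obj (L.obj Y) ⟶ F.obj Y :=
  eqToHom (congrArg (fun Z => G.obj (L.obj Z)) (hob Y).symm) ≫ a.app (ob Y) ≫
    eqToHom (congrArg F.obj (hob Y))

theorem descendApp_obj (X : C) : descendApp q ob hob L F G a (q.obj X) = a.app X := by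
  obtain ⟨i, hi⟩ := q.map_surjective (eqToHom (hob (q.obj X)))
  have h1 : G.map (L.map (q.map i)) ≫ a.app X = a.app (ob (q.obj X)) ≫ F.map (q.map i) := a.naturality i
  rw [hi, eqToHom_map, eqToHom_map, eqToHom_map] at h1
  simp only [descendApp, ← h1, eqToHom_trans_assoc, eqToHom_refl, id_comp]

/-- the descended transformation -/
noncomputable def descend : L ⋙ G ⟶ F where
  app := descendApp q ob hob L F G a
  naturality Y Z g := by
    have key : ∀ (X X' : C) (g : q.obj X ⟶ q.obj X'),
        G.map (L.map g) ≫ descendApp q ob hob L F G a (q.obj X') =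
          descendApp q ob hob L F G a (q.obj X) ≫ F.map g := fun X X' g => by
      obtain ⟨i, rfl⟩ := q.map_surjective g
      rw [descendApp_obj, descendApp_obj]
      exact a.naturality i
    obtain ⟨X, rfl⟩ : ∃ X, q.obj X = Y := ⟨ob Y, hob Y⟩
    obtain ⟨X', rfl⟩ : ∃ X', q.obj X' = Z := ⟨ob Z, hob Z⟩
    exact key X X' g

include hob in
/-- descending a right Kan extension along a full quotient functor -/
theorem isRightKanExtension_descend [G.IsRightKanExtension a] :
    G.IsRightKanExtension (descend q ob hob L F G a) := by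
  have hu := Functor.isUniversalOfIsRightKanExtension G a
  refine ⟨⟨Limits.IsTerminal.ofUniqueHom
    (fun E => CostructuredArrow.homMk
      (hu.lift (Functor.RightExtension.mk (L := q ⋙ L) E.left
        ((Functor.associator _ _ _).hom ≫ Functor.whiskerLeft q E.hom))) ?_) ?_⟩⟩
  · ext Y
    obtain ⟨X, rfl⟩ : ∃ X, q.obj X = Y := ⟨ob Y, hob Y⟩
    refine (congrArg (fun k => _ ≫ k) (descendApp_obj q ob hob L F G a X)).trans ?_
    refine (congrArg (fun t => NatTrans.app t X) (hu.fac (Functor.RightExtension.mk (L := q ⋙ L) E.left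
      ((Functor.associator _ _ _).hom ≫ Functor.whiskerLeft q E.hom)))).trans ?_
    exact id_comp _
  · intro E m
    ext : 1
    refine hu.hom_ext (Eq.trans ?_ (hu.fac (Functor.RightExtension.mk (L := q ⋙ L) E.left
      ((Functor.associator _ _ _).hom ≫ Functor.whiskerLeft q E.hom))).symm)
    ext X
    refine Eq.trans ?_ (id_comp _).symm
    refine (congrArg (fun k => _ ≫ k) (descendApp_obj q ob hob L F G a X)).symm.trans ?_
    exact congrArg (fun t => NatTrans.app t (q.obj X)) (CostructuredArrow.w m)

include hob in
theorem hasLeftDerivedFunctor_of_quotient [G.IsRightKanExtension a] : F.HasLeftDerivedFunctor W := by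
  rw [Functor.hasLeftDerivedFunctor_iff F L W]
  haveI := isRightKanExtension_descend q ob hob L F G a
  exact Functor.HasRightKanExtension.mk G (descend q ob hob L F G a)

include hob in
theorem isIso_totalCounit_of_quotient [F.HasLeftDerivedFunctor W] [G.IsRightKanExtension a] (X : C)
    (h : IsIso (a.app X)) : IsIso ((F.totalLeftDerivedCounit L W).app (q.obj X)) := by
  haveI := isRightKanExtension_descend q ob hob L F G a
  haveI : G.IsLeftDerivedFunctor (descend q ob hob L F G a) W := ⟨inferInstance⟩
  have e := Functor.leftDerived_fac_app G (descend q ob hob L F G a) W (F.totalLeftDerived L W)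
    (F.totalLeftDerivedCounit L W) (q.obj X)
  rw [← e]
  haveI : IsIso ((descend q ob hob L F G a).app (q.obj X)) := by
    change IsIso (descendApp q ob hob L F G a (q.obj X))
    rw [descendApp_obj]
    exact h
  haveI : IsIso (Functor.leftDerivedLift G (descend q ob hob L F G a) W (F.totalLeftDerived L W)
      (F.totalLeftDerivedCounit L W)) :=
    (Functor.isLeftDerivedFunctor_iff_isIso_leftDerivedLift G (descend q ob hob L F G a) W _ _).1 inferInstance
  infer_instance

end Quotient

/-- the counit of any left derived functor is invertible where the resolution does not matter -/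
theorem isIso_totalCounit {C D H : Type*} [Category C] [Category D] [Category H] (F : C ⥤ H)
    (W : MorphismProperty C) (L : C ⥤ D) [L.IsLocalization W] [F.HasLeftDerivedFunctor W]
    (G : D ⥤ H) (a : L ⋙ G ⟶ F) [G.IsLeftDerivedFunctor a W] (X : C) (h : IsIso (a.app X)) :
    IsIso ((F.totalLeftDerivedCounit L W).app X) := by
  rw [← Functor.leftDerived_fac_app G a W (F.totalLeftDerived L W) (F.totalLeftDerivedCounit L W) X]
  haveI : IsIso (Functor.leftDerivedLift G a W (F.totalLeftDerived L W) (F.totalLeftDerivedCounit L W)) :=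
    (Functor.isLeftDerivedFunctor_iff_isIso_leftDerivedLift G a W _ _).1 inferInstance
  infer_instance

end Groth.L00.LeftDeriv
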