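/-
The total left derived functors `Lf^*` and `- ⊗^L E` exist.
-/
import Groth.Agent.L00.KFlatComm
import Groth.Agent.L00.KFlatPull
import Groth.Agent.L00.LeftDeriv
import Groth.Prelude.Def_DDual2
import Mathlib.Algebra.Homology.DerivedCategory.Basic

set_option autoImplicit false
set_option backward.isDefEq.respectTransparency false
set_option backward.isDefEq.respectTransparency.types false

universe u

open CategoryTheory CategoryTheory.Limits MonoidalCategory AlgebraicGeometry CochainComplex

attribute [local instance] HasDerivedCategory.standard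

namespace Groth.L00.KFlat

variable {X Y : Scheme.{u}}

/-- the zero complex mapping to a complex -/
noncomputable def zeroArrow (Y : Scheme.{u}) :
    CochainComplex Y.Modules ℤ ⥤ Arrow (CochainComplex Y.Modules ℤ) where
  obj G := Arrow.mk (0 : (HomologicalComplex.zero : CochainComplex Y.Modules ℤ) ⟶ G)
  map a := Arrow.homMk (𝟙 _) a (by simp)
  map_id G := by ext <;> rfl
  map_comp a b := by ext <;> simp

/-- functorial K-flat resolution -/
noncomputable def RF (Y : Scheme.{u}) : CochainComplex Y.Modules ℤ ⥤ CochainComplex Y.Modules ℤ :=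
  zeroArrow Y ⋙ Res Y

/-- its augmentation -/
noncomputable def rF (Y : Scheme.{u}) : RF Y ⟶ 𝟭 _ where
  app G := (Cell.resOut (FlatCover.cover Y) (FlatCover.π Y)).app ((zeroArrow Y).obj G)
  naturality G G' a := (Cell.resOut (FlatCover.cover Y) (FlatCover.π Y)).naturality ((zeroArrow Y).map a)

theorem quasiIso_rF (G : CochainComplex Y.Modules ℤ) : QuasiIso ((rF Y).app G) :=
  Cell.quasiIso_resOut _ _ _

theorem isKFlat_RF (G : CochainComplex Y.Modules ℤ) : DCoh.IsKFlat ((RF Y).obj G) :=
  isKFlat_res _ (zero _ HomologicalComplex.isZero_zero)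

theorem quasiIso_RF_map {G G' : CochainComplex Y.Modules ℤ} (a : G ⟶ G') [QuasiIso a] :
    QuasiIso ((RF Y).map a) := by
  haveI := quasiIso_rF G
  haveI := quasiIso_rF G'
  haveI : QuasiIso ((RF Y).map a ≫ (rF Y).app G') := by
    rw [(rF Y).naturality a]
    change QuasiIso ((rF Y).app G ≫ a)
    infer_instance
  exact quasiIso_of_comp_right ((RF Y).map a) ((rF Y).app G')

instance additive_pullback (f : X ⟶ Y) : (Scheme.Modules.pullback f).Additive :=
  (Scheme.Modules.pullbackPushforwardAdjunction f).left_adjoint_additive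

/-- pullback keeps acyclic K-flat complexes acyclic -/
theorem acyclic_pullback (f : X ⟶ Y) (K : CochainComplex Y.Modules ℤ) (hK : DCoh.IsKFlat K)
    (hac : ∀ i, IsZero (K.homology i)) (i : ℤ) :
    IsZero ((((Scheme.Modules.pullback f).mapHomologicalComplex (ComplexShape.up ℤ)).obj K).homology i) := by
  rw [Groth.L00.Stk.acyclic_iff]
  intro x
  refine IsZero.of_iso ?_ ((HomologicalComplex.homologyFunctor _ _ i).mapIso (pullCxIso f K x))
  refine (Groth.L00.KFlatAlg.acyclic_restrictScalars (PullStalk.φ f x) _ i).1 ?_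
  let Ky := (Groth.L00.Stk.S Y (f x)).obj K
  let U := HomologicalComplex.tensorUnit (ModuleCat.{u} (X.presheaf.stalk x)) (ComplexShape.up ℤ)
  let M : CochainComplex (ModuleCat.{u} (Y.presheaf.stalk (f x))) ℤ :=
    ((ModuleCat.restrictScalars (PullStalk.φ f x)).mapHomologicalComplex _).obj U
  let M' : CochainComplex Y.Modules ℤ := ((Sky.skyF (f x)).mapHomologicalComplex (ComplexShape.up ℤ)).obj M
  let e : (Groth.L00.Stk.S Y (f x)).obj M' ≅ M :=
    HomologicalComplex.Hom.isoOfComponents (fun j => (Sky.counitIso (f x)).app (M.X j))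
      (fun j k _ => ((Sky.counitIso (f x)).hom.naturality (M.d j k)).symm)
  have h := (Groth.L00.Stk.acyclic_iff _ i).1 (acyclic_tensor K hK hac M' i) (f x)
  refine h.of_iso ((HomologicalComplex.homologyFunctor _ _ i).mapIso ?_)
  refine Iso.symm ?_
  exact (Groth.L00.Stk.tensorCxIso (f x) M' K).symm ≪≫
    ((curriedTensor (ModuleCat.{u} (Y.presheaf.stalk (f x)))).map₂CochainComplex.obj Ky).mapIso e ≪≫
    BaseChangeTensor.tensorIso (PullStalk.φ f x) Ky U ≪≫
    ((ModuleCat.restrictScalars (PullStalk.φ f x)).mapHomologicalComplex _).mapIso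
      (ρ_ (((ModuleCat.extendScalars (PullStalk.φ f x)).mapHomologicalComplex (ComplexShape.up ℤ)).obj Ky))

/-- pullback keeps quasi-isomorphisms between K-flat complexes -/
theorem quasiIso_pullback (f : X ⟶ Y) {P Q : CochainComplex Y.Modules ℤ} (α : P ⟶ Q) [QuasiIso α]
    (hP : DCoh.IsKFlat P) (hQ : DCoh.IsKFlat Q) :
    QuasiIso (((Scheme.Modules.pullback f).mapHomologicalComplex (ComplexShape.up ℤ)).map α) :=
  ConeTransfer.quasiIso_map _
    (fun S σ => HomologicalComplex.shortExact_of_degreewise_shortExact _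
      fun q => ((σ q).map (Scheme.Modules.pullback f)).shortExact) α
    (fun i => acyclic_pullback f _ (isKFlat_cone (𝟙 P) hP hP) (ConeTransfer.acyclic_cone (𝟙 P)) i)
    (fun i => acyclic_pullback f _ (isKFlat_cone α hP hQ) (ConeTransfer.acyclic_cone α) i)

theorem hasLpull (f : X ⟶ Y) : DCoh.HasLpull f := by
  let q := HomotopyCategory.quotient Y.Modules (ComplexShape.up ℤ)
  let G : CochainComplex Y.Modules ℤ ⥤ DerivedCategory X.Modules :=
    (Scheme.Modules.pullback f).mapHomologicalComplex (ComplexShape.up ℤ) ⋙ DerivedCategory.Q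
  let Fq : CochainComplex Y.Modules ℤ ⥤ DerivedCategory X.Modules := q ⋙ DCoh.pullKh f
  let e : Fq ≅ G :=
    (Functor.associator _ _ _).symm ≪≫
      Functor.isoWhiskerRight ((Scheme.Modules.pullback f).mapHomotopyCategoryFactors (ComplexShape.up ℤ)) _ ≪≫
      Functor.associator _ _ _ ≪≫ Functor.isoWhiskerLeft _ (DerivedCategory.quotientCompQhIso X.Modules)
  haveI : (q ⋙ DerivedCategory.Qh).IsLocalization
      (HomologicalComplex.quasiIso Y.Modules (ComplexShape.up ℤ)) :=
    Functor.IsLocalization.of_iso _ (DerivedCategory.quotientCompQhIso Y.Modules).symm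
  have hG : ∀ {P Q : CochainComplex Y.Modules ℤ} (α : P ⟶ Q), QuasiIso α → DCoh.IsKFlat P →
      DCoh.IsKFlat Q → IsIso (Fq.map α) := by
    intro P Q α hα hP hQ
    haveI := hα
    haveI := quasiIso_pullback f α hP hQ
    haveI : IsIso (G.map α) :=
      Localization.inverts DerivedCategory.Q (HomologicalComplex.quasiIso X.Modules (ComplexShape.up ℤ))
        _ ((HomologicalComplex.mem_quasiIso_iff _).2 inferInstance)
    exact ((NatIso.isIso_map_iff e α).2 inferInstance)
  have hF : (HomologicalComplex.quasiIso Y.Modules (ComplexShape.up ℤ)).IsInvertedBy (RF Y ⋙ Fq) :=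
    fun P Q α hα => by
      haveI := (HomologicalComplex.mem_quasiIso_iff α).1 hα
      exact hG _ (quasiIso_RF_map α) (isKFlat_RF P) (isKFlat_RF Q)
  haveI := LeftDeriv.isRightKanExtension Fq (HomologicalComplex.quasiIso Y.Modules (ComplexShape.up ℤ))
    (q ⋙ DerivedCategory.Qh) (RF Y) (rF Y)
    (fun G => (HomologicalComplex.mem_quasiIso_iff _).2 (quasiIso_rF G)) hF
    (fun G => hG _ (quasiIso_rF _) (isKFlat_RF _) (isKFlat_RF _))
  exact LeftDeriv.hasLeftDerivedFunctor_of_quotient q (fun Z => Z.as) (fun Z => rfl)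
    (HomotopyCategory.quasiIso Y.Modules (ComplexShape.up ℤ)) DerivedCategory.Qh (DCoh.pullKh f)
    (LeftDeriv.LF Fq (HomologicalComplex.quasiIso Y.Modules (ComplexShape.up ℤ))
      (q ⋙ DerivedCategory.Qh) (RF Y) hF)
    (LeftDeriv.α Fq (HomologicalComplex.quasiIso Y.Modules (ComplexShape.up ℤ))
      (q ⋙ DerivedCategory.Qh) (RF Y) (rF Y) hF)

theorem hasLTensorCx (E : CochainComplex X.Modules ℤ) : DCoh.HasLTensorCx E := by
  have hG : ∀ {P Q : CochainComplex X.Modules ℤ} (α : P ⟶ Q), QuasiIso α → DCoh.IsKFlat P →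
      DCoh.IsKFlat Q → IsIso ((DCoh.tensorCxQ E).map α) := by
    intro P Q α hα hP hQ
    haveI := hα
    haveI : QuasiIso (((DCoh.tensorCx (X := X)).flip.obj E).map α) := quasiIso_tensor_left α hP hQ E
    exact Localization.inverts DerivedCategory.Q (HomologicalComplex.quasiIso X.Modules (ComplexShape.up ℤ))
      _ ((HomologicalComplex.mem_quasiIso_iff _).2 inferInstance)
  exact LeftDeriv.hasLeftDerivedFunctor (DCoh.tensorCxQ E) _ DerivedCategory.Q (RF X) (rF X)
    (fun G => (HomologicalComplex.mem_quasiIso_iff _).2 (quasiIso_rF G))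
    (fun P Q α hα => by
      haveI := (HomologicalComplex.mem_quasiIso_iff α).1 hα
      exact hG _ (quasiIso_RF_map α) (isKFlat_RF P) (isKFlat_RF Q))
    (fun G => hG _ (quasiIso_rF _) (isKFlat_RF _) (isKFlat_RF _))

end Groth.L00.KFlat
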