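/-
The total complex of a bifunctor with a complex concentrated in degree zero in the first variable.
-/
import Mathlib.Algebra.Homology.BifunctorShift
import Mathlib.Algebra.Homology.Single

set_option autoImplicit false
set_option quotPrecheck false
set_option backward.isDefEq.respectTransparency false
set_option backward.isDefEq.respectTransparency.types false

open CategoryTheory CategoryTheory.Limits HomologicalComplex

namespace Groth.L00.SingleTotal

variable {C₁ C₂ D : Type*} [Category C₁] [Category C₂] [Category D]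
  [Preadditive C₁] [HasZeroObject C₁] [Preadditive C₂] [Preadditive D]
  (F : C₁ ⥤ C₂ ⥤ D) [F.Additive] [∀ X, (F.obj X).Additive]
  [∀ (K₁ : CochainComplex C₁ ℤ) (K₂ : CochainComplex C₂ ℤ),
    CochainComplex.HasMapBifunctor K₁ K₂ F]
  (M : C₁) (K : CochainComplex C₂ ℤ)

local notation "S0" => (single C₁ (ComplexShape.up ℤ) 0).obj M

/-- one degree -/
noncomputable def XIso (n : ℤ) :
    (F.obj M).obj (K.X n) ≅ (mapBifunctor (S0) K F (ComplexShape.up ℤ)).X n where
  hom := (F.map (singleObjXSelf (ComplexShape.up ℤ) 0 M).inv).app (K.X n) ≫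
    ιMapBifunctor (S0) K F (ComplexShape.up ℤ) 0 n n (show (0 : ℤ) + n = n from zero_add n)
  inv := mapBifunctorDesc fun p q h =>
    if hp : p = 0 then
      (F.map ((eqToHom (congrArg (S0).X hp)) ≫ (singleObjXSelf (ComplexShape.up ℤ) 0 M).hom)).app (K.X q) ≫
        (F.obj M).map (K.XIsoOfEq (show q = n by dsimp at h; omega)).hom
    else 0
  hom_inv_id := by
    rw [Category.assoc, ι_mapBifunctorDesc, dif_pos rfl]
    simp only [eqToHom_refl, Category.id_comp, XIsoOfEq_rfl, Iso.refl_hom, CategoryTheory.Functor.map_id,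
      Category.comp_id]
    rw [← NatTrans.comp_app, ← Functor.map_comp, Iso.inv_hom_id, CategoryTheory.Functor.map_id, NatTrans.id_app]
  inv_hom_id := by
    refine mapBifunctor.hom_ext fun p q h => ?_
    by_cases hp : p = 0
    · subst hp
      have hq : q = n := by dsimp at h; omega
      subst hq
      rw [Category.comp_id, ι_mapBifunctorDesc_assoc, dif_pos rfl]
      simp only [eqToHom_refl, Category.id_comp, XIsoOfEq_rfl, Iso.refl_hom, CategoryTheory.Functor.map_id,
        Category.comp_id]
      rw [← Category.assoc, ← NatTrans.comp_app, ← Functor.map_comp, Iso.hom_inv_id,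
        CategoryTheory.Functor.map_id, NatTrans.id_app]
      exact Category.id_comp _
    · exact (((F.flip.obj (K.X q)).map_isZero (isZero_single_obj_X _ _ _ _ hp))).eq_of_src _ _

/-- the comparison -/
noncomputable def iso :
    ((F.obj M).mapHomologicalComplex (ComplexShape.up ℤ)).obj K ≅ mapBifunctor (S0) K F (ComplexShape.up ℤ) :=
  Hom.isoOfComponents (XIso F M K) fun i j hij => by
    dsimp [XIso]
    rw [Category.assoc, mapBifunctor.d_eq, Preadditive.comp_add, mapBifunctor.ι_D₁, mapBifunctor.ι_D₂]
    have h₁ : mapBifunctor.d₁ (S0) K F (ComplexShape.up ℤ) 0 i j = 0 := by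
      rw [mapBifunctor.d₁_eq' _ _ _ _ (show (ComplexShape.up ℤ).Rel (0 : ℤ) ((ComplexShape.up ℤ).next 0) by simp),
        single_obj_d, Functor.map_zero, zero_app, zero_comp, smul_zero]
    change i + 1 = j at hij
    subst hij
    rw [h₁, zero_add, mapBifunctor.d₂_eq _ _ _ _ _ (show (ComplexShape.up ℤ).Rel i (i + 1) from rfl) _
      (show (0 : ℤ) + (i + 1) = i + 1 from zero_add _)]
    rw [show ComplexShape.ε₂ (ComplexShape.up ℤ) (ComplexShape.up ℤ) (ComplexShape.up ℤ) ((0 : ℤ), i) = 1 from rfl,
      one_smul, ← Category.assoc, ← Category.assoc]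
    exact congrArg (fun t => t ≫ _) ((F.map (singleObjXSelf (ComplexShape.up ℤ) 0 M).inv).naturality (K.d i (i + 1))).symm

end Groth.L00.SingleTotal
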