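/-
Computing left derived functors on K-flat representatives; derived tensor with a module.
-/
import Groth.Agent.L00.KFlatDerived
import Groth.Agent.L00.SingleTotal
import Groth.Prelude.Def_DTor2
import Mathlib.Algebra.Homology.DerivedCategory.HomologySequence

set_option autoImplicit false
set_option backward.isDefEq.respectTransparency false
set_option backward.isDefEq.respectTransparency.types false

universe u

open CategoryTheory CategoryTheory.Limits MonoidalCategory AlgebraicGeometry CochainComplex

attribute [local instance] HasDerivedCategory.standard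

namespace Groth.L00.DerivedApi

open Groth.L00.KFlat

variable {X Y : Scheme.{u}} (G : Y.Modules ⥤ X.Modules) [G.Additive]

/-- `G` keeps acyclic K-flat complexes acyclic -/
def AcyclicKFlat : Prop :=
  ∀ K : CochainComplex Y.Modules ℤ, DCoh.IsKFlat K → (∀ i, IsZero (K.homology i)) →
    ∀ i, IsZero (((G.mapHomologicalComplex (ComplexShape.up ℤ)).obj K).homology i)

/-- `G` on the homotopy category, localized -/
noncomputable abbrev Kh : HomotopyCategory Y.Modules (ComplexShape.up ℤ) ⥤ DCoh.D X :=
  G.mapHomotopyCategory (ComplexShape.up ℤ) ⋙ DerivedCategory.Qh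

/-- the same on complexes -/
noncomputable abbrev Cxq : CochainComplex Y.Modules ℤ ⥤ DCoh.D X :=
  HomotopyCategory.quotient Y.Modules (ComplexShape.up ℤ) ⋙ Kh G

/-- comparison with the termwise functor -/
noncomputable def cxqIso : Cxq G ≅ G.mapHomologicalComplex (ComplexShape.up ℤ) ⋙ DerivedCategory.Q :=
  (Functor.associator _ _ _).symm ≪≫
    Functor.isoWhiskerRight (G.mapHomotopyCategoryFactors (ComplexShape.up ℤ)) _ ≪≫
    Functor.associator _ _ _ ≪≫ Functor.isoWhiskerLeft _ (DerivedCategory.quotientCompQhIso X.Modules)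

variable {G}

theorem quasiIso_map (hG : AcyclicKFlat G) {P Q : CochainComplex Y.Modules ℤ} (α : P ⟶ Q) [QuasiIso α]
    (hP : DCoh.IsKFlat P) (hQ : DCoh.IsKFlat Q) :
    QuasiIso ((G.mapHomologicalComplex (ComplexShape.up ℤ)).map α) :=
  ConeTransfer.quasiIso_map _
    (fun S σ => HomologicalComplex.shortExact_of_degreewise_shortExact _
      fun q => ((σ q).map G).shortExact) α
    (fun i => hG _ (isKFlat_cone (𝟙 P) hP hP) (ConeTransfer.acyclic_cone (𝟙 P)) i)
    (fun i => hG _ (isKFlat_cone α hP hQ) (ConeTransfer.acyclic_cone α) i)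

theorem isIso_cxq_map (hG : AcyclicKFlat G) {P Q : CochainComplex Y.Modules ℤ} (α : P ⟶ Q) [QuasiIso α]
    (hP : DCoh.IsKFlat P) (hQ : DCoh.IsKFlat Q) : IsIso ((Cxq G).map α) := by
  haveI := quasiIso_map hG α hP hQ
  haveI : IsIso ((G.mapHomologicalComplex (ComplexShape.up ℤ) ⋙ DerivedCategory.Q).map α) :=
    Localization.inverts DerivedCategory.Q (HomologicalComplex.quasiIso X.Modules (ComplexShape.up ℤ))
      _ ((HomologicalComplex.mem_quasiIso_iff _).2 inferInstance)
  exact (NatIso.isIso_map_iff (cxqIso G) α).2 inferInstance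

instance isLocalization_quotientQh :
    (HomotopyCategory.quotient Y.Modules (ComplexShape.up ℤ) ⋙ DerivedCategory.Qh).IsLocalization
      (HomologicalComplex.quasiIso Y.Modules (ComplexShape.up ℤ)) :=
  Functor.IsLocalization.of_iso _ (DerivedCategory.quotientCompQhIso Y.Modules).symm

theorem inverts (hG : AcyclicKFlat G) :
    (HomologicalComplex.quasiIso Y.Modules (ComplexShape.up ℤ)).IsInvertedBy (RF Y ⋙ Cxq G) :=
  fun P Q α hα => by
    haveI := (HomologicalComplex.mem_quasiIso_iff α).1 hα
    haveI := quasiIso_RF_map α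
    exact isIso_cxq_map hG _ (isKFlat_RF P) (isKFlat_RF Q)

/-- the derived functor built from the resolution -/
noncomputable abbrev LF (hG : AcyclicKFlat G) : DCoh.D Y ⥤ DCoh.D X :=
  LeftDeriv.LF (Cxq G) (HomologicalComplex.quasiIso Y.Modules (ComplexShape.up ℤ))
    (HomotopyCategory.quotient Y.Modules (ComplexShape.up ℤ) ⋙ DerivedCategory.Qh) (RF Y) (inverts hG)

/-- its counit -/
noncomputable abbrev α (hG : AcyclicKFlat G) :
    (HomotopyCategory.quotient Y.Modules (ComplexShape.up ℤ) ⋙ DerivedCategory.Qh) ⋙ LF hG ⟶ Cxq G :=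
  LeftDeriv.α (Cxq G) (HomologicalComplex.quasiIso Y.Modules (ComplexShape.up ℤ))
    (HomotopyCategory.quotient Y.Modules (ComplexShape.up ℤ) ⋙ DerivedCategory.Qh) (RF Y) (rF Y) (inverts hG)

theorem isRightKanExtension (hG : AcyclicKFlat G) : (LF hG).IsRightKanExtension (α hG) :=
  LeftDeriv.isRightKanExtension (Cxq G) (HomologicalComplex.quasiIso Y.Modules (ComplexShape.up ℤ))
    (HomotopyCategory.quotient Y.Modules (ComplexShape.up ℤ) ⋙ DerivedCategory.Qh) (RF Y) (rF Y)
    (fun K => (HomologicalComplex.mem_quasiIso_iff _).2 (quasiIso_rF K)) (inverts hG)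
    (fun K => haveI := quasiIso_rF ((RF Y).obj K); isIso_cxq_map hG _ (isKFlat_RF _) (isKFlat_RF _))

theorem hasLeftDerived (hG : AcyclicKFlat G) :
    (Kh G).HasLeftDerivedFunctor (HomotopyCategory.quasiIso Y.Modules (ComplexShape.up ℤ)) :=
  haveI := isRightKanExtension hG
  LeftDeriv.hasLeftDerivedFunctor_of_quotient (HomotopyCategory.quotient Y.Modules (ComplexShape.up ℤ))
    (fun Z => Z.as) (fun Z => rfl) (HomotopyCategory.quasiIso Y.Modules (ComplexShape.up ℤ))
    DerivedCategory.Qh (Kh G) (LF hG) (α hG)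

variable [(Kh G).HasLeftDerivedFunctor (HomotopyCategory.quasiIso Y.Modules (ComplexShape.up ℤ))]

variable (G) in
/-- the total left derived functor -/
noncomputable abbrev LG : DCoh.D Y ⥤ DCoh.D X :=
  (Kh G).totalLeftDerived DerivedCategory.Qh (HomotopyCategory.quasiIso Y.Modules (ComplexShape.up ℤ))

variable (G) in
/-- the counit on complexes -/
noncomputable def counit :
    (HomotopyCategory.quotient Y.Modules (ComplexShape.up ℤ) ⋙ DerivedCategory.Qh) ⋙ LG G ⟶ Cxq G :=
  (Functor.associator _ _ _).hom ≫ Functor.whiskerLeft _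
    ((Kh G).totalLeftDerivedCounit DerivedCategory.Qh (HomotopyCategory.quasiIso Y.Modules (ComplexShape.up ℤ)))

theorem isIso_counit (hG : AcyclicKFlat G) (P : CochainComplex Y.Modules ℤ) (hP : DCoh.IsKFlat P) :
    IsIso ((counit G).app P) := by
  haveI := isRightKanExtension hG
  have h : IsIso ((α hG).app P) := by
    rw [LeftDeriv.α_app]
    haveI := quasiIso_rF P
    haveI : IsIso ((Cxq G).map ((rF Y).app P)) := isIso_cxq_map hG _ (isKFlat_RF P) hP
    infer_instance
  haveI := LeftDeriv.isIso_totalCounit_of_quotient (HomotopyCategory.quotient Y.Modules (ComplexShape.up ℤ))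
    (fun Z => Z.as) (fun Z => rfl) (HomotopyCategory.quasiIso Y.Modules (ComplexShape.up ℤ))
    DerivedCategory.Qh (Kh G) (LF hG) (α hG) P h
  simp only [counit, NatTrans.comp_app, Functor.associator_hom_app, Functor.whiskerLeft_app]
  exact IsIso.comp_isIso

/-- the derived functor on a K-flat complex -/
noncomputable def objIso (hG : AcyclicKFlat G) (P : CochainComplex Y.Modules ℤ) (hP : DCoh.IsKFlat P) :
    (LG G).obj (DCoh.toD Y P) ≅ DCoh.toD X ((G.mapHomologicalComplex (ComplexShape.up ℤ)).obj P) :=
  (LG G).mapIso ((DerivedCategory.quotientCompQhIso Y.Modules).app P).symm ≪≫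
    @asIso _ _ _ _ ((counit G).app P) (isIso_counit hG P hP) ≪≫ (cxqIso G).app P

theorem isZero_HD_iff (hG : AcyclicKFlat G) {P : CochainComplex Y.Modules ℤ} (hP : DCoh.IsKFlat P)
    {K : DCoh.D Y} (e : DCoh.toD Y P ≅ K) (i : ℤ) :
    IsZero (DCoh.HD ((LG G).obj K) i) ↔
      IsZero (((G.mapHomologicalComplex (ComplexShape.up ℤ)).obj P).homology i) :=
  (((DerivedCategory.homologyFunctor X.Modules i).mapIso ((LG G).mapIso e.symm ≪≫ objIso hG P hP)) ≪≫
    (DerivedCategory.homologyFunctorFactors X.Modules i).app _).isZero_iff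

/-- the derived functor is `G` of the resolution, naturally -/
noncomputable def resIso (hG : AcyclicKFlat G) :
    RF Y ⋙ Cxq G ≅
      (HomotopyCategory.quotient Y.Modules (ComplexShape.up ℤ) ⋙ DerivedCategory.Qh) ⋙ LG G :=
  haveI : ∀ P, IsIso (((Functor.whiskerLeft (RF Y) (counit G))).app P) := fun P =>
    isIso_counit hG _ (isKFlat_RF P)
  haveI : ∀ P : CochainComplex Y.Modules ℤ, IsIso ((Functor.whiskerRight (rF Y)
      ((HomotopyCategory.quotient Y.Modules (ComplexShape.up ℤ) ⋙ DerivedCategory.Qh) ⋙ LG G)).app P) := fun P => by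
    haveI : IsIso ((HomotopyCategory.quotient Y.Modules (ComplexShape.up ℤ) ⋙ DerivedCategory.Qh).map
        ((rF Y).app P)) :=
      Localization.inverts _ (HomologicalComplex.quasiIso Y.Modules (ComplexShape.up ℤ)) _
        ((HomologicalComplex.mem_quasiIso_iff _).2 (quasiIso_rF P))
    change IsIso ((LG G).map _)
    infer_instance
  haveI := NatIso.isIso_of_isIso_app (Functor.whiskerLeft (RF Y) (counit G))
  haveI := NatIso.isIso_of_isIso_app (Functor.whiskerRight (rF Y)
      ((HomotopyCategory.quotient Y.Modules (ComplexShape.up ℤ) ⋙ DerivedCategory.Qh) ⋙ LG G))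
  (asIso (Functor.whiskerLeft (RF Y) (counit G))).symm ≪≫
    asIso (Functor.whiskerRight (rF Y)
      ((HomotopyCategory.quotient Y.Modules (ComplexShape.up ℤ) ⋙ DerivedCategory.Qh) ⋙ LG G)) ≪≫
    Functor.leftUnitor _

end Groth.L00.DerivedApi

namespace Groth.L00.DerivedApi

variable {X Y : Scheme.{u}}

theorem acyclicKFlat_pullback (f : X ⟶ Y) : AcyclicKFlat (Scheme.Modules.pullback f) :=
  fun K hK hac i => KFlat.acyclic_pullback f K hK hac i

/-- `- ⊗ M` is `M ⊗ -` -/
noncomputable def tensorRightModIso (M : X.Modules) :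
    DCoh.tensorRightMod M ≅ (DCoh.tensorBi (X := X)).obj M :=
  NatIso.ofComponents (fun N => Groth.L00.Tensor.tensorComm N M) fun f => by
    refine ((Groth.L00.Tensor.shf X).map_comp _ _).symm.trans
      ((congrArg (Groth.L00.Tensor.shf X).map ?_).trans ((Groth.L00.Tensor.shf X).map_comp _ _))
    exact BraidedCategory.braiding_naturality_left _ _

/-- termwise tensoring with a module as a total complex -/
noncomputable def tensorModCxIso (M : X.Modules) (P : CochainComplex X.Modules ℤ) :
    ((DCoh.tensorRightMod M).mapHomologicalComplex (ComplexShape.up ℤ)).obj P ≅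
      (KFlat.T ((HomologicalComplex.single X.Modules (ComplexShape.up ℤ) 0).obj M)).obj P :=
  (NatIso.mapHomologicalComplex (tensorRightModIso M) (ComplexShape.up ℤ)).app P ≪≫
    SingleTotal.iso (DCoh.tensorBi (X := X)) M P

theorem acyclicKFlat_tensorMod (M : X.Modules) : AcyclicKFlat (DCoh.tensorRightMod M) :=
  fun K hK hac i => (KFlat.acyclic_tensor K hK hac _ i).of_iso
    ((HomologicalComplex.homologyFunctor _ _ i).mapIso (tensorModCxIso M K))

theorem hasLTensorMod (M : X.Modules) : DCoh.HasLTensorMod M :=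
  hasLeftDerived (acyclicKFlat_tensorMod M)

end Groth.L00.DerivedApi

namespace Groth.L00.KFlat

variable {X : Scheme.{u}}

/-- tensoring with a K-flat complex keeps quasi-isomorphisms -/
theorem quasiIso_tensor_of_kflat (K : CochainComplex X.Modules ℤ) (hK : DCoh.IsKFlat K)
    {P Q : CochainComplex X.Modules ℤ} (α : P ⟶ Q) [QuasiIso α] :
    QuasiIso (((DCoh.tensorCx (X := X)).map α).app K) := by
  haveI : QuasiIso ((T K).map α) :=
    ConeTransfer.quasiIso_map (T K) (fun S σ => BifExact.shortExact_T_of_splitting _ K S σ) α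
      (fun i => (hK _ (ConeTransfer.acyclic_cone (𝟙 P)) i).of_iso
        ((HomologicalComplex.homologyFunctor _ _ i).mapIso (commIso (mappingCone (𝟙 P)) K)))
      (fun i => (hK _ (ConeTransfer.acyclic_cone α) i).of_iso
        ((HomologicalComplex.homologyFunctor _ _ i).mapIso (commIso (mappingCone α) K)))
  have h : QuasiIso ((commIso P K).hom ≫ ((DCoh.tensorCx (X := X)).map α).app K) := by
    rw [← commIso_natural]; infer_instance
  exact quasiIso_of_comp_left (commIso P K).hom _

end Groth.L00.KFlat
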