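import Mathlib.Topology.KrullDimension
import Mathlib.Topology.Sober

/-!
# Dimension along a closed surjection with discrete fibres
-/

open TopologicalSpace Order

namespace Groth.L00

variable {A B : Type*} [TopologicalSpace A] [TopologicalSpace B]

theorem topologicalKrullDim_eq_of_isClosedMap [QuasiSober A] [QuasiSober B] {F : A → B}
    (hc : Continuous F) (hcl : IsClosedMap F) (hs : Function.Surjective F)
    (hfib : ∀ a b : A, a ⤳ b → F a = F b → a = b) :
    topologicalKrullDim A = topologicalKrullDim B := by
  let φ : IrreducibleCloseds A → IrreducibleCloseds B := fun Z =>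
    ⟨F '' (Z : Set A), Z.isIrreducible.image F hc.continuousOn, hcl _ Z.isClosed⟩
  have hmono : StrictMono φ := by
    intro Z Z' hlt
    refine lt_of_le_of_ne (Set.image_mono hlt.le) fun he => hlt.not_ge ?_
    have hg : IsGenericPoint Z'.isIrreducible.genericPoint (Z' : Set A) :=
      Z'.isIrreducible.isGenericPoint_genericPoint Z'.isClosed
    have hmem : F Z'.isIrreducible.genericPoint ∈ F '' (Z : Set A) := by
      have h1 : F Z'.isIrreducible.genericPoint ∈ F '' (Z' : Set A) := ⟨_, hg.mem, rfl⟩
      have h2 : F '' (Z : Set A) = F '' (Z' : Set A) := congrArg SetLike.coe he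
      rwa [h2]
    obtain ⟨z, hz, hzF⟩ := hmem
    have := hfib _ _ (hg.specializes (hlt.le hz)) hzF.symm
    intro x hx
    exact (hg.specializes hx).mem_closed Z.isClosed (this ▸ hz)
  have hlift : ∀ (Z : IrreducibleCloseds A) (W : IrreducibleCloseds B), W < φ Z →
      ∃ Z' < Z, φ Z' = W := by
    intro Z W hW
    have hg : IsGenericPoint W.isIrreducible.genericPoint (W : Set B) :=
      W.isIrreducible.isGenericPoint_genericPoint W.isClosed
    obtain ⟨x, hxZ, hx⟩ := hW.le hg.mem
    refine ⟨⟨closure {x}, isIrreducible_singleton.closure, isClosed_closure⟩, ?_, ?_⟩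
    · refine lt_of_le_of_ne (closure_minimal (Set.singleton_subset_iff.2 hxZ) Z.isClosed) ?_
      intro he
      refine hW.not_ge ?_
      rw [← he]
      rintro y ⟨a, ha, rfl⟩
      refine W.isClosed.closure_subset ?_
      refine closure_mono ?_ (image_closure_subset_closure_image hc ⟨a, ha, rfl⟩)
      rw [Set.image_singleton, hx]
      exact Set.singleton_subset_iff.2 hg.mem
    · apply SetLike.coe_injective
      change F '' closure {x} = (W : Set B)
      rw [← (hcl.closure_image_eq_of_continuous hc _), Set.image_singleton, hx]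
      exact hg
  refine le_antisymm (krullDim_le_of_strictMono φ hmono) (iSup_le fun p => ?_)
  suffices ∀ (n : ℕ) (p : LTSeries (IrreducibleCloseds B)), p.length = n →
      ∀ Z : IrreducibleCloseds A, φ Z = p.last → ∃ q : LTSeries (IrreducibleCloseds A),
        q.length = n ∧ q.last = Z by
    have hg : IsGenericPoint p.last.isIrreducible.genericPoint (p.last : Set B) :=
      p.last.isIrreducible.isGenericPoint_genericPoint p.last.isClosed
    obtain ⟨x, hx⟩ := hs p.last.isIrreducible.genericPoint
    obtain ⟨q, hq, -⟩ := this p.length p rfl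
      ⟨closure {x}, isIrreducible_singleton.closure, isClosed_closure⟩ (by
        apply SetLike.coe_injective
        change F '' closure {x} = (p.last : Set B)
        rw [← (hcl.closure_image_eq_of_continuous hc _), Set.image_singleton, hx]
        exact hg)
    exact le_iSup_of_le q (by rw [hq])
  intro n
  induction n with
  | zero => intro p _ Z _; exact ⟨RelSeries.singleton _ Z, rfl, rfl⟩
  | succ n ih =>
    intro p hp Z hZ
    have h1 : p.eraseLast.last < φ Z := hZ ▸ p.eraseLast_last_rel_last (by omega)
    obtain ⟨Z', hlt, hZ'⟩ := hlift Z _ h1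
    obtain ⟨q, hq, hql⟩ := ih p.eraseLast (by simp [hp]) Z' hZ'
    exact ⟨q.snoc Z (by rw [hql]; exact hlt), by simp [hq], by simp⟩

end Groth.L00
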