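import Groth.Agent.L06.FlatIrreducibleFibres

/-! Flat morphisms to an irreducible scheme of finite type over a field: equidimensionality. -/

set_option autoImplicit false
set_option maxSynthPendingDepth 3
set_option backward.isDefEq.respectTransparency.types false
set_option backward.isDefEq.respectTransparency false
set_option linter.style.haveILetI false
universe u

open CategoryTheory AlgebraicGeometry TopologicalSpace Topology

namespace Groth.L00.EquidimFlat

open Groth.L07.DimToolkit Groth.L07.Equidim Groth.L07.EquidimQF Groth.L22 Groth.L06.FlatIrreducibleFibres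

variable (k : Type u) [Field k] {X : Scheme.{u}} (qX : X ⟶ Spec (CommRingCat.of k)) [LocallyOfFiniteType qX]

include k in
omit [LocallyOfFiniteType qX] in
theorem fdim_qX (x : X) : fdim qX x = topologicalKrullDim ↥(closure ({x} : Set X)) := by
  have hset : closure ({x} : Set X) ∩ qX.base ⁻¹' {qX x} = closure {x} :=
    Set.inter_eq_left.mpr fun w _ => Subsingleton.elim _ _
  show topologicalKrullDim ↥(closure ({x} : Set X) ∩ qX.base ⁻¹' {qX x}) = _
  rw [hset]

/-- in an equidimensional scheme `trdeg κ(z) + dim O_z` is the dimension of any component -/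
theorem point_data' (D : WithBot ℕ∞) (hD : ∀ Z ∈ irreducibleComponents X, topologicalKrullDim ↥Z = D) (x : X) :
    ∃ a b : ℕ, Cyc.rtrdeg qX x = (a : Cardinal.{u}) ∧ ringKrullDim (X.presheaf.stalk x) = (b : WithBot ℕ∞) ∧
      D = ((a + b : ℕ) : WithBot ℕ∞) := by
  letI : X.Over (Spec (CommRingCat.of k)) := ⟨qX⟩
  haveI : LocallyOfFiniteType (X ↘ Spec (CommRingCat.of k)) := ‹LocallyOfFiniteType qX›
  haveI : IsLocallyNoetherian X := LocallyOfFiniteType.isLocallyNoetherian qX
  letI : ∀ b, Algebra k (X.residueField b) := fun b => Curv2.resAlgebra k _ b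
  obtain ⟨n, hn, hnt⟩ := exists_fdim_rtrdeg qX x
  obtain ⟨a, b, htr, hb, hloc⟩ := SchemeDim.exists_localDim k X x
  obtain ⟨a₁, ha₁, htr₁⟩ := SchemeDim.exists_dim_closure_eq_trdeg k X x
  have h1 : n = a₁ := by exact_mod_cast hn.symm.trans ((fdim_qX k qX x).trans ha₁)
  have h2 : a₁ = a := by exact_mod_cast htr₁.symm.trans htr
  obtain rfl : n = a := h1.trans h2
  refine ⟨n, b, hnt, hb, le_antisymm ?_ ?_⟩
  · rw [← hloc]
    refine le_iInf fun U => ?_
    obtain ⟨Z, hZ, hxZ⟩ : ∃ Z ∈ irreducibleComponents X, x ∈ Z :=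
      ⟨_, irreducibleComponent_mem_irreducibleComponents x, mem_irreducibleComponent⟩
    obtain ⟨η, hη⟩ := QuasiSober.sober hZ.1 (isClosed_of_mem_irreducibleComponents Z hZ)
    obtain ⟨_, ⟨W, hW, rfl⟩, hxW, hWU⟩ :=
      X.isBasis_affineOpens.exists_subset_of_mem_open (show x ∈ (U.1 : Set X) from U.2) U.1.2
    change X.Opens at W
    have hηW : η ∈ W := (hη.specializes hxZ).mem_open W.2 hxW
    obtain ⟨m, hm, hmt⟩ := SchemeDim.exists_dim_quotient_eq_trdeg k X hW hηW
    obtain ⟨m', hm', hmt'⟩ := SchemeDim.exists_dim_closure_eq_trdeg k X η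
    obtain rfl : m = m' := by exact_mod_cast hmt.symm.trans hmt'
    rw [← hD Z hZ, ← hη.def, hm', ← hm, ← SchemeDim.topologicalKrullDim_closure_inter hW hηW]
    exact SchemeDim.topologicalKrullDim_mono fun w hw => hWU hw.2
  · obtain ⟨ξ, hξ, d, hmax, hd, hd'⟩ := exists_dim_locQuot_eq x
    obtain ⟨A, B, n', N, hA, hB, hn', hN, hle, -⟩ := formula qX hξ
    obtain rfl : d = b := by exact_mod_cast hd'.symm.trans hb
    obtain rfl : A = d := by exact_mod_cast hA.symm.trans (hd.trans hd')
    obtain rfl : n' = n := by exact_mod_cast hn'.symm.trans hn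
    have hB0 : B = 0 := by
      obtain ⟨c, e, -, he, hce⟩ := point_data k (𝟙 (Spec (CommRingCat.of k))) (qX x)
      have h0 : topologicalKrullDim ↥(Spec (CommRingCat.of k)) = ((0 : ℕ) : WithBot ℕ∞) :=
        (PrimeSpectrum.topologicalKrullDim_eq_ringKrullDim k).trans (ringKrullDim_eq_zero_of_field k)
      have hh := dim_locQuot_le (qX x) (qX ξ) (hξ.map qX.continuous)
      rw [hB, he] at hh
      rw [h0] at hce
      have h' : B ≤ e := by exact_mod_cast hh
      have h'' : 0 = c + e := by exact_mod_cast hce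
      omega
    have hξc : closure ({ξ} : Set X) ∈ irreducibleComponents X :=
      (closure_singleton_mem_irreducibleComponents_iff ξ).mpr hmax
    rw [← hD _ hξc, ← fdim_qX k qX ξ, hN]
    exact_mod_cast (show n' + A ≤ N by omega)

theorem main {Y : Scheme.{u}} (qY : Y ⟶ Spec (CommRingCat.of k)) [LocallyOfFiniteType qY]
    [IrreducibleSpace Y] (f : X ⟶ Y) (hf : f ≫ qY = qX) [Flat f] (n : ℕ) :
    (∀ Z : Set ↥X, Z ∈ irreducibleComponents ↥X → topologicalKrullDim ↥Z = topologicalKrullDim ↥Y + (n : WithBot ℕ∞)) ↔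
      ∀ (y : Y) (Z : Set ↥(f.fiber y)), Z ∈ irreducibleComponents ↥(f.fiber y) →
        topologicalKrullDim ↥Z = (n : WithBot ℕ∞) := by
  subst hf
  haveI : LocallyOfFiniteType f := locallyOfFiniteType_of_comp f qY
  haveI : IsLocallyNoetherian Y := LocallyOfFiniteType.isLocallyNoetherian qY
  haveI : IsLocallyNoetherian X := LocallyOfFiniteType.isLocallyNoetherian f
  constructor
  · intro hD y Z hZ
    obtain ⟨c, rfl, hcmax⟩ := exists_generic_of_component f y hZ
    have hmax : ∀ z', f z' = f (f.fiberι y c) → z' ⤳ f.fiberι y c → z' = f.fiberι y c := fun z' hz' hsp => by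
      obtain ⟨d, rfl⟩ : z' ∈ Set.range (f.fiberι y) := by rw [f.range_fiberι]; exact hz'.trans (apply_fiberι f y c)
      rw [hcmax d ((f.fiberι y).isEmbedding.isInducing.specializes_iff.mp hsp)]
    rw [← fdim_fiberι]
    generalize hz : f.fiberι y c = z at hmax ⊢
    obtain ⟨a, b, ha, hb, hX⟩ := point_data' k (f ≫ qY) _ hD z
    obtain ⟨p, q, hp, hq, hY⟩ := point_data k qY (f z)
    obtain ⟨m, hm, hmt⟩ := exists_fdim_rtrdeg f z
    rw [Cyc.rtrdeg_comp, hp, hmt] at ha
    have hac : p + m = a := by exact_mod_cast ha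
    have hbd : ringKrullDim (X.presheaf.stalk z) = ringKrullDim (Y.presheaf.stalk (f z)) := by
      refine le_antisymm ?_ ?_
      · refine (Groth.L07.OpenDim.ringKrullDim_stalk_le f z).trans (le_of_eq ?_)
        rw [fibre_dim_zero f z hmax, add_zero]
      · letI := (f.stalkMap z).hom.toAlgebra
        haveI : Module.Flat (Y.presheaf.stalk (f z)) (X.presheaf.stalk z) := Flat.stalkMap f z
        haveI : IsLocalHom (algebraMap (Y.presheaf.stalk (f z)) (X.presheaf.stalk z)) :=
          inferInstanceAs (IsLocalHom (f.stalkMap z).hom)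
        exact dim_le_of_flat
    rw [hb, hq] at hbd
    have hbd' : b = q := by exact_mod_cast hbd
    rw [hY] at hX
    have : p + q + n = a + b := by exact_mod_cast hX
    rw [hm]
    exact_mod_cast (show m = n by omega)
  · intro hfib Z hZ
    obtain ⟨η, hη⟩ := QuasiSober.sober hZ.1 (isClosed_of_mem_irreducibleComponents Z hZ)
    obtain rfl := hη.def
    have hmax := (closure_singleton_mem_irreducibleComponents_iff η).mp hZ
    have hgen : f η = genericPoint Y := by
      obtain ⟨x', hx', hfx'⟩ := Flat.generalizingMap f ((genericPoint_spec Y).specializes trivial : genericPoint Y ⤳ f η)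
      rw [← hfx', hmax x' hx']
    obtain ⟨a, ha, hat⟩ := exists_fdim_rtrdeg (f ≫ qY) η
    obtain ⟨c, d, hc, hd, hY⟩ := point_data k qY (f η)
    obtain ⟨m, hm, hmt⟩ := exists_fdim_rtrdeg f η
    have hac : c + m = a := by
      rw [Cyc.rtrdeg_comp, hc, hmt] at hat
      exact_mod_cast hat
    have hd0 : d = 0 := by
      obtain ⟨c', hc', hct'⟩ := exists_fdim_rtrdeg qY (f η)
      obtain rfl : c' = c := by exact_mod_cast hct'.symm.trans hc
      have he : fdim qY (f η) = topologicalKrullDim ↥Y := by
        rw [fdim_qX k qY, hgen, (genericPoint_spec Y).def]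
        exact SchemeDim.topologicalKrullDim_eq_of_isEmbedding IsEmbedding.id Set.range_id
      rw [hc', hY] at he
      have : c' = c' + d := by exact_mod_cast he
      omega
    have hmn : m = n := by
      have hcl : closure ({f.asFiber η} : Set (f.fiber (f η))) ∈ irreducibleComponents _ := by
        refine (closure_singleton_mem_irreducibleComponents_iff _).mpr fun q hq => ?_
        apply (f.fiberι (f η)).isEmbedding.injective
        rw [f.fiberι_asFiber]
        refine hmax _ ?_
        simpa using hq.map (f.fiberι (f η)).continuous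
      have h := hfib (f η) _ hcl
      rw [← fdim_fiberι, f.fiberι_asFiber, hm] at h
      exact_mod_cast h
    rw [← fdim_qX k (f ≫ qY) η, ha, hY]
    exact_mod_cast (show a = c + d + n by omega)

theorem main_equidim {Y : Scheme.{u}} (qY : Y ⟶ Spec (CommRingCat.of k)) [LocallyOfFiniteType qY]
    (f : X ⟶ Y) (hf : f ≫ qY = qX) [Flat f] (e n : ℕ)
    (hE : ∀ Z ∈ irreducibleComponents Y, topologicalKrullDim ↥Z = (e : WithBot ℕ∞)) :
    (∀ Z : Set ↥X, Z ∈ irreducibleComponents ↥X → topologicalKrullDim ↥Z = ((e + n : ℕ) : WithBot ℕ∞)) ↔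
      ∀ (y : Y) (Z : Set ↥(f.fiber y)), Z ∈ irreducibleComponents ↥(f.fiber y) →
        topologicalKrullDim ↥Z = (n : WithBot ℕ∞) := by
  subst hf
  haveI : LocallyOfFiniteType f := locallyOfFiniteType_of_comp f qY
  haveI : IsLocallyNoetherian Y := LocallyOfFiniteType.isLocallyNoetherian qY
  haveI : IsLocallyNoetherian X := LocallyOfFiniteType.isLocallyNoetherian f
  constructor
  · intro hD y Z hZ
    obtain ⟨c, rfl, hcmax⟩ := exists_generic_of_component f y hZ
    have hmax : ∀ z', f z' = f (f.fiberι y c) → z' ⤳ f.fiberι y c → z' = f.fiberι y c := fun z' hz' hsp => by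
      obtain ⟨d, rfl⟩ : z' ∈ Set.range (f.fiberι y) := by rw [f.range_fiberι]; exact hz'.trans (apply_fiberι f y c)
      rw [hcmax d ((f.fiberι y).isEmbedding.isInducing.specializes_iff.mp hsp)]
    rw [← fdim_fiberι]
    generalize hz : f.fiberι y c = z at hmax ⊢
    obtain ⟨a, b, ha, hb, hX⟩ := point_data' k (f ≫ qY) _ hD z
    obtain ⟨p, q, hp, hq, hY⟩ := point_data' k qY _ hE (f z)
    obtain ⟨m, hm, hmt⟩ := exists_fdim_rtrdeg f z
    rw [Cyc.rtrdeg_comp, hp, hmt] at ha
    have hac : p + m = a := by exact_mod_cast ha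
    have hbd : ringKrullDim (X.presheaf.stalk z) = ringKrullDim (Y.presheaf.stalk (f z)) := by
      refine le_antisymm ?_ ?_
      · refine (Groth.L07.OpenDim.ringKrullDim_stalk_le f z).trans (le_of_eq ?_)
        rw [fibre_dim_zero f z hmax, add_zero]
      · letI := (f.stalkMap z).hom.toAlgebra
        haveI : Module.Flat (Y.presheaf.stalk (f z)) (X.presheaf.stalk z) := Flat.stalkMap f z
        haveI : IsLocalHom (algebraMap (Y.presheaf.stalk (f z)) (X.presheaf.stalk z)) :=
          inferInstanceAs (IsLocalHom (f.stalkMap z).hom)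
        exact dim_le_of_flat
    rw [hb, hq] at hbd
    have hbd' : b = q := by exact_mod_cast hbd
    have hY' : e = p + q := by exact_mod_cast hY
    have : e + n = a + b := by exact_mod_cast hX
    rw [hm]
    exact_mod_cast (show m = n by omega)
  · intro hfib Z hZ
    obtain ⟨η, hη⟩ := QuasiSober.sober hZ.1 (isClosed_of_mem_irreducibleComponents Z hZ)
    obtain rfl := hη.def
    have hmax := (closure_singleton_mem_irreducibleComponents_iff η).mp hZ
    have hgen : closure ({f η} : Set Y) ∈ irreducibleComponents Y := by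
      refine (closure_singleton_mem_irreducibleComponents_iff _).mpr fun q hq => ?_
      obtain ⟨x', hx', hfx'⟩ := Flat.generalizingMap f hq
      rw [← hfx', hmax x' hx']
    obtain ⟨a, ha, hat⟩ := exists_fdim_rtrdeg (f ≫ qY) η
    obtain ⟨c, d, hc, hd, hY⟩ := point_data' k qY _ hE (f η)
    obtain ⟨m, hm, hmt⟩ := exists_fdim_rtrdeg f η
    have hac : c + m = a := by
      rw [Cyc.rtrdeg_comp, hc, hmt] at hat
      exact_mod_cast hat
    have hd0 : d = 0 := by
      obtain ⟨c', hc', hct'⟩ := exists_fdim_rtrdeg qY (f η)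
      obtain rfl : c' = c := by exact_mod_cast hct'.symm.trans hc
      have he : fdim qY (f η) = (e : WithBot ℕ∞) := by
        rw [fdim_qX k qY, hE _ hgen]
      rw [hc'] at he
      have : c' = e := by exact_mod_cast he
      have hY' : e = c' + d := by exact_mod_cast hY
      omega
    have hmn : m = n := by
      have hcl : closure ({f.asFiber η} : Set (f.fiber (f η))) ∈ irreducibleComponents _ := by
        refine (closure_singleton_mem_irreducibleComponents_iff _).mpr fun q hq => ?_
        apply (f.fiberι (f η)).isEmbedding.injective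
        rw [f.fiberι_asFiber]
        refine hmax _ ?_
        simpa using hq.map (f.fiberι (f η)).continuous
      have h := hfib (f η) _ hcl
      rw [← fdim_fiberι, f.fiberι_asFiber, hm] at h
      exact_mod_cast h
    rw [← fdim_qX k (f ≫ qY) η, ha]
    have hY' : e = c + d := by exact_mod_cast hY
    exact_mod_cast (show a = e + n by omega)

end Groth.L00.EquidimFlat
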