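import Mathlib.Algebra.Homology.DerivedCategory.Ext.Map
import Mathlib.Algebra.Homology.DerivedCategory.Ext.ExactSequences
import Mathlib.Algebra.Homology.DerivedCategory.Fractions
import Mathlib.Algebra.Homology.SingleHomology

/-! Classes in positive degree Ext are effaceable by epimorphisms. -/

universe w v u w' v' u'

open CategoryTheory CategoryTheory.Limits CategoryTheory.Abelian

set_option backward.isDefEq.respectTransparency false
set_option backward.isDefEq.respectTransparency.types false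

namespace Groth.L00.ExtEfface

variable {A : Type u} [Category.{v} A] [Abelian A]

theorem epi_f_of_quasiIso {K : CochainComplex A ℤ} [K.IsStrictlyLE 0] {L : A}
    (s : K ⟶ (CochainComplex.singleFunctor A 0).obj L) [QuasiIso s] : Epi (s.f 0) := by
  let S : CochainComplex A ℤ := (CochainComplex.singleFunctor A 0).obj L
  have hK : K.d 0 1 = 0 := (K.isZero_of_isStrictlyLE 0 1 (by lia)).eq_of_tgt _ _
  have hS : S.d (-1) 0 = 0 := (S.isZero_of_isStrictlyGE 0 (-1) (by lia)).eq_of_src _ _
  have hS' : S.d 0 1 = 0 := (S.isZero_of_isStrictlyLE 0 1 (by lia)).eq_of_tgt _ _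
  haveI : IsIso (K.iCycles 0) := K.isIso_iCycles 0 1 (by simp) hK
  haveI : IsIso (S.iCycles 0) := S.isIso_iCycles 0 1 (by simp) hS'
  haveI : IsIso (S.homologyπ 0) := S.isIso_homologyπ (-1) 0 (by simp) hS
  haveI : IsIso (HomologicalComplex.homologyMap s 0) := inferInstance
  have h1 := HomologicalComplex.homologyπ_naturality s 0
  haveI : Epi (HomologicalComplex.cyclesMap s 0) := by
    have : HomologicalComplex.cyclesMap s 0 =
        (K.homologyπ 0 ≫ HomologicalComplex.homologyMap s 0) ≫ inv (S.homologyπ 0) := by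
      rw [IsIso.eq_comp_inv]; exact h1.symm
    rw [this]; infer_instance
  have h2 : s.f 0 = inv (K.iCycles 0) ≫ HomologicalComplex.cyclesMap s 0 ≫ S.iCycles 0 := by
    rw [HomologicalComplex.cyclesMap_i, IsIso.inv_hom_id_assoc]
  rw [h2]; infer_instance

theorem exists_epi [HasExt.{w} A] {L M : A} {n : ℕ} (hn : 1 ≤ n) (x : Ext.{w} L M n) :
    ∃ (L' : A) (p : L' ⟶ L), Epi p ∧ (Ext.mk₀ p).comp x (zero_add n) = 0 := by
  letI := HasDerivedCategory.standard A
  let S := (CochainComplex.singleFunctor A 0).obj L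
  let T := (CochainComplex.singleFunctor A 0).obj M
  let e : (DerivedCategory.Q.obj T)⟦(n : ℤ)⟧ ≅ DerivedCategory.Q.obj (T⟦(n : ℤ)⟧) :=
    ((DerivedCategory.Q (C := A)).commShiftIso (n : ℤ)).symm.app T
  obtain ⟨K, hK, s, hs, g, hg⟩ :=
    DerivedCategory.right_fac_of_isStrictlyLE (X := S) (Y := T⟦(n : ℤ)⟧) (x.hom ≫ e.hom) 0
  haveI : QuasiIso s := (DerivedCategory.isIso_Q_map_iff_quasiIso A s).1 hs
  have hd : ∀ j, (ComplexShape.up ℤ).Rel 0 j → 𝟙 (K.X 0) ≫ K.d 0 j = 0 := fun j hj =>
    (K.isZero_of_isStrictlyLE 0 j (by simp at hj; lia)).eq_of_tgt _ _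
  let i : (CochainComplex.singleFunctor A 0).obj (K.X 0) ⟶ K :=
    HomologicalComplex.mkHomFromSingle (𝟙 _) hd
  let p : K.X 0 ⟶ L := s.f 0 ≫ (HomologicalComplex.singleObjXSelf (ComplexShape.up ℤ) 0 L).hom
  haveI := epi_f_of_quasiIso s
  refine ⟨K.X 0, p, inferInstanceAs (Epi (s.f 0 ≫ _)), Ext.ext ?_⟩
  have hi : i ≫ s = (CochainComplex.singleFunctor A 0).map p := by
    apply HomologicalComplex.from_single_hom_ext
    simp [i, p, CochainComplex.singleFunctor, CochainComplex.singleFunctors,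
      HomologicalComplex.single_map_f_self]
  have hz : i ≫ g = 0 := by
    apply HomologicalComplex.from_single_hom_ext
    exact (IsZero.eq_of_tgt (T.isZero_of_isStrictlyLE 0 (0 + (n : ℤ)) (by omega)) _ _)
  rw [Ext.comp_hom, Ext.mk₀_hom, ShiftedHom.mk₀_comp, Ext.zero_hom]
  refine (cancel_mono e.hom).1 ?_
  rw [Category.assoc, hg, zero_comp]
  show DerivedCategory.Q.map ((CochainComplex.singleFunctor A 0).map p) ≫ _ = 0
  rw [← hi, Functor.map_comp, Category.assoc, IsIso.hom_inv_id_assoc, ← Functor.map_comp, hz,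
    Functor.map_zero]

variable [HasExt.{w} A] {B : Type u'} [Category.{v'} B] [Abelian B] [HasExt.{w'} B]
  (φ : A ⥤ B) [φ.Additive] [PreservesFiniteLimits φ] [PreservesFiniteColimits φ] (M : A)

theorem bijective_of_effaceable
    (h0 : ∀ L : A, Function.Bijective (fun f : L ⟶ M => φ.map f))
    (he : ∀ (L : A) (n : ℕ), 1 ≤ n → ∀ x : Ext.{w'} (φ.obj L) (φ.obj M) n,
      ∃ (L' : A) (p : L' ⟶ L), Epi p ∧ (Ext.mk₀ (φ.map p)).comp x (zero_add n) = 0) :
    ∀ (n : ℕ) (L : A), Function.Bijective (fun f : Ext.{w} L M n => Ext.mapExactFunctor φ f) := by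
  intro n
  induction n with
  | zero =>
    intro L
    have e : (fun f : Ext.{w} L M 0 => Ext.mapExactFunctor φ f) =
        (fun g => Ext.mk₀ g) ∘ (fun g : L ⟶ M => φ.map g) ∘ Ext.homEquiv₀ := by
      funext f
      obtain ⟨g, rfl⟩ := (Ext.mk₀_bijective L M).2 f
      simp [Ext.mapExactFunctor_mk₀, Ext.homEquiv₀]
    rw [e]
    exact (Ext.mk₀_bijective _ _).comp ((h0 L).comp Ext.homEquiv₀.bijective)
  | succ n ih =>
    intro L
    have ses : ∀ {L' : A} (p : L' ⟶ L) [Epi p],
        (ShortComplex.mk (kernel.ι p) p (kernel.condition p)).ShortExact := fun p _ =>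
      { exact := ShortComplex.exact_kernel p }
    constructor
    · rw [show (fun f : Ext.{w} L M (n + 1) => Ext.mapExactFunctor φ f) = ⇑(φ.mapExtAddHom L M (n + 1)) from rfl,
        injective_iff_map_eq_zero]
      intro x hx
      obtain ⟨L', p, hp, hpx⟩ := exists_epi (Nat.le_add_left 1 n) x
      have hS := ses p
      obtain ⟨z, rfl⟩ := Ext.contravariant_sequence_exact₃ hS M x hpx (by omega : 1 + n = n + 1)
      have hx' : (hS.map_of_exact φ).extClass.comp (z.mapExactFunctor φ) (by omega : 1 + n = n + 1) = 0 := by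
        rw [← Ext.mapExactFunctor_extClass φ hS, ← Ext.mapExactFunctor_comp]; exact hx
      obtain ⟨w, hw⟩ := Ext.contravariant_sequence_exact₁ (hS.map_of_exact φ) (φ.obj M) _ (by omega) hx'
      obtain ⟨w', rfl⟩ := (ih L').2 w
      have : (Ext.mk₀ (kernel.ι p)).comp w' (zero_add n) = z := (ih _).1 (by
        show Ext.mapExactFunctor φ _ = _
        rw [Ext.mapExactFunctor_comp, Ext.mapExactFunctor_mk₀]
        exact hw)
      rw [← this]
      exact hS.extClass_comp_assoc w'
    · intro y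
      obtain ⟨L', p, hp, hpy⟩ := he L (n + 1) (Nat.le_add_left 1 n) y
      have hS := ses p
      obtain ⟨z, rfl⟩ := Ext.contravariant_sequence_exact₃ (hS.map_of_exact φ) (φ.obj M) y hpy (by omega : 1 + n = n + 1)
      obtain ⟨z', rfl⟩ := (ih _).2 z
      refine ⟨hS.extClass.comp z' (by omega : 1 + n = n + 1), ?_⟩
      show Ext.mapExactFunctor φ _ = _
      rw [Ext.mapExactFunctor_comp, Ext.mapExactFunctor_extClass φ hS]

end Groth.L00.ExtEfface
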