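import Groth.Prelude.Def_FEt
import Mathlib.AlgebraicGeometry.Morphisms.FormallyUnramified
import Mathlib.AlgebraicGeometry.Morphisms.UniversallyOpen

/-! Faithfulness of base change of finite étale covers. -/

universe u

open CategoryTheory CategoryTheory.Limits AlgebraicGeometry

set_option backward.isDefEq.respectTransparency.types false

namespace Groth.L00.FEtFaithful

/-- Restriction is faithful if every nonempty clopen image meets the range. -/
theorem faithful_restrict {X Y : Scheme.{u}} (f : X ⟶ Y)
    (H : ∀ (V : FEt.Cat Y) (O : Set V.left), IsClopen O → O.Nonempty → (V.hom '' O ∩ Set.range f).Nonempty) :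
    (FEt.restrict f).Faithful := by
  refine ⟨fun {V U} a b h => ?_⟩
  have : AlgebraicGeometry.Etale U.hom := U.prop.2
  have : IsFinite U.hom := U.prop.1
  let Δ := pullback.diagonal U.hom
  let c : V.left ⟶ pullback U.hom U.hom :=
    pullback.lift a.left b.left ((MorphismProperty.Over.w a).trans (MorphismProperty.Over.w b).symm)
  let E : Set V.left := c ⁻¹' Set.range Δ
  have hE : IsClopen E :=
    ⟨Δ.isClosedEmbedding.isClosed_range.preimage c.continuous,
      Δ.isOpenEmbedding.isOpen_range.preimage c.continuous⟩
  have hall : ∀ v, v ∈ E := by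
    by_contra hne
    push Not at hne
    obtain ⟨_, ⟨v, hv, rfl⟩, x, hx⟩ := H V Eᶜ hE.compl hne
    obtain ⟨w, hw, -⟩ := Scheme.Pullback.exists_preimage_pullback (f := V.hom) (g := f) v x hx.symm
    apply hv
    have e : pullback.fst V.hom f ≫ a.left = pullback.fst V.hom f ≫ b.left :=
      (pullback.lift_fst _ _ _).symm.trans
        ((congrArg (fun m => m.left ≫ pullback.fst U.hom f) h).trans (pullback.lift_fst _ _ _))
    refine ⟨(pullback.fst V.hom f ≫ a.left) w, ?_⟩
    rw [← hw, ← Scheme.Hom.comp_apply, ← Scheme.Hom.comp_apply]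
    have : (pullback.fst V.hom f ≫ a.left) ≫ Δ = pullback.fst V.hom f ≫ c := by
      apply pullback.hom_ext
      · refine ((Category.assoc _ _ _).trans ?_).trans (Category.assoc _ _ _).symm
        refine (congrArg ((pullback.fst V.hom f ≫ a.left) ≫ ·) (pullback.diagonal_fst U.hom)).trans ?_
        exact (Category.comp_id _).trans (congrArg (pullback.fst V.hom f ≫ ·) (pullback.lift_fst _ _ _).symm)
      · refine ((Category.assoc _ _ _).trans ?_).trans (Category.assoc _ _ _).symm
        refine (congrArg ((pullback.fst V.hom f ≫ a.left) ≫ ·) (pullback.diagonal_snd U.hom)).trans ?_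
        exact (Category.comp_id _).trans (e.trans (congrArg (pullback.fst V.hom f ≫ ·) (pullback.lift_snd _ _ _).symm))
    rw [this]
  have hr : Set.range c ⊆ Set.range Δ := by rintro _ ⟨v, rfl⟩; exact hall v
  have hfac := IsOpenImmersion.lift_fac Δ c hr
  refine MorphismProperty.Over.Hom.ext ?_
  have h1 : IsOpenImmersion.lift Δ c hr = a.left := by
    have := congr($hfac ≫ pullback.fst U.hom U.hom)
    rwa [Category.assoc, pullback.diagonal_fst, Category.comp_id, pullback.lift_fst] at this
  have h2 : IsOpenImmersion.lift Δ c hr = b.left := by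
    have := congr($hfac ≫ pullback.snd U.hom U.hom)
    rwa [Category.assoc, pullback.diagonal_snd, Category.comp_id, pullback.lift_snd] at this
  exact h1.symm.trans h2

end Groth.L00.FEtFaithful
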