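/-
Composition of left derived functors computed on K-flat complexes.
-/
import Groth.Agent.L00.DerivedApi

set_option autoImplicit false
set_option backward.isDefEq.respectTransparency false
set_option backward.isDefEq.respectTransparency.types false

universe u

open CategoryTheory CategoryTheory.Limits MonoidalCategory AlgebraicGeometry CochainComplex

attribute [local instance] HasDerivedCategory.standard

namespace Groth.L00.DerivedApi

open Groth.L00.KFlat

variable {X Y Z : Scheme.{u}} (G₁ : Z.Modules ⥤ Y.Modules) [G₁.Additive] (G₂ : Y.Modules ⥤ X.Modules) [G₂.Additive]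

/-- termwise composition -/
noncomputable def mapCxCompIso :
    G₁.mapHomologicalComplex (ComplexShape.up ℤ) ⋙ G₂.mapHomologicalComplex (ComplexShape.up ℤ) ≅
      (G₁ ⋙ G₂).mapHomologicalComplex (ComplexShape.up ℤ) :=
  NatIso.ofComponents (fun K => HomologicalComplex.Hom.isoOfComponents (fun i => Iso.refl _)
    (fun i j _ => by simp [Functor.mapHomologicalComplex])) (fun φ => by
      ext i
      simp)

variable {G₁ G₂} {G₃ : Z.Modules ⥤ X.Modules} [G₃.Additive]
  [(Kh G₁).HasLeftDerivedFunctor (HomotopyCategory.quasiIso Z.Modules (ComplexShape.up ℤ))]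
  [(Kh G₂).HasLeftDerivedFunctor (HomotopyCategory.quasiIso Y.Modules (ComplexShape.up ℤ))]
  [(Kh G₃).HasLeftDerivedFunctor (HomotopyCategory.quasiIso Z.Modules (ComplexShape.up ℤ))]

/-- derived functors compose when the inner functor keeps K-flatness -/
noncomputable def compIso (h₁ : AcyclicKFlat G₁) (h₂ : AcyclicKFlat G₂) (h₃ : AcyclicKFlat G₃)
    (hk : ∀ P, DCoh.IsKFlat P → DCoh.IsKFlat ((G₁.mapHomologicalComplex (ComplexShape.up ℤ)).obj P))
    (η : G₁ ⋙ G₂ ≅ G₃) : LG G₁ ⋙ LG G₂ ≅ LG G₃ :=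
  haveI : ∀ P, IsIso ((Functor.whiskerLeft (RF Z ⋙ G₁.mapHomologicalComplex (ComplexShape.up ℤ))
      (counit G₂)).app P) := fun P => isIso_counit h₂ _ (hk _ (isKFlat_RF P))
  haveI := NatIso.isIso_of_isIso_app (Functor.whiskerLeft (RF Z ⋙ G₁.mapHomologicalComplex (ComplexShape.up ℤ))
      (counit G₂))
  let q := HomotopyCategory.quotient Z.Modules (ComplexShape.up ℤ) ⋙ DerivedCategory.Qh
  let M₁ := G₁.mapHomologicalComplex (ComplexShape.up ℤ)
  let M₂ := G₂.mapHomologicalComplex (ComplexShape.up ℤ)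
  let e : q ⋙ (LG G₁ ⋙ LG G₂) ≅ q ⋙ LG G₃ :=
    (Functor.associator _ _ _).symm ≪≫ Functor.isoWhiskerRight (resIso h₁).symm _ ≪≫
      Functor.isoWhiskerRight (Functor.isoWhiskerLeft (RF Z)
        (cxqIso G₁ ≪≫ Functor.isoWhiskerLeft M₁ (DerivedCategory.quotientCompQhIso Y.Modules).symm)) (LG G₂) ≪≫
      asIso (Functor.whiskerLeft (RF Z ⋙ M₁) (counit G₂)) ≪≫
      Functor.isoWhiskerLeft (RF Z ⋙ M₁) (cxqIso G₂) ≪≫
      (Functor.associator (RF Z) M₁ (M₂ ⋙ DerivedCategory.Q)) ≪≫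
      Functor.isoWhiskerLeft (RF Z) ((Functor.associator M₁ M₂ DerivedCategory.Q).symm ≪≫
        Functor.isoWhiskerRight (mapCxCompIso G₁ G₂ ≪≫ NatIso.mapHomologicalComplex η _) _ ≪≫ (cxqIso G₃).symm) ≪≫
      resIso h₃
  Localization.liftNatIso q (HomologicalComplex.quasiIso Z.Modules (ComplexShape.up ℤ))
    (q ⋙ (LG G₁ ⋙ LG G₂)) (q ⋙ LG G₃) _ _ e

theorem acyclicKFlat_of_iso {G G' : Y.Modules ⥤ X.Modules} [G.Additive] [G'.Additive] (η : G ≅ G')
    (h : AcyclicKFlat G) : AcyclicKFlat G' := fun K hK hac i =>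
  (h K hK hac i).of_iso ((HomologicalComplex.homologyFunctor _ _ i).mapIso
    ((NatIso.mapHomologicalComplex η (ComplexShape.up ℤ)).app K).symm)

theorem lpull_comp (f : X ⟶ Y) (g : Y ⟶ Z) [DCoh.HasLpull f] [DCoh.HasLpull g] [DCoh.HasLpull (f ≫ g)] :
    Nonempty (DCoh.Lpull g ⋙ DCoh.Lpull f ≅ DCoh.Lpull (f ≫ g)) :=
  ⟨compIso (acyclicKFlat_pullback g) (acyclicKFlat_pullback f) (acyclicKFlat_pullback (f ≫ g))
    (fun P hP => pullback_kflat g P hP) (Scheme.Modules.pullbackComp f g)⟩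

end Groth.L00.DerivedApi
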