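/-
`CohB1.tensorMod` commutes with restriction along open immersions.
-/
import Groth.Agent.L00.TensorMod

set_option autoImplicit false

universe u

open CategoryTheory MonoidalCategory AlgebraicGeometry Opposite TensorProduct

namespace Groth.L00.Tensor

variable {X Y : Scheme.{u}} (j : X ⟶ Y) [IsOpenImmersion j] (M N : Y.Modules)

/-- presheaf tensor product of the restrictions -/
noncomputable abbrev preResTensor : PX X := pre (M.restrict j) ⊗ pre (N.restrict j)

/-- sections of a restriction, seen downstairs -/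
def toY (U : X.Opens) (m : (pre (M.restrict j)).obj (op U)) : (pre M).obj (op (j ''ᵁ U)) := m

/-- sections downstairs, seen in the restriction -/
def toX (U : X.Opens) (m : (pre M).obj (op (j ''ᵁ U))) : (pre (M.restrict j)).obj (op U) := m

/-- scalars upstairs, seen downstairs -/
noncomputable def scY (U : X.Opens) (r : X.sheaf.obj.obj (op U)) : Y.sheaf.obj.obj (op (j ''ᵁ U)) :=
  (j.appIso U).inv r

/-- scalars downstairs, seen upstairs -/
noncomputable def scX (U : X.Opens) (r : Y.sheaf.obj.obj (op (j ''ᵁ U))) : X.sheaf.obj.obj (op U) :=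
  (j.appIso U).hom r

lemma toY_add (U : X.Opens) (m m' : (pre (M.restrict j)).obj (op U)) :
    toY j M U (m + m') = toY j M U m + toY j M U m' := rfl

lemma toY_smul (U : X.Opens) (r : X.sheaf.obj.obj (op U)) (m : (pre (M.restrict j)).obj (op U)) :
    toY j M U (r • m) = scY j U r • toY j M U m := rfl

lemma scY_scX (U : X.Opens) (r : Y.sheaf.obj.obj (op (j ''ᵁ U))) : scY j U (scX j U r) = r :=
  CategoryTheory.Iso.hom_inv_id_apply (j.appIso U) r

lemma toX_smul (U : X.Opens) (r : Y.sheaf.obj.obj (op (j ''ᵁ U))) (m : (pre M).obj (op (j ''ᵁ U))) :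
    toX j M U (r • m) = scX j U r • toX j M U m := by
  have h := toY_smul j M U (scX j U r) (toX j M U m)
  rw [scY_scX] at h
  exact h.symm

/-- change of the ring of scalars of the tensor product along `appIso` -/
noncomputable def cmpFwd (U : X.Opens) :
    (preResTensor j M N).obj (op U) →+ (pre M ⊗ pre N).obj (op (j ''ᵁ U)) :=
  TensorProduct.liftAddHom
    (R := X.sheaf.obj.obj (op U)) (M := (pre (M.restrict j)).obj (op U))
    (N := (pre (N.restrict j)).obj (op U))
    { toFun := fun m =>
        { toFun := fun n => toY j M U m ⊗ₜ[Y.sheaf.obj.obj (op (j ''ᵁ U))] toY j N U n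
          map_zero' := TensorProduct.tmul_zero _ _
          map_add' := fun n n' => TensorProduct.tmul_add _ _ _ }
      map_zero' := by ext n; exact TensorProduct.zero_tmul _ _
      map_add' := fun m m' => by ext n; exact TensorProduct.add_tmul _ _ _ }
    (fun r m n => by
      let M' : ModuleCat (Y.sheaf.obj.obj (op (j ''ᵁ U))) := (pre M).obj (op (j ''ᵁ U))
      let N' : ModuleCat (Y.sheaf.obj.obj (op (j ''ᵁ U))) := (pre N).obj (op (j ''ᵁ U))
      exact TensorProduct.smul_tmul (scY j U r) (toY j M U m : M') (toY j N U n : N'))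

/-- inverse of `cmpFwd` -/
noncomputable def cmpBack (U : X.Opens) :
    (pre M ⊗ pre N).obj (op (j ''ᵁ U)) →+ (preResTensor j M N).obj (op U) :=
  TensorProduct.liftAddHom
    (R := Y.sheaf.obj.obj (op (j ''ᵁ U))) (M := (pre M).obj (op (j ''ᵁ U)))
    (N := (pre N).obj (op (j ''ᵁ U)))
    { toFun := fun m =>
        { toFun := fun n => toX j M U m ⊗ₜ[X.sheaf.obj.obj (op U)] toX j N U n
          map_zero' := TensorProduct.tmul_zero _ _
          map_add' := fun n n' => TensorProduct.tmul_add _ _ _ }
      map_zero' := by ext n; exact TensorProduct.zero_tmul _ _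
      map_add' := fun m m' => by ext n; exact TensorProduct.add_tmul _ _ _ }
    (fun r m n => by
      let M' : ModuleCat (X.sheaf.obj.obj (op U)) := (pre (M.restrict j)).obj (op U)
      let N' : ModuleCat (X.sheaf.obj.obj (op U)) := (pre (N.restrict j)).obj (op U)
      change toX j M U (r • m) ⊗ₜ[X.sheaf.obj.obj (op U)] toX j N U n =
        toX j M U m ⊗ₜ[X.sheaf.obj.obj (op U)] toX j N U (r • n)
      rw [toX_smul, toX_smul]
      exact TensorProduct.smul_tmul (scX j U r) (toX j M U m : M') (toX j N U n : N'))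

lemma cmpBack_fwd (U : X.Opens) (z : (preResTensor j M N).obj (op U)) :
    cmpBack j M N U (cmpFwd j M N U z) = z := by
  induction z using TensorProduct.induction_on with
  | zero => exact (congrArg _ (map_zero _)).trans (map_zero _)
  | tmul m n => rfl
  | add a b ha hb => exact (congrArg _ (map_add _ a b)).trans ((map_add _ _ _).trans (congrArg₂ (· + ·) ha hb))

lemma cmpFwd_back (U : X.Opens) (z : (pre M ⊗ pre N).obj (op (j ''ᵁ U))) :
    cmpFwd j M N U (cmpBack j M N U z) = z := by
  induction z using TensorProduct.induction_on with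
  | zero => exact (congrArg _ (map_zero _)).trans (map_zero _)
  | tmul m n => rfl
  | add a b ha hb => exact (congrArg _ (map_add _ a b)).trans ((map_add _ _ _).trans (congrArg₂ (· + ·) ha hb))

lemma cmpFwd_rs {U V : X.Opens} (i : V ⟶ U) (z : (preResTensor j M N).obj (op U)) :
    cmpFwd j M N V (rs (preResTensor j M N) i.op z) =
      rs (pre M ⊗ pre N) (j.opensFunctor.map i).op (cmpFwd j M N U z) := by
  induction z using TensorProduct.induction_on with
  | zero =>
    exact ((congrArg (cmpFwd j M N V) (map_zero _)).trans (map_zero _)).trans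
      ((congrArg _ (map_zero _)).trans (map_zero _)).symm
  | tmul m n => rfl
  | add a b ha hb =>
    exact ((congrArg (cmpFwd j M N V) (map_add _ a b)).trans (map_add _ _ _)).trans
      ((congrArg₂ (· + ·) ha hb).trans ((congrArg _ (map_add _ a b)).trans (rs_add _ _ _ _)).symm)

/-- the bilinear map underlying the comparison map -/
noncomputable def cmpBil (U : X.Opens) (m : (pre (M.restrict j)).obj (op U))
    (n : (pre (N.restrict j)).obj (op U)) :
    (pre ((CohB1.tensorMod M N).restrict j)).obj (op U) :=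
  toX j (CohB1.tensorMod M N) U
    (ev (unit (pre M ⊗ pre N)) (op (j ''ᵁ U)) (toY j M U m) (toY j N U n))

/-- the comparison map on sections -/
noncomputable def cmpLin (U : X.Opens) :
    (preResTensor j M N).obj (op U) ⟶ (pre ((CohB1.tensorMod M N).restrict j)).obj (op U) :=
  ModuleCat.ofHom (Y := (pre ((CohB1.tensorMod M N).restrict j)).obj (op U))
    (TensorProduct.lift
      (LinearMap.mk₂ (X.sheaf.obj.obj (op U)) (cmpBil j M N U)
        (fun _ _ _ => ev_add₁ (unit (pre M ⊗ pre N)) _ _ _ _)
        (fun r _ _ => ev_smul₁ (unit (pre M ⊗ pre N)) _ (scY j U r) _ _)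
        (fun _ _ _ => ev_add₂ (unit (pre M ⊗ pre N)) _ _ _ _)
        (fun r _ _ => ev_smul₂ (unit (pre M ⊗ pre N)) _ (scY j U r) _ _)))

/-- the comparison map on presheaves -/
noncomputable def restrictCmp :
    preResTensor j M N ⟶ pre ((CohB1.tensorMod M N).restrict j) where
  app U := cmpLin j M N U.unop
  naturality {U _} g := ModuleCat.MonoidalCategory.tensor_ext (fun m n =>
    φ_rs (unit (pre M ⊗ pre N)) (j.opensFunctor.map g.unop).op (toY j M U.unop m) (toY j N U.unop n))

lemma restrictCmp_app (U : X.Opens) (z : (preResTensor j M N).obj (op U)) :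
    (restrictCmp j M N).app (op U) z =
      (unit (pre M ⊗ pre N)).app (op (j ''ᵁ U)) (cmpFwd j M N U z) := by
  induction z using TensorProduct.induction_on with
  | zero => exact (map_zero _).trans ((congrArg _ (map_zero _)).trans (map_zero _)).symm
  | tmul m n => rfl
  | add a b ha hb =>
    exact (map_add _ a b).trans ((congrArg₂ (· + ·) ha hb).trans
      ((congrArg _ (map_add _ a b)).trans (map_add _ _ _)).symm)

lemma unit_locallyInjective (P : PX Y) :
    Presheaf.IsLocallyInjective (Opens.grothendieckTopology Y)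
      ((PresheafOfModules.toPresheaf _).map (unit P)) :=
  (((Opens.grothendieckTopology Y).W_iff_isLocallyBijective _).1 (Wp_unit P)).1

lemma unit_locallySurjective (P : PX Y) :
    Presheaf.IsLocallySurjective (Opens.grothendieckTopology Y)
      ((PresheafOfModules.toPresheaf _).map (unit P)) :=
  (((Opens.grothendieckTopology Y).W_iff_isLocallyBijective _).1 (Wp_unit P)).2

lemma cmp_locInj {U : X.Opens} (z z' : (preResTensor j M N).obj (op U))
    (h : (restrictCmp j M N).app (op U) z = (restrictCmp j M N).app (op U) z') (x : X) (hx : x ∈ U) :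
    ∃ (W : X.Opens) (i : W ⟶ U), x ∈ W ∧
      rs (preResTensor j M N) i.op z = rs (preResTensor j M N) i.op z' := by
  haveI := unit_locallyInjective (pre M ⊗ pre N)
  rw [restrictCmp_app, restrictCmp_app] at h
  obtain ⟨S, hS, hS'⟩ := local_eq (J := Opens.grothendieckTopology Y) (unit (pre M ⊗ pre N))
    (cmpFwd j M N U z) (cmpFwd j M N U z') h
  obtain ⟨V, g, hg, hxV⟩ := hS (j x) ⟨x, hx, rfl⟩
  refine ⟨U ⊓ j ⁻¹ᵁ V, homOfLE inf_le_left, ⟨hx, hxV⟩, ?_⟩
  have hle : j ''ᵁ (U ⊓ j ⁻¹ᵁ V) ≤ V :=
    (j.image_mono inf_le_right).trans (j.image_preimage_le V)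
  have e := congrArg (rs (pre M ⊗ pre N) (homOfLE hle).op) (hS' g hg)
  rw [rs_comp, rs_comp] at e
  have key : cmpFwd j M N _ (rs (preResTensor j M N) (homOfLE inf_le_left : U ⊓ j ⁻¹ᵁ V ⟶ U).op z) =
      cmpFwd j M N _ (rs (preResTensor j M N) (homOfLE inf_le_left : U ⊓ j ⁻¹ᵁ V ⟶ U).op z') := by
    rw [cmpFwd_rs, cmpFwd_rs]
    exact e
  have e' := congrArg (cmpBack j M N _) key
  rw [cmpBack_fwd, cmpBack_fwd] at e'
  exact e'

lemma cmp_locSurj {U : X.Opens} (y : (pre ((CohB1.tensorMod M N).restrict j)).obj (op U))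
    (x : X) (hx : x ∈ U) :
    ∃ (W : X.Opens) (i : W ⟶ U) (p : (preResTensor j M N).obj (op W)), x ∈ W ∧
      (restrictCmp j M N).app (op W) p = rs (pre ((CohB1.tensorMod M N).restrict j)) i.op y := by
  haveI := unit_locallySurjective (pre M ⊗ pre N)
  obtain ⟨S, hS, hS'⟩ := exists_local (J := Opens.grothendieckTopology Y) (unit (pre M ⊗ pre N))
    (U := op (j ''ᵁ U)) (toY j (CohB1.tensorMod M N) U y)
  obtain ⟨V, g, hg, hxV⟩ := hS (j x) ⟨x, hx, rfl⟩
  obtain ⟨p, hp⟩ := hS' g hg
  have hle : j ''ᵁ (U ⊓ j ⁻¹ᵁ V) ≤ V :=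
    (j.image_mono inf_le_right).trans (j.image_preimage_le V)
  refine ⟨U ⊓ j ⁻¹ᵁ V, homOfLE inf_le_left,
    cmpBack j M N _ (rs (pre M ⊗ pre N) (homOfLE hle).op p), ⟨hx, hxV⟩, ?_⟩
  rw [restrictCmp_app, cmpFwd_back, app_rs, hp]
  exact rs_comp (pre (CohB1.tensorMod M N)) g.op (homOfLE hle).op (toY j (CohB1.tensorMod M N) U y)

theorem Wp_restrictCmp : Wp (restrictCmp j M N) := by
  rw [Wp, (Opens.grothendieckTopology X).W_iff_isLocallyBijective]
  refine ⟨⟨fun {U} z z' h x hx => ?_⟩, ⟨fun {U} y x hx => ?_⟩⟩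
  · obtain ⟨W, i, hxW, e⟩ := cmp_locInj j M N (U := U.unop) z z' h x hx
    exact ⟨W, i, e, hxW⟩
  · obtain ⟨W, i, p, hxW, e⟩ := cmp_locSurj j M N (U := U) y x hx
    exact ⟨W, i, ⟨p, e⟩, hxW⟩

/-- `tensorMod` commutes with restriction along an open immersion. -/
noncomputable def tensorRestrict :
    CohB1.tensorMod (M.restrict j) (N.restrict j) ≅ (CohB1.tensorMod M N).restrict j :=
  @asIso _ _ _ _ ((shf X).map (restrictCmp j M N))
    ((isIso_shf_map_iff (restrictCmp j M N)).2 (Wp_restrictCmp j M N)) ≪≫ counitIso _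

/-- `tensorPow` commutes with restriction along an open immersion. -/
noncomputable def tensorPowRestrict (L : Y.Modules) : ∀ n : ℕ,
    CohB1.tensorPow (L.restrict j) n ≅ (CohB1.tensorPow L n).restrict j
  | 0 => (Scheme.Modules.restrictUnitIso j).symm
  | n + 1 => tensorIso (tensorPowRestrict L n) (Iso.refl _) ≪≫ tensorRestrict j _ _

end Groth.L00.Tensor
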