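import Groth.Agent.L26.AV.NonNoethHom
import Groth.Agent.L26.AV.Hom
import Groth.Agent.L08.FlatHom
import Groth.Agent.L08.DeligneScheme
import Groth.Agent.L08.MulEtaleBC
import Groth.Agent.L08.SubgroupObj
import Groth.Agent.L23.SchemeFacts
import Groth.Agent.L08.Cube.MulSurj
import Mathlib.AlgebraicGeometry.Morphisms.FlatRank
import Mathlib.AlgebraicGeometry.Sites.Fpqc

/-!
Multiplication by the degree factors through an isogeny of abelian schemes.
-/

set_option autoImplicit false
set_option linter.style.haveILetI false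
set_option linter.unusedSectionVars false

universe u

open CategoryTheory CategoryTheory.Limits MonoidalCategory CartesianMonoidalCategory MonObj GrpObj AlgebraicGeometry

namespace Groth.L00.IsogDual

variable {S : Scheme.{u}} (X : Over S) [GrpObj X] [IsProper X.hom] [Flat X.hom] [LocallyOfFinitePresentation X.hom]
  [GeometricallyReduced X.hom] [GeometricallyConnected X.hom]

/-- `[n]` is surjective and quasi-finite on an abelian scheme -/
theorem surjective_and_quasiFinite_pow (n : ℕ) (hn : 1 ≤ n) :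
    Surjective (𝟙 X ^ n).left ∧ LocallyQuasiFinite (𝟙 X ^ n).left := by
  haveI : IsProper ((𝟙 X ^ n).left ≫ X.hom) := by rw [Over.w]; infer_instance
  haveI : IsProper (𝟙 X ^ n).left := IsProper.of_comp _ X.hom
  have key : ∀ s : S, Surjective ((Over.pullback (S.fromSpecResidueField s)).map (𝟙 X ^ n)).left ∧
      LocallyQuasiFinite ((Over.pullback (S.fromSpecResidueField s)).map (𝟙 X ^ n)).left := by
    intro s
    let t : Spec (CommRingCat.of (S.residueField s)) ⟶ S := S.fromSpecResidueField s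
    letI : GrpObj ((Over.pullback (S.fromSpecResidueField s)).obj X) := Functor.grpObjObj
    let G := (Over.pullback t).obj X
    letI : GrpObj G := Functor.grpObjObj
    haveI : IsProper G.hom := inferInstanceAs (IsProper (pullback.snd X.hom t))
    haveI : GeometricallyReduced G.hom := inferInstanceAs (GeometricallyReduced (pullback.snd X.hom t))
    haveI : ConnectedSpace G.left := inferInstanceAs (ConnectedSpace (X.hom.fiber s))
    haveI : GeometricallyIntegral G.hom := Groth.Agent.AV.geometricallyIntegral_of_connected G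
    have h := Groth.L08.MulEtale.map_pow_eq t X (n : ℤ)
    rw [zpow_natCast, zpow_natCast] at h
    erw [h]
    exact ⟨Groth.L08.Cube.surjective_pow (A := G) hn, Groth.L08.Cube.locallyQuasiFinite_pow (A := G) hn⟩
  refine ⟨⟨fun y => ?_⟩, LocallyQuasiFinite.of_finite_preimage_singleton _ fun y => ?_⟩
  all_goals obtain ⟨z, hz⟩ : y ∈ Set.range (X.hom.fiberι (X.hom y)) := by rw [Scheme.Hom.range_fiberι]; rfl
  all_goals have hP := Groth.L08.IsogenyFibres.isPullback_fibre X X (𝟙 X ^ n) (X.hom y)
  · obtain ⟨w, hw⟩ := (key (X.hom y)).1.surj z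
    exact ⟨pullback.fst X.hom _ w, (congrArg (fun φ => φ w) hP.w).trans ((congrArg _ hw).trans hz)⟩
  · haveI := (key (X.hom y)).2
    haveI : QuasiCompact ((Over.pullback (S.fromSpecResidueField (X.hom y))).map (𝟙 X ^ n)).left :=
      MorphismProperty.of_isPullback (P := @QuasiCompact) hP inferInstance
    refine ((((Over.pullback (S.fromSpecResidueField (X.hom y))).map (𝟙 X ^ n)).left.finite_preimage_singleton z).image
      (pullback.fst X.hom (S.fromSpecResidueField (X.hom y)))).subset ?_
    intro x hx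
    obtain ⟨w, hw1, hw2⟩ := Scheme.Pullback.exists_preimage_pullback (f := (𝟙 X ^ n).left)
      (g := X.hom.fiberι (X.hom y)) x z ((show (𝟙 X ^ n).left x = y from hx).trans hz.symm)
    refine ⟨hP.isoPullback.inv w, ?_, ?_⟩
    · exact (congrArg (fun φ => φ w) hP.isoPullback_inv_snd).trans hw2
    · exact (congrArg (fun φ => φ w) hP.isoPullback_inv_fst).trans hw1

variable {X} {Y : Over S} [GrpObj Y] [IsProper Y.hom] [Flat Y.hom] [LocallyOfFinitePresentation Y.hom]
  [GeometricallyReduced Y.hom] [GeometricallyConnected Y.hom]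
  (f : X ⟶ Y) [IsMonHom f] [IsFinite f.left] [Flat f.left] [Surjective f.left]

omit [IsProper Y.hom] [Flat Y.hom] [GeometricallyReduced Y.hom] [GeometricallyConnected Y.hom] [IsProper X.hom]
  [Flat X.hom] [GeometricallyReduced X.hom] [GeometricallyConnected X.hom] [IsFinite f.left] [Flat f.left]
  [Surjective f.left] [GrpObj X] [GrpObj Y] [IsMonHom f] in
theorem lfp_left : LocallyOfFinitePresentation f.left := by
  haveI : LocallyOfFinitePresentation (f.left ≫ Y.hom) := (Over.w f).symm ▸ inferInstance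
  exact Groth.L23.lfp_of_comp_lft f.left Y.hom inferInstance

/-- points killed by the isogeny are killed by its degree -/
theorem pow_eq_one_of_comp (n : ℕ) (hdeg : ∀ s : S, Scheme.Hom.finrank f.left (η[Y].left s) = n)
    {T : Over S} (x : T ⟶ X) (hx : x ≫ f = 1) : x ^ n = 1 := by
  haveI := Groth.Agent.AV.isCommMonObj_base X
  let N := pullback f η[Y]
  let j : N ⟶ X := pullback.fst f η[Y]
  have hN : IsPullback j (pullback.snd f η[Y]) f η[Y] := IsPullback.of_hasPullback _ _
  have hNl := hN.map (Over.forget _)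
  haveI : IsIso (𝟙_ (Over S)).hom := inferInstanceAs (IsIso (𝟙 _))
  have hNhom : N.hom = (pullback.snd f η[Y]).left ≫ (𝟙_ (Over S)).hom := (Over.w _).symm
  haveI := lfp_left f
  haveI : IsFinite (pullback.snd f η[Y]).left := MorphismProperty.of_isPullback (P := @IsFinite) hNl ‹IsFinite f.left›
  haveI : Flat (pullback.snd f η[Y]).left := MorphismProperty.of_isPullback (P := @Flat) hNl ‹Flat f.left›
  haveI : LocallyOfFinitePresentation (pullback.snd f η[Y]).left :=
    MorphismProperty.of_isPullback (P := @LocallyOfFinitePresentation) hNl ‹LocallyOfFinitePresentation f.left›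
  haveI : IsFinite N.hom := hNhom ▸ (inferInstance : IsFinite ((pullback.snd f η[Y]).left ≫ (𝟙_ (Over S)).hom))
  haveI : Flat N.hom := hNhom ▸ (inferInstance : Flat ((pullback.snd f η[Y]).left ≫ (𝟙_ (Over S)).hom))
  haveI : LocallyOfFinitePresentation N.hom :=
    hNhom ▸ (inferInstance : LocallyOfFinitePresentation ((pullback.snd f η[Y]).left ≫ (𝟙_ (Over S)).hom))
  haveI : Mono η[Y] := mono_of_mono_fac (toUnit_unique (η[Y] ≫ toUnit Y) (𝟙 _))
  haveI : Mono j := inferInstance
  have lift : ∀ {T : Over S} (a : T ⟶ X), a ≫ f = 1 → ∃ z : T ⟶ N, z ≫ j = a := fun a ha =>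
    ⟨pullback.lift a (toUnit _) (by rw [ha, Hom.one_def]), pullback.lift_fst _ _ _⟩
  have hj : j ≫ f = 1 := by
    rw [pullback.condition, Hom.one_def]
    exact congrArg (· ≫ η[Y]) (toUnit_unique _ _)
  obtain ⟨_, hjm⟩ := Groth.L08.exists_grpObj_of_mono j
    (lift η[X] (by rw [IsMonHom.one_hom, Hom.one_def, toUnit_unit, Category.id_comp]))
    (lift _ (by rw [MonObj.mul_comp, Category.assoc, hj, Category.assoc, hj, MonObj.comp_one, MonObj.comp_one,
      _root_.one_mul]))
    (lift _ (by rw [GrpObj.inv_comp, hj, inv_one]))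
  haveI : IsCommMonObj N := ⟨by
    rw [← cancel_mono j, Category.assoc, IsMonHom.mul_hom, ← BraidedCategory.braiding_naturality_assoc,
      IsCommMonObj.mul_comm]⟩
  have hr : ∀ s : S, Scheme.Hom.finrank N.hom s = n := fun s => by
    refine Eq.trans ?_ (hdeg s)
    have hP : IsPullback j.left N.hom f.left η[Y].left :=
      IsPullback.of_iso hNl (Iso.refl _) (Iso.refl _) (Iso.refl S) (Iso.refl _)
        (by simp) (by
          show (pullback.snd f η[Y]).left ≫ 𝟙 S = 𝟙 _ ≫ N.hom
          exact hNhom.symm.trans (Category.id_comp _).symm) (by simp) (by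
          show η[Y].left ≫ 𝟙 _ = 𝟙 S ≫ η[Y].left
          exact (Category.comp_id _).trans (Category.id_comp _).symm)
    exact Scheme.Hom.finrank_of_isPullback j.left N.hom f.left η[Y].left hP s
  obtain ⟨z, hz⟩ := lift x hx
  have h : z ^ n = 1 := by
    calc z ^ n = z ≫ (𝟙 N : N ⟶ N) ^ n := by rw [MonObj.comp_pow, Category.comp_id]
      _ = 1 := by rw [Groth.L08.Deligne.pow_eq_one N n hr, MonObj.comp_one]
  rw [← hz, ← MonObj.pow_comp, h, MonObj.one_comp]

theorem exists_factor (n : ℕ) (hn : 1 ≤ n) (hdeg : ∀ s : S, Scheme.Hom.finrank f.left (η[Y].left s) = n) :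
    (∃! g : Y ⟶ X, IsMonHom g ∧ f ≫ g = 𝟙 X ^ n) ∧
      ∀ g : Y ⟶ X, IsMonHom g → f ≫ g = 𝟙 X ^ n →
        g ≫ f = 𝟙 Y ^ n ∧ IsFinite g.left ∧ Flat g.left ∧ Surjective g.left := by
  haveI := Groth.Agent.AV.isCommMonObj_base X
  haveI : Epi f := Over.epi_of_epi_left f
  have hcond : ∀ {T : Over S} (a b : T ⟶ X), a ≫ f = b ≫ f → a ≫ 𝟙 X ^ n = b ≫ 𝟙 X ^ n := by
    intro T a b hab
    rw [MonObj.comp_pow, MonObj.comp_pow, Category.comp_id, Category.comp_id]
    have h := pow_eq_one_of_comp f n hdeg (a * b⁻¹) (by rw [MonObj.mul_comp, GrpObj.inv_comp, hab, mul_inv_cancel])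
    rw [mul_pow, inv_pow, mul_inv_eq_one] at h
    exact h
  let r : Y.left ⟶ X.left := EffectiveEpi.desc f.left (𝟙 X ^ n).left fun {W} g₁ g₂ hg => by
    let T : Over S := Over.mk (g₁ ≫ X.hom)
    have hg₂ : g₂ ≫ X.hom = g₁ ≫ X.hom := by rw [← Over.w f, reassoc_of% hg]
    let a : T ⟶ X := Over.homMk g₁ rfl
    let b : T ⟶ X := Over.homMk g₂ hg₂
    exact congrArg CommaMorphism.left (hcond a b (Over.OverMorphism.ext hg))
  have hr : f.left ≫ r = (𝟙 X ^ n).left := EffectiveEpi.fac _ _ _
  let g₀ : Y ⟶ X := Over.homMk r (by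
    rw [← cancel_epi f.left, reassoc_of% hr, Over.w, Over.w])
  have hg₀ : f ≫ g₀ = 𝟙 X ^ n := Over.OverMorphism.ext hr
  have hone : η[Y] ≫ g₀ = η[X] := by
    rw [← IsMonHom.one_hom (f := f), Category.assoc, hg₀, MonObj.comp_pow, Category.comp_id]
    rw [show η[X] = (1 : 𝟙_ (Over S) ⟶ X) by rw [Hom.one_def, toUnit_unit, Category.id_comp], one_pow]
  refine ⟨⟨g₀, ⟨Groth.Agent.AV.isMonHom_of_one_base Y X g₀ hone, hg₀⟩,
    fun g hg => (cancel_epi f).1 (hg.2.trans hg₀.symm)⟩, fun g hgm hg => ?_⟩
  have hgf : g ≫ f = 𝟙 Y ^ n := by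
    rw [← cancel_epi f, ← Category.assoc, hg, MonObj.pow_comp, Category.id_comp, MonObj.comp_pow, Category.comp_id]
  obtain ⟨hs, hq⟩ := surjective_and_quasiFinite_pow X n hn
  have hl : f.left ≫ g.left = (𝟙 X ^ n).left := congrArg CommaMorphism.left hg
  haveI : IsProper (g.left ≫ X.hom) := by rw [Over.w]; infer_instance
  haveI : IsProper g.left := IsProper.of_comp _ X.hom
  haveI : Surjective g.left := by
    haveI : Surjective (f.left ≫ g.left) := hl ▸ hs
    exact Surjective.of_comp f.left g.left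
  haveI : QuasiCompact (𝟙 X ^ n).left := by
    haveI : IsProper ((𝟙 X ^ n).left ≫ X.hom) := by rw [Over.w]; infer_instance
    haveI : IsProper (𝟙 X ^ n).left := IsProper.of_comp _ X.hom
    infer_instance
  haveI : LocallyQuasiFinite g.left := LocallyQuasiFinite.of_finite_preimage_singleton _ fun x => by
    refine (((𝟙 X ^ n).left.finite_preimage_singleton x).image f.left).subset fun y hy => ?_
    obtain ⟨w, rfl⟩ := f.left.surjective y
    exact ⟨w, by rw [Set.mem_preimage, ← hl]; exact hy, rfl⟩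
  exact ⟨hgf, IsFinite.of_isProper_of_locallyQuasiFinite _, (Groth.L08.FlatHom.flat_of_surjective_fibres Y X g).1,
    inferInstance⟩

end Groth.L00.IsogDual
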