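import Groth.Agent.L19.Limit.FlatStage
import Groth.Agent.L19.Limit.Finite
import Groth.Agent.L19.Limit.Immersion
import Mathlib.AlgebraicGeometry.Morphisms.FlatRank

/-! Finite locally free morphisms of given degree along cofiltered limits. -/

universe u

open CategoryTheory CategoryTheory.Limits AlgebraicGeometry Topology MorphismProperty
open Groth.L19.Limit

namespace Groth.L00.LimFinLocFree

set_option backward.isDefEq.respectTransparency.types false
set_option backward.isDefEq.respectTransparency false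
set_option backward.defeqAttrib.useBackward true
set_option linter.style.haveILetI false

/-- Finite locally free of degree `d`. -/
def deg (d : ℕ) : MorphismProperty Scheme.{u} :=
  fun _ _ f => (IsFinite f ∧ Flat f ∧ LocallyOfFinitePresentation f) ∧ ∀ y, f.finrank y = d

instance (d : ℕ) : (deg.{u} d).IsStableUnderBaseChange where
  of_isPullback {X Y Y' S f g f' g'} h hg := by
    obtain ⟨⟨h1, h2, h3⟩, h4⟩ := hg
    exact ⟨⟨MorphismProperty.of_isPullback (P := @IsFinite) h h1, MorphismProperty.of_isPullback (P := @Flat) h h2,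
      MorphismProperty.of_isPullback (P := @LocallyOfFinitePresentation) h h3⟩, fun y => by
        rw [Scheme.Hom.finrank_of_isPullback _ _ _ _ h, h4]⟩

theorem descends (d : ℕ) : Descends (deg d) qcqsfp.{u} := by
  intro I _ _ D c _ hc i _ X a ha hP
  haveI : LocallyOfFinitePresentation a := ha.2
  obtain ⟨⟨hfin, hflat, -⟩, hd⟩ := hP
  obtain ⟨j₁, φ₁, h₁⟩ := descends_isFinite hc a ⟨ha.1, inferInstance⟩ hfin
  obtain ⟨j₂, φ₂, h₂⟩ := descends_flat hc a ha hflat
  obtain ⟨j, ψ₁, ψ₂, hψ⟩ := IsCofiltered.cospan φ₁ φ₂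
  let b : pullback (D.map (ψ₁ ≫ φ₁)) a ⟶ D.obj j := pullback.fst _ _
  haveI : IsFinite b := by
    show Pb @IsFinite a (D.map (ψ₁ ≫ φ₁))
    rw [D.map_comp]; exact pb_comp _ h₁
  haveI : Flat b := by
    show Pb @Flat a (D.map (ψ₁ ≫ φ₁))
    rw [hψ, D.map_comp]; exact pb_comp _ h₂
  haveI : LocallyOfFinitePresentation b :=
    MorphismProperty.pullback_fst (P := @LocallyOfFinitePresentation) _ _ ha.2
  haveI := compactSpace_stage (D := D) (ψ₁ ≫ φ₁)
  have hC : IsClosed {y | b.finrank y ≠ d} :=
    (b.isLocallyConstant_finrank.isClopen_fiber d).2.isClosed_compl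
  obtain ⟨k, m, hk⟩ := exists_preimage_eq_empty hc (cc_of_isClosed hC) (by
    refine Set.eq_empty_iff_forall_notMem.mpr fun s hs => hs ?_
    have hsq : IsPullback (pullback.fst (pullback.fst (D.map (ψ₁ ≫ φ₁)) a) (c.π.app j))
        (pullback.snd b (c.π.app j)) b (c.π.app j) := IsPullback.of_hasPullback _ _
    rw [← Scheme.Hom.finrank_of_isPullback _ _ _ _ hsq]
    have e := IsPullback.paste_horiz (IsPullback.of_hasPullback b (c.π.app j))
      (IsPullback.of_hasPullback (D.map (ψ₁ ≫ φ₁)) a).flip
    rw [c.w] at e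
    haveI : IsFinite (pullback.fst (c.π.app i) a) := hfin
    haveI : Flat (pullback.fst (c.π.app i) a) := hflat
    have e' := e.isoPullback_hom_snd
    haveI : IsFinite (pullback.snd a (c.π.app i)) := MorphismProperty.of_isPullback (P := @IsFinite)
      (IsPullback.of_right' (IsPullback.of_hasPullback a (c.π.app i)) (IsPullback.of_hasPullback (c.π.app i) a).flip :
        IsPullback _ _ _ (𝟙 _)) hfin
    haveI : Flat (pullback.snd a (c.π.app i)) := MorphismProperty.of_isPullback (P := @Flat)
      (IsPullback.of_right' (IsPullback.of_hasPullback a (c.π.app i)) (IsPullback.of_hasPullback (c.π.app i) a).flip :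
        IsPullback _ _ _ (𝟙 _)) hflat
    rw [← e', Scheme.Hom.finrank_comp_left_of_isIso, ← pullbackSymmetry_hom_comp_fst,
      Scheme.Hom.finrank_comp_left_of_isIso, hd])
  refine ⟨k, m ≫ ψ₁ ≫ φ₁, ?_⟩
  have hsq := ((IsPullback.of_hasPullback (D.map m) b).flip.paste_horiz
    (IsPullback.of_hasPullback (D.map (ψ₁ ≫ φ₁)) a).flip)
  rw [← D.map_comp] at hsq
  refine (pb_iff_of_isPullback hsq).mp ⟨⟨inferInstance, inferInstance, inferInstance⟩, fun y => ?_⟩
  rw [Scheme.Hom.finrank_pullback_fst]
  by_contra hne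
  exact Set.eq_empty_iff_forall_notMem.mp hk y hne

end Groth.L00.LimFinLocFree
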