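import Groth.Agent.L19.Limit.Immersion
import Groth.Agent.L18.QuasiAffine

/-! Quasi-affine morphisms descend along cofiltered limits with affine transition maps. -/

universe u

open CategoryTheory CategoryTheory.Limits AlgebraicGeometry Topology MorphismProperty
open Groth.L19.Limit

namespace Groth.L00.LimQuasiAffine

set_option backward.isDefEq.respectTransparency.types false
set_option backward.isDefEq.respectTransparency false
set_option backward.defeqAttrib.useBackward true
set_option linter.style.haveILetI false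

/-- Quasi-affine morphisms as a morphism property. -/
def qaff : MorphismProperty Scheme.{u} := fun _ _ f => Mor2.IsQuasiAffine f

theorem isQuasiAffine_of_iso {X Y : Scheme.{u}} (f : X ⟶ Y) [IsIso f] : Mor2.IsQuasiAffine f :=
  Groth.L18.isQuasiAffine_of_isEmbedding f f.isOpenEmbedding.isEmbedding

instance : qaff.{u}.RespectsIso :=
  MorphismProperty.RespectsIso.mk _
    (fun e _ hf => Groth.L18.isQuasiAffine_comp e.hom _ (isQuasiAffine_of_iso _) hf)
    (fun e f hf => Groth.L18.isQuasiAffine_comp f e.hom hf (isQuasiAffine_of_iso _))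

instance : qaff.{u}.IsStableUnderBaseChange :=
  MorphismProperty.IsStableUnderBaseChange.mk'
    (fun _ _ _ f g _ hg => by
      rw [← pullbackSymmetry_hom_comp_snd]
      exact Groth.L18.isQuasiAffine_comp _ _ (isQuasiAffine_of_iso _)
        (Groth.L18.isQuasiAffine_baseChange g hg f))

instance : IsZariskiLocalAtTarget qaff.{u} := by
  refine IsZariskiLocalAtTarget.mk' (fun f U hf => ?_) (fun {X Y} f ι U hU H => ?_)
  · exact MorphismProperty.of_isPullback (P := qaff) (isPullback_morphismRestrict f U).flip hf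
  · have hqc : QuasiCompact f := IsZariskiLocalAtTarget.of_iSup_eq_top _ hU fun i => (H i).1
    refine Groth.L18.isQuasiAffine_of_nhds f fun y => ?_
    obtain ⟨i, hi⟩ := TopologicalSpace.Opens.mem_iSup.mp (hU.ge (Set.mem_univ y) : y ∈ iSup U)
    obtain ⟨_, ⟨W, hW, rfl⟩, hyW, hWU⟩ :=
      Y.isBasis_affineOpens.exists_subset_of_mem_open (a := y) hi (U i).2
    replace hW : IsAffineOpen W := hW
    have hW' : IsAffineOpen ((U i).ι ⁻¹ᵁ W) :=
      hW.preimage_of_isOpenImmersion (U i).ι (by rw [Scheme.Opens.opensRange_ι]; exact hWU)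
    refine ⟨W, hW, hyW, ?_⟩
    have h := (H i).2 _ hW'
    have : CompactSpace (f ⁻¹ᵁ W : Scheme.{u}) :=
      isCompact_iff_compactSpace.mp (f.isCompact_preimage hW.isCompact)
    let e : ((f ∣_ U i) ⁻¹ᵁ ((U i).ι ⁻¹ᵁ W) : Scheme.{u}) ≅ (f ⁻¹ᵁ W : Scheme.{u}) :=
      (f ⁻¹ᵁ U i).ι.isoImage _ ≪≫ X.isoOfEq (TopologicalSpace.Opens.ext (by
        ext x
        refine ⟨?_, fun hx => ⟨⟨x, hWU hx⟩, ?_, rfl⟩⟩
        · rintro ⟨z, hz, rfl⟩
          have h1 : ((U i).ι ((f ∣_ U i) z) : Y) ∈ W := hz
          rwa [← Scheme.Hom.comp_apply, morphismRestrict_ι, Scheme.Hom.comp_apply] at h1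
        · show (U i).ι ((f ∣_ U i) ⟨x, hWU hx⟩) ∈ W
          rw [← Scheme.Hom.comp_apply, morphismRestrict_ι, Scheme.Hom.comp_apply]
          exact hx))
    exact Scheme.IsQuasiAffine.of_isImmersion e.inv

theorem descendsAffine : DescendsAffine qaff qcqs.{u} := by
  intro I _ _ D c _ _ hc i X a ha hP
  haveI : QuasiCompact a := ha.1
  haveI : QuasiSeparated a := ha.2
  haveI : IsAffine c.pt := Scheme.isAffine_of_isLimit c hc
  haveI : IsAffine (((Functor.const I).obj c.pt).obj i) := inferInstanceAs (IsAffine c.pt)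
  have h : Mor2.IsQuasiAffine (pullback.fst (c.π.app i) a) := hP
  haveI : QuasiCompact (pullback.fst (c.π.app i) a) := h.1
  haveI : CompactSpace ↥(pullback (c.π.app i) a) :=
    QuasiCompact.compactSpace_of_compactSpace (pullback.fst (c.π.app i) a)
  haveI : Scheme.IsQuasiAffine (bcCone D c a).pt := by
    have : Scheme.IsQuasiAffine ((⊤ : (pullback (c.π.app i) a).Opens) : Scheme.{u}) := h.2 ⊤ (isAffineOpen_top _)
    show Scheme.IsQuasiAffine (pullback (c.π.app i) a)
    exact Scheme.IsQuasiAffine.of_isImmersion (Scheme.topIso (pullback (c.π.app i) a)).inv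
  haveI : ∀ j, CompactSpace ((bcDiagram D a).obj j) := fun j =>
    QuasiCompact.compactSpace_of_compactSpace (pullback.fst (D.map j.hom) a)
  haveI : ∀ j, QuasiSeparatedSpace ((bcDiagram D a).obj j) := fun j =>
    quasiSeparatedSpace_of_quasiSeparated (pullback.fst (D.map j.hom) a)
  obtain ⟨j, hj⟩ := Scheme.exists_isQuasiAffine_of_isLimit (bcDiagram D a) (bcCone D c a)
    (isLimitBcCone a hc)
  refine ⟨j.left, j.hom, ?_⟩
  haveI : Scheme.IsQuasiAffine (pullback (D.map j.hom) a) := hj
  refine Groth.L18.isQuasiAffine_of_nhds _ fun y => ⟨⊤, isAffineOpen_top _, trivial, ?_⟩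
  haveI : CompactSpace ((pullback.fst (D.map j.hom) a) ⁻¹ᵁ ⊤ : Scheme.{u}) :=
    isCompact_iff_compactSpace.mp ((pullback.fst (D.map j.hom) a).isCompact_preimage isCompact_univ)
  exact Scheme.IsQuasiAffine.of_isImmersion ((pullback.fst (D.map j.hom) a) ⁻¹ᵁ ⊤).ι

theorem descends : Descends qaff qcqs.{u} := descends_of_affine descendsAffine

end Groth.L00.LimQuasiAffine
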