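import Groth.Agent.L19.Limit.Immersion
import Mathlib.AlgebraicGeometry.Morphisms.UniversallyInjective

/-! Surjective and universally injective morphisms along cofiltered limits. -/

universe u

open CategoryTheory CategoryTheory.Limits AlgebraicGeometry Topology MorphismProperty
open Groth.L19.Limit

namespace Groth.L00.LimSurj

set_option backward.isDefEq.respectTransparency.types false
set_option backward.isDefEq.respectTransparency false
set_option backward.defeqAttrib.useBackward true
set_option linter.style.haveILetI false

theorem descends_surjective : Descends @Surjective qcqsfp.{u} := by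
  intro I _ _ D c _ hc i _ X a ha hP
  haveI : QuasiCompact a := ha.1.1
  haveI : LocallyOfFinitePresentation a := ha.2
  haveI : Surjective (pullback.fst (c.π.app i) a) := hP
  have hZ : IsLocallyConstructible (Set.range a) := by
    simpa [Set.image_univ] using a.isLocallyConstructible_image IsLocallyConstructible.univ
  have h : c.π.app i ⁻¹' Set.range a = c.π.app i ⁻¹' Set.univ := by
    rw [← range_of_isPullback (IsPullback.of_hasPullback (c.π.app i) a).flip, Set.preimage_univ]
    exact (pullback.fst (c.π.app i) a).surjective.range_eq
  obtain ⟨j, φ, hj⟩ := exists_preimage_eq_preimage hc hZ IsLocallyConstructible.univ h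
  refine ⟨j, φ, ⟨Set.range_eq_univ.mp ?_⟩⟩
  rw [range_of_isPullback (IsPullback.of_hasPullback (D.map φ) a).flip, hj, Set.preimage_univ]

theorem descends_universallyInjective : Descends @UniversallyInjective qcqsfp.{u} := by
  intro I _ _ D c _ hc i _ X a ha hP
  haveI : QuasiCompact a := ha.1.1
  haveI : QuasiSeparated a := ha.1.2
  haveI : LocallyOfFinitePresentation a := ha.2
  haveI : LocallyOfFinitePresentation (pullback.diagonal a ≫ pullback.fst a a) := by
    rw [pullback.diagonal_fst]; infer_instance
  haveI : LocallyOfFiniteType (pullback.fst a a) :=
    MorphismProperty.pullback_fst (P := @LocallyOfFiniteType) _ _ inferInstance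
  haveI : LocallyOfFinitePresentation (pullback.diagonal a) :=
    Groth.Agent.S12442.result (pullback.diagonal a) (pullback.fst a a)
  obtain ⟨j, φ, hj⟩ := descends_surjective.diagonal hc a
    ⟨⟨⟨QuasiSeparated.quasiCompact_diagonal, inferInstance⟩, inferInstance⟩, inferInstance⟩
    ((UniversallyInjective.iff_diagonal _).mp hP)
  exact ⟨j, φ, (UniversallyInjective.iff_diagonal _).mpr hj⟩

end Groth.L00.LimSurj
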