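import Mathlib.CategoryTheory.Abelian.SerreClass.Localization

set_option autoImplicit false
universe v u v' u'
open CategoryTheory CategoryTheory.Limits

namespace Groth.L00.LocAbelian

variable {C : Type u} [Category.{v} C] [Abelian C] (W : MorphismProperty C)
  [W.HasLeftCalculusOfFractions] [W.HasRightCalculusOfFractions]
  {D : Type u'} [Category.{v'} D] [Preadditive D] (L : C ⥤ D) [L.IsLocalization W] [L.Additive]

include W

theorem mono_map {X Y : C} (f : X ⟶ Y) [Mono f] : Mono (L.map f) := by
  have := Localization.essSurj L W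
  rw [Preadditive.mono_iff_cancel_zero]
  intro Z z hz
  obtain ⟨φ, hφ⟩ := Localization.exists_rightFraction L W ((L.objObjPreimageIso Z).hom ≫ z)
  rw [← cancel_epi (L.objObjPreimageIso Z).hom, comp_zero, hφ]
  have h1 : L.map (φ.f ≫ f) = L.map 0 := by
    rw [L.map_comp, L.map_zero, ← φ.map_s_comp_map L (Localization.inverts L W), ← hφ, Category.assoc,
      Category.assoc, hz, comp_zero, comp_zero]
  obtain ⟨T, t, ht, e⟩ := (MorphismProperty.map_eq_iff_precomp L W _ _).1 h1
  have e' : t ≫ φ.f = 0 := by rw [← cancel_mono f, Category.assoc, e, comp_zero, zero_comp]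
  have := Localization.inverts L W t ht
  have := Localization.inverts L W φ.s φ.hs
  rw [← cancel_epi (L.map φ.s), φ.map_s_comp_map L, comp_zero, ← cancel_epi (L.map t), ← L.map_comp, e',
    L.map_zero, comp_zero]

theorem epi_map {X Y : C} (f : X ⟶ Y) [Epi f] : Epi (L.map f) := by
  have := Localization.essSurj L W
  rw [Preadditive.epi_iff_cancel_zero]
  intro Z z hz
  obtain ⟨φ, hφ⟩ := Localization.exists_leftFraction L W (z ≫ (L.objObjPreimageIso Z).inv)
  rw [← cancel_mono (L.objObjPreimageIso Z).inv, zero_comp, hφ]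
  have h1 : L.map (f ≫ φ.f) = L.map 0 := by
    rw [L.map_comp, L.map_zero, ← φ.map_comp_map_s L (Localization.inverts L W), ← hφ,
      ← Category.assoc, ← Category.assoc, hz, zero_comp, zero_comp]
  obtain ⟨T, t, ht, e⟩ := (MorphismProperty.map_eq_iff_postcomp L W _ _).1 h1
  have e' : φ.f ≫ t = 0 := by rw [← cancel_epi f, ← Category.assoc, e, comp_zero, zero_comp]
  have := Localization.inverts L W t ht
  have := Localization.inverts L W φ.s φ.hs
  rw [← cancel_mono (L.map φ.s), φ.map_comp_map_s L, zero_comp, ← cancel_mono (L.map t), ← L.map_comp, e',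
    L.map_zero, zero_comp]

theorem preservesKernel {X Y : C} (f : X ⟶ Y) : PreservesLimit (parallelPair f 0) L := by
  have := Localization.essSurj L W
  have : Mono (L.map (kernel.ι f)) := mono_map W L _
  suffices ∀ (Z : D) (z : Z ⟶ L.obj X), z ≫ L.map f = 0 →
      ∃ l : Z ⟶ L.obj (kernel f), l ≫ L.map (kernel.ι f) = z from
    preservesLimit_of_preserves_limit_cone (kernelIsKernel f)
      ((KernelFork.isLimitMapConeEquiv _ L).2 (Fork.IsLimit.ofExistsUnique fun s =>
        existsUnique_of_exists_of_unique (this _ _ (KernelFork.condition s)) fun _ _ h₁ h₂ =>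
          (cancel_mono (L.map (kernel.ι f))).1 (h₁.trans h₂.symm)))
  intro Z z hz
  obtain ⟨φ, hφ⟩ := Localization.exists_rightFraction L W ((L.objObjPreimageIso Z).hom ≫ z)
  have h1 : L.map (φ.f ≫ f) = L.map 0 := by
    rw [L.map_comp, L.map_zero, ← φ.map_s_comp_map L (Localization.inverts L W), ← hφ, Category.assoc,
      Category.assoc, hz, comp_zero, comp_zero]
  obtain ⟨T, t, ht, e⟩ := (MorphismProperty.map_eq_iff_precomp L W _ _).1 h1
  have := Localization.inverts L W t ht
  have := Localization.inverts L W φ.s φ.hs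
  refine ⟨(L.objObjPreimageIso Z).inv ≫ inv (L.map φ.s) ≫ inv (L.map t) ≫
    L.map (kernel.lift f (t ≫ φ.f) (by rw [Category.assoc, e, comp_zero])), ?_⟩
  rw [← cancel_epi (L.objObjPreimageIso Z).hom, hφ, ← cancel_epi (L.map φ.s), φ.map_s_comp_map L,
    Category.assoc, Category.assoc, Category.assoc, Iso.hom_inv_id_assoc, IsIso.hom_inv_id_assoc, ← L.map_comp,
    kernel.lift_ι, L.map_comp, IsIso.inv_hom_id_assoc]

theorem preservesCokernel {X Y : C} (f : X ⟶ Y) : PreservesColimit (parallelPair f 0) L := by
  have := Localization.essSurj L W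
  have : Epi (L.map (cokernel.π f)) := epi_map W L _
  suffices ∀ (Z : D) (z : L.obj Y ⟶ Z), L.map f ≫ z = 0 →
      ∃ l : L.obj (cokernel f) ⟶ Z, L.map (cokernel.π f) ≫ l = z from
    preservesColimit_of_preserves_colimit_cocone (cokernelIsCokernel f)
      ((CokernelCofork.isColimitMapCoconeEquiv _ L).2 (Cofork.IsColimit.ofExistsUnique fun s =>
        existsUnique_of_exists_of_unique (this _ _ (CokernelCofork.condition s)) fun _ _ h₁ h₂ =>
          (cancel_epi (L.map (cokernel.π f))).1 (h₁.trans h₂.symm)))
  intro Z z hz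
  obtain ⟨φ, hφ⟩ := Localization.exists_leftFraction L W (z ≫ (L.objObjPreimageIso Z).inv)
  have h1 : L.map (f ≫ φ.f) = L.map 0 := by
    rw [L.map_comp, L.map_zero, ← φ.map_comp_map_s L (Localization.inverts L W), ← hφ,
      ← Category.assoc, ← Category.assoc, hz, zero_comp, zero_comp]
  obtain ⟨T, t, ht, e⟩ := (MorphismProperty.map_eq_iff_postcomp L W _ _).1 h1
  have := Localization.inverts L W t ht
  have := Localization.inverts L W φ.s φ.hs
  refine ⟨L.map (cokernel.desc f (φ.f ≫ t) (by rw [← Category.assoc, e, zero_comp])) ≫ inv (L.map t) ≫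
    inv (L.map φ.s) ≫ (L.objObjPreimageIso Z).hom, ?_⟩
  rw [← cancel_mono (L.objObjPreimageIso Z).inv, hφ, ← cancel_mono (L.map φ.s), φ.map_comp_map_s L,
    ← Category.assoc (L.map (cokernel.π f)), ← L.map_comp]
  simp

theorem isIso_coimage_π {X Y : C} (f : X ⟶ Y) [Mono (L.map f)] : IsIso (L.map (Abelian.coimage.π f)) := by
  have hz : L.map (kernel.ι f) = 0 := by
    rw [← cancel_mono (L.map f), zero_comp, ← L.map_comp, kernel.condition, L.map_zero]
  have := preservesCokernel W L (kernel.ι f)
  have h := (CokernelCofork.isColimitMapCoconeEquiv _ L).1 (isColimitOfPreserves L (cokernelIsCokernel (kernel.ι f)))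
  exact CokernelCofork.IsColimit.isIso_π _ h hz

theorem isIso_image_ι {X Y : C} (f : X ⟶ Y) [Epi (L.map f)] : IsIso (L.map (Abelian.image.ι f)) := by
  have hz : L.map (cokernel.π f) = 0 := by
    rw [← cancel_epi (L.map f), comp_zero, ← L.map_comp, cokernel.condition, L.map_zero]
  have := preservesKernel W L (cokernel.π f)
  have h := (KernelFork.isLimitMapConeEquiv _ L).1 (isLimitOfPreserves L (kernelIsKernel (cokernel.π f)))
  exact KernelFork.IsLimit.isIso_ι _ h hz

include L in
theorem hasKernels : HasKernels D where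
  has_limit f := by
    obtain ⟨g, ⟨e⟩⟩ := (Localization.essSurj_mapArrow L W).mem_essImage (Arrow.mk f)
    have := preservesKernel W L g.hom
    have : HasLimit (parallelPair (L.map g.hom) 0) :=
      ⟨_, (KernelFork.isLimitMapConeEquiv _ L).1 (isLimitOfPreserves L (kernelIsKernel g.hom))⟩
    exact hasLimit_of_iso (show parallelPair (L.map g.hom) 0 ≅ _ from
      parallelPair.ext (Arrow.leftFunc.mapIso e) (Arrow.rightFunc.mapIso e) (Arrow.w e.hom).symm (zero_comp.trans comp_zero.symm))

include L in
theorem hasCokernels : HasCokernels D where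
  has_colimit f := by
    obtain ⟨g, ⟨e⟩⟩ := (Localization.essSurj_mapArrow L W).mem_essImage (Arrow.mk f)
    have := preservesCokernel W L g.hom
    have : HasColimit (parallelPair (L.map g.hom) 0) :=
      ⟨_, (CokernelCofork.isColimitMapCoconeEquiv _ L).1 (isColimitOfPreserves L (cokernelIsCokernel g.hom))⟩
    exact hasColimit_of_iso (show _ ≅ parallelPair (L.map g.hom) 0 from
      parallelPair.ext (Arrow.leftFunc.mapIso e.symm) (Arrow.rightFunc.mapIso e.symm) (Arrow.w e.inv).symm (zero_comp.trans comp_zero.symm))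

set_option backward.isDefEq.respectTransparency false in
include L in
theorem isNormalMonoCategory : IsNormalMonoCategory D where
  normalMonoOfMono f hf := by
    obtain ⟨g, ⟨e⟩⟩ := (Localization.essSurj_mapArrow L W).mem_essImage (Arrow.mk f)
    have : Mono (L.map g.hom) :=
      ((MorphismProperty.monomorphisms D).arrow_mk_iso_iff (show Arrow.mk (L.map g.hom) ≅ Arrow.mk f from e)).2 hf
    have := isIso_coimage_π W L g.hom
    let hf' := normalMonoOfMono (Abelian.factorThruCoimage g.hom)
    have := preservesKernel W L hf'.g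
    have e' : Arrow.mk (L.map (Abelian.factorThruCoimage g.hom)) ≅ Arrow.mk f :=
      (Arrow.isoMk (asIso (L.map (Abelian.coimage.π g.hom))) (Iso.refl _) (by simp [← L.map_comp]) :
        Arrow.mk (L.map g.hom) ≅ Arrow.mk (L.map (Abelian.factorThruCoimage g.hom))).symm ≪≫
        (show Arrow.mk (L.map g.hom) ≅ Arrow.mk f from e)
    refine ⟨NormalMono.ofArrowIso ?_ e'⟩
    exact {
      Z := L.obj hf'.Z
      g := L.map hf'.g
      w := by rw [← L.map_comp]; simp [hf'.w]
      isLimit := (KernelFork.isLimitMapConeEquiv _ L).1 (isLimitOfPreserves L hf'.isLimit) }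

set_option backward.isDefEq.respectTransparency false in
include L in
theorem isNormalEpiCategory : IsNormalEpiCategory D where
  normalEpiOfEpi f hf := by
    obtain ⟨g, ⟨e⟩⟩ := (Localization.essSurj_mapArrow L W).mem_essImage (Arrow.mk f)
    have : Epi (L.map g.hom) :=
      ((MorphismProperty.epimorphisms D).arrow_mk_iso_iff (show Arrow.mk (L.map g.hom) ≅ Arrow.mk f from e)).2 hf
    have := isIso_image_ι W L g.hom
    let hf' := normalEpiOfEpi (Abelian.factorThruImage g.hom)
    have := preservesCokernel W L hf'.g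
    have e' : Arrow.mk (L.map (Abelian.factorThruImage g.hom)) ≅ Arrow.mk f :=
      (Arrow.isoMk (Iso.refl _) (asIso (L.map (Abelian.image.ι g.hom))) (by simp [← L.map_comp]) :
        Arrow.mk (L.map (Abelian.factorThruImage g.hom)) ≅ Arrow.mk (L.map g.hom)) ≪≫
        (show Arrow.mk (L.map g.hom) ≅ Arrow.mk f from e)
    refine ⟨NormalEpi.ofArrowIso ?_ e'⟩
    exact {
      W := L.obj hf'.W
      g := L.map hf'.g
      w := by rw [← L.map_comp]; simp [hf'.w]
      isColimit := (CokernelCofork.isColimitMapCoconeEquiv _ L).1 (isColimitOfPreserves L hf'.isColimit) }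

/-- The localization is abelian and the localization functor exact. -/
theorem main : Nonempty (Abelian D) ∧ PreservesFiniteLimits L ∧ PreservesFiniteColimits L := by
  have := Localization.essSurj L W
  have := L.hasFiniteProducts_of_additive_of_essSurj
  have := hasKernels W L
  have := hasCokernels W L
  have := isNormalMonoCategory W L
  have := isNormalEpiCategory W L
  let a : Abelian D := { }
  refine ⟨⟨a⟩, ?_, ?_⟩
  · rw [((Functor.preservesFiniteLimits_tfae L).out 3 2 :)]
    intro _ _ f
    exact preservesKernel W L f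
  · rw [((Functor.preservesFiniteColimits_tfae L).out 3 2 :)]
    intro _ _ f
    exact preservesCokernel W L f

end Groth.L00.LocAbelian
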