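import Mathlib.AlgebraicGeometry.Morphisms.Affine
import Mathlib.AlgebraicGeometry.Morphisms.QuasiCompact
import Mathlib.RingTheory.RingHom.EssFiniteType

/-! Morphisms locally essentially of finite type. -/

set_option autoImplicit false
set_option backward.isDefEq.respectTransparency.types false

universe u

open CategoryTheory CategoryTheory.Limits AlgebraicGeometry Opposite TopologicalSpace

namespace Groth.L00.LocEssFT

/-- `f` has a chart essentially of finite type at every point. -/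
def Loc {X Y : Scheme.{u}} (f : X ⟶ Y) : Prop :=
  ∀ x : X, ∃ (U : Y.affineOpens) (V : X.affineOpens) (e : (V : X.Opens) ≤ f ⁻¹ᵁ (U : Y.Opens)),
    x ∈ (V : X.Opens) ∧ (f.appLE U V e).hom.EssFiniteType

/-- Every preimage of an affine open is covered by charts essentially of finite type. -/
def All {X Y : Scheme.{u}} (f : X ⟶ Y) : Prop :=
  ∀ U : Y.affineOpens, ∃ T : Set X.affineOpens,
    (⋃ V ∈ T, ((V : X.Opens) : Set ↥X)) = ((f ⁻¹ᵁ (U : Y.Opens)) : Set ↥X) ∧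
      ∀ V ∈ T, ∃ e : (V : X.Opens) ≤ f ⁻¹ᵁ (U : Y.Opens),
        (f.appLE (U : Y.Opens) (V : X.Opens) e).hom.EssFiniteType

theorem res {X : Scheme.{u}} {U : X.Opens} (hU : IsAffineOpen U) (h : Γ(X, U)) :
    (X.presheaf.map (homOfLE (X.basicOpen_le h)).op).hom.EssFiniteType := by
  haveI := hU.isLocalization_basicOpen h
  have := Algebra.EssFiniteType.of_isLocalization Γ(X, X.basicOpen h) (Submonoid.powers h)
  exact this

variable {X Y : Scheme.{u}} (f : X ⟶ Y)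

theorem exists_chart (hf : Loc f) (U : Y.affineOpens) (x : X) (hx : f x ∈ (U : Y.Opens)) :
    ∃ (V : X.affineOpens) (e : (V : X.Opens) ≤ f ⁻¹ᵁ (U : Y.Opens)),
      x ∈ (V : X.Opens) ∧ (f.appLE U V e).hom.EssFiniteType := by
  obtain ⟨U₀, V₀, e₀, hx₀, h₀⟩ := hf x
  obtain ⟨g, g₀, hgg, hgx⟩ := exists_basicOpen_le_affine_inter U.2 U₀.2 (f x) ⟨hx, e₀ hx₀⟩
  obtain ⟨t, ht, htx⟩ := V₀.2.exists_basicOpen_le (V := f ⁻¹ᵁ Y.basicOpen g) ⟨x, hgx⟩ hx₀
  have e₁ : X.basicOpen t ≤ f ⁻¹ᵁ Y.basicOpen g₀ := hgg ▸ ht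
  refine ⟨⟨X.basicOpen t, V₀.2.basicOpen t⟩, ht.trans ((Opens.map f.base).map (homOfLE (Y.basicOpen_le g))).le, htx, ?_⟩
  have h1 : (f.appLE U₀ (X.basicOpen t) ((X.basicOpen_le t).trans e₀)).hom.EssFiniteType := by
    rw [← Scheme.Hom.appLE_map f e₀ (homOfLE (X.basicOpen_le t)).op, CommRingCat.hom_comp]
    exact h₀.comp (res V₀.2 t)
  rw [← Scheme.Hom.map_appLE f e₁ (homOfLE (Y.basicOpen_le g₀)).op, CommRingCat.hom_comp] at h1
  have h2 : (f.appLE (Y.basicOpen g) (X.basicOpen t) ht).hom.EssFiniteType := by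
    have h3 := RingHom.EssFiniteType.of_comp _ h1
    rw [← Scheme.Hom.map_appLE f e₁ (homOfLE hgg.ge).op, CommRingCat.hom_comp]
    haveI : IsIso (homOfLE hgg.ge) := (inferInstance : IsIso (eqToHom hgg.symm))
    exact RingHom.EssFiniteType.comp ((RingHom.FiniteType.of_surjective _
      (ConcreteCategory.bijective_of_isIso (Y.presheaf.map (homOfLE hgg.ge).op)).surjective).essFiniteType) h3
  rw [← Scheme.Hom.map_appLE f ht (homOfLE (Y.basicOpen_le g)).op, CommRingCat.hom_comp]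
  exact (res U.2 g).comp h2

theorem all_iff : All f ↔ Loc f := by
  constructor
  · intro h x
    obtain ⟨_, ⟨(U : Y.Opens), hU, rfl⟩, hxU, -⟩ :=
      Y.isBasis_affineOpens.exists_subset_of_mem_open (Set.mem_univ (f x)) isOpen_univ
    obtain ⟨T, hT, hV⟩ := h ⟨U, hU⟩
    obtain ⟨V, hVT, hxV⟩ := Set.mem_iUnion₂.1 (hT.ge (show x ∈ f ⁻¹ᵁ U from hxU))
    obtain ⟨e, he⟩ := hV V hVT
    exact ⟨⟨U, hU⟩, V, e, hxV, he⟩
  · intro h U
    refine ⟨{V | ∃ e : (V : X.Opens) ≤ f ⁻¹ᵁ (U : Y.Opens), (f.appLE U V e).hom.EssFiniteType}, ?_, fun V hV => hV⟩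
    refine Set.Subset.antisymm (Set.iUnion₂_subset fun V hV => hV.1) fun x hx => ?_
    obtain ⟨V, e, hxV, he⟩ := exists_chart f h U x hx
    exact Set.mem_iUnion₂.2 ⟨V, ⟨e, he⟩, hxV⟩

theorem loc_of_cover (h : ∃ S : Set Y.affineOpens, (⋃ U ∈ S, ((U : Y.Opens) : Set ↥Y)) = Set.univ ∧
    ∀ U ∈ S, ∃ T : Set X.affineOpens, (⋃ V ∈ T, ((V : X.Opens) : Set ↥X)) = ((f ⁻¹ᵁ (U : Y.Opens)) : Set ↥X) ∧
      ∀ V ∈ T, ∃ e : (V : X.Opens) ≤ f ⁻¹ᵁ (U : Y.Opens), (f.appLE (U : Y.Opens) (V : X.Opens) e).hom.EssFiniteType) :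
    Loc f := by
  intro x
  obtain ⟨S, hS, hST⟩ := h
  obtain ⟨U, hUS, hxU⟩ := Set.mem_iUnion₂.1 (hS.ge (Set.mem_univ (f x)))
  obtain ⟨T, hT, hV⟩ := hST U hUS
  obtain ⟨V, hVT, hxV⟩ := Set.mem_iUnion₂.1 (hT.ge (show x ∈ f ⁻¹ᵁ (U : Y.Opens) from hxU))
  obtain ⟨e, he⟩ := hV V hVT
  exact ⟨U, V, e, hxV, he⟩

theorem cover_of_all (h : All f) : ∃ S : Set Y.affineOpens, (⋃ U ∈ S, ((U : Y.Opens) : Set ↥Y)) = Set.univ ∧
    ∀ U ∈ S, ∃ T : Set X.affineOpens, (⋃ V ∈ T, ((V : X.Opens) : Set ↥X)) = ((f ⁻¹ᵁ (U : Y.Opens)) : Set ↥X) ∧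
      ∀ V ∈ T, ∃ e : (V : X.Opens) ≤ f ⁻¹ᵁ (U : Y.Opens), (f.appLE (U : Y.Opens) (V : X.Opens) e).hom.EssFiniteType := by
  refine ⟨Set.univ, Set.eq_univ_of_forall fun y => ?_, fun U _ => h U⟩
  obtain ⟨_, ⟨(U : Y.Opens), hU, rfl⟩, hyU, -⟩ :=
    Y.isBasis_affineOpens.exists_subset_of_mem_open (Set.mem_univ y) isOpen_univ
  exact Set.mem_iUnion₂.2 ⟨⟨U, hU⟩, trivial, hyU⟩

theorem loc_comp {Z : Scheme.{u}} (g : Y ⟶ Z) (hf : Loc f) (hg : Loc g) : Loc (f ≫ g) := by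
  intro x
  obtain ⟨U, V, e, hV, he⟩ := hg (f x)
  obtain ⟨W, e', hW, he'⟩ := exists_chart f hf V x hV
  refine ⟨U, W, fun z hz => e (e' hz), hW, ?_⟩
  rw [← Scheme.Hom.appLE_comp_appLE f g (U : Z.Opens) (V : Y.Opens) (W : X.Opens) e e', CommRingCat.hom_comp]
  exact he.comp he'

theorem loc_baseChange {Y' : Scheme.{u}} (g : Y' ⟶ Y) (hf : Loc f) : Loc (pullback.snd f g) := by
  intro z
  obtain ⟨U₀, V, e, hV, he⟩ := hf (pullback.fst f g z)
  have hz : g (pullback.snd f g z) ∈ (U₀ : Y.Opens) := by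
    rw [← Scheme.Hom.comp_apply, ← pullback.condition, Scheme.Hom.comp_apply]
    exact e hV
  obtain ⟨_, ⟨(U : Y'.Opens), hU, rfl⟩, hzU, hUle⟩ := Y'.isBasis_affineOpens.exists_subset_of_mem_open
    (show pullback.snd f g z ∈ g ⁻¹ᵁ (U₀ : Y.Opens) from hz) (g ⁻¹ᵁ (U₀ : Y.Opens)).2
  let W : (pullback f g).Opens := pullback.fst f g ⁻¹ᵁ (V : X.Opens) ⊓ pullback.snd f g ⁻¹ᵁ U
  let a := (pullback.fst f g).resLE (V : X.Opens) W inf_le_left
  let b := (pullback.snd f g).resLE U W inf_le_right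
  let c := f.resLE (U₀ : Y.Opens) V e
  let d := g.resLE (U₀ : Y.Opens) U hUle
  have w : a ≫ c = b ≫ d := by
    rw [← cancel_mono (U₀ : Y.Opens).ι]
    simp [a, b, c, d, pullback.condition]
  haveI : IsAffine (V : X.Opens).toScheme := V.2
  haveI : IsAffine U.toScheme := hU
  haveI : IsAffine (U₀ : Y.Opens).toScheme := U₀.2
  have sq : IsPullback a b c d := by
    refine ⟨⟨w⟩, ⟨PullbackCone.IsLimit.mk w (fun s => IsOpenImmersion.lift W.ι
      (pullback.lift (s.fst ≫ (V : X.Opens).ι) (s.snd ≫ U.ι) (by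
        have := congrArg (· ≫ (U₀ : Y.Opens).ι) s.condition
        simpa [c, d] using this)) ?_) ?_ ?_ ?_⟩⟩
    · rintro _ ⟨q, rfl⟩
      simp only [Scheme.Opens.range_ι, W, Opens.coe_inf, Set.mem_inter_iff, SetLike.mem_coe,
        Scheme.Hom.mem_preimage, ← Scheme.Hom.comp_apply, pullback.lift_fst, pullback.lift_snd]
      exact ⟨(s.fst q).2, (s.snd q).2⟩
    · intro s
      rw [← cancel_mono (V : X.Opens).ι]
      simp [a, IsOpenImmersion.lift_fac_assoc]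
      exact pullback.lift_fst _ _ _
    · intro s
      rw [← cancel_mono U.ι]
      simp [b, IsOpenImmersion.lift_fac_assoc]
      exact pullback.lift_snd _ _ _
    · intro s m h1 h2
      rw [← cancel_mono W.ι, IsOpenImmersion.lift_fac]
      apply pullback.hom_ext
      · rw [pullback.lift_fst, ← h1]; simp [a]
      · rw [pullback.lift_snd, ← h2]; simp [b]
  haveI : IsAffine W.toScheme := .of_isPullback sq
  have hpo := isPushout_appTop_of_isPullback sq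
  haveI := RingHom.EssFiniteType.respectsIso
  have hc : RingHom.toMorphismProperty RingHom.EssFiniteType c.appTop := by
    haveI := RingHom.toMorphismProperty_respectsIso_iff.1 RingHom.EssFiniteType.respectsIso
    exact ((RingHom.toMorphismProperty RingHom.EssFiniteType).arrow_mk_iso_iff
      (arrowResLEAppIso f _ _ e)).2 he
  have hb : RingHom.toMorphismProperty RingHom.EssFiniteType b.appTop := by
    haveI := (RingHom.isStableUnderCobaseChange_toMorphismProperty_iff (P := fun f => RingHom.EssFiniteType f)).2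
      RingHom.EssFiniteType.isStableUnderBaseChange
    exact MorphismProperty.of_isPushout (P := RingHom.toMorphismProperty RingHom.EssFiniteType) hpo.flip hc
  refine ⟨⟨U, hU⟩, ⟨W, ‹IsAffine W.toScheme›⟩, inf_le_right, ⟨hV, hzU⟩, ?_⟩
  haveI := RingHom.toMorphismProperty_respectsIso_iff.1 RingHom.EssFiniteType.respectsIso
  exact ((RingHom.toMorphismProperty RingHom.EssFiniteType).arrow_mk_iso_iff
    (arrowResLEAppIso (pullback.snd f g) _ _ inf_le_right)).1 hb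

end Groth.L00.LocEssFT
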