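import Groth.Agent.L00.KFlatDerived
import Groth.Agent.L10.DerivedAdj
import Groth.Agent.L29.DCoh.QRlim
import Groth.Agent.L17.PushQCoh

/-!
`Lf^* ⊣ Rf_*` for every morphism of schemes.
-/

set_option autoImplicit false
set_option linter.style.haveILetI false
set_option backward.defeqAttrib.useBackward true
set_option backward.isDefEq.respectTransparency false
set_option backward.isDefEq.respectTransparency.types false

universe u

open CategoryTheory CategoryTheory.Limits AlgebraicGeometry

attribute [local instance] HasDerivedCategory.standard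

namespace Groth.L00.LpullAdj

section General

variable {C K D H : Type*} [Category C] [Category K] [Category D] [Category H]
  (q : C ⥤ K) [q.Full] (ob : K → C) (hob : ∀ Y, q.obj (ob Y) = Y)
  (W : MorphismProperty C) (W' : MorphismProperty K) (L : K ⥤ D) [L.IsLocalization W']
  [(q ⋙ L).IsLocalization W] (F : K ⥤ H) (R : C ⥤ C) (r : R ⟶ 𝟭 C)

include hob in
/-- a candidate which is exact on resolved objects is the left derived functor -/
theorem isLeftDerivedFunctor_of_isIso (hr : ∀ X, W (r.app X)) (hF : W.IsInvertedBy (R ⋙ q ⋙ F))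
    (hrr : ∀ X, IsIso ((q ⋙ F).map (r.app (R.obj X)))) (G : D ⥤ H) (a : L ⋙ G ⟶ F)
    (ha : ∀ X, IsIso (a.app (q.obj (R.obj X)))) :
    G.IsLeftDerivedFunctor a W' := by
  let a' : (q ⋙ L) ⋙ G ⟶ q ⋙ F := { app := fun X => a.app (q.obj X), naturality := fun _ _ f => a.naturality (q.map f) }
  let T := LeftDeriv.LF (q ⋙ F) W (q ⋙ L) R hF
  let α := LeftDeriv.α (q ⋙ F) W (q ⋙ L) R r hF
  haveI : T.IsRightKanExtension α := LeftDeriv.isRightKanExtension (q ⋙ F) W (q ⋙ L) R r hr hF hrr
  let m : G ⟶ T := T.liftOfIsRightKanExtension α G a'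
  have hm : ∀ X, m.app ((q ⋙ L).obj X) ≫ α.app X = a'.app X := fun X =>
    T.liftOfIsRightKanExtension_fac_app α G a' X
  haveI : IsIso m := by
    haveI := Localization.essSurj (q ⋙ L) W
    refine @NatIso.isIso_of_isIso_app _ _ _ _ _ _ m fun Z => ?_
    refine (NatTrans.isIso_app_iff_of_iso m ((q ⋙ L).objObjPreimageIso Z).symm).2 ?_
    refine (NatTrans.isIso_app_iff_of_iso m
      (@asIso _ _ _ _ ((q ⋙ L).map (r.app ((q ⋙ L).objPreimage Z)))
        (Localization.inverts (q ⋙ L) W _ (hr _))).symm).2 ?_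
    haveI : IsIso (α.app (R.obj ((q ⋙ L).objPreimage Z))) := LeftDeriv.isIso_α_app (q ⋙ F) W (q ⋙ L) R r hF hrr _
    haveI : IsIso (a'.app (R.obj ((q ⋙ L).objPreimage Z))) := ha _
    exact IsIso.of_isIso_fac_right (hm (R.obj ((q ⋙ L).objPreimage Z)))
  haveI : G.IsRightKanExtension a' :=
    (Functor.isRightKanExtension_iff_of_iso (asIso m).symm α a' (by
      ext X
      change (inv m).app _ ≫ a'.app X = α.app X
      rw [← hm X, ← NatTrans.comp_app_assoc, IsIso.inv_hom_id, NatTrans.id_app, Category.id_comp])).1 inferInstance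
  have h := LeftDeriv.isRightKanExtension_descend q ob hob L F G a'
  have e : LeftDeriv.descend q ob hob L F G a' = a := by
    ext Y
    obtain ⟨X, rfl⟩ : ∃ X, q.obj X = Y := ⟨ob Y, hob Y⟩
    exact LeftDeriv.descendApp_obj q ob hob L F G a' X
  rw [e] at h
  exact ⟨h⟩

end General

variable {X Y : Scheme.{u}} (f : X ⟶ Y)

local notation "qY" => HomotopyCategory.quotient Y.Modules (ComplexShape.up ℤ)

theorem isIso_pull_map {P Q : CochainComplex Y.Modules ℤ} (α : P ⟶ Q) [QuasiIso α]
    (hP : DCoh.IsKFlat P) (hQ : DCoh.IsKFlat Q) : IsIso ((qY ⋙ DCoh.pullKh f).map α) := by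
  haveI := KFlat.quasiIso_pullback f α hP hQ
  have h : (HomotopyCategory.quasiIso X.Modules (ComplexShape.up ℤ))
      ((HomotopyCategory.quotient X.Modules (ComplexShape.up ℤ)).map
        (((Scheme.Modules.pullback f).mapHomologicalComplex (ComplexShape.up ℤ)).map α)) :=
    (HomotopyCategory.quotient_map_mem_quasiIso_iff _).2 ((HomologicalComplex.mem_quasiIso_iff _).2 inferInstance)
  exact Localization.inverts DerivedCategory.Qh (HomotopyCategory.quasiIso X.Modules (ComplexShape.up ℤ)) _ h

theorem inverted : (HomologicalComplex.quasiIso Y.Modules (ComplexShape.up ℤ)).IsInvertedBy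
    (KFlat.RF Y ⋙ qY ⋙ DCoh.pullKh f) := fun P Q α hα => by
  haveI := (HomologicalComplex.mem_quasiIso_iff α).1 hα
  haveI := KFlat.quasiIso_RF_map α
  exact isIso_pull_map f _ (KFlat.isKFlat_RF P) (KFlat.isKFlat_RF Q)

theorem isIso_rr (G : CochainComplex Y.Modules ℤ) :
    IsIso ((qY ⋙ DCoh.pullKh f).map ((KFlat.rF Y).app ((KFlat.RF Y).obj G))) := by
  haveI := KFlat.quasiIso_rF (Y := Y) ((KFlat.RF Y).obj G)
  exact isIso_pull_map f _ (KFlat.isKFlat_RF _) (KFlat.isKFlat_RF _)

/-- The counit of `Lf^*` is invertible on the K-flat resolutions. -/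
theorem isIso_counit_app [DCoh.HasLpull f] (G : CochainComplex Y.Modules ℤ) :
    IsIso (((DCoh.pullKh f).totalLeftDerivedCounit DerivedCategory.Qh
      (HomotopyCategory.quasiIso Y.Modules (ComplexShape.up ℤ))).app ((qY).obj ((KFlat.RF Y).obj G))) := by
  haveI : (qY ⋙ DerivedCategory.Qh).IsLocalization (HomologicalComplex.quasiIso Y.Modules (ComplexShape.up ℤ)) :=
    Functor.IsLocalization.of_iso _ (DerivedCategory.quotientCompQhIso Y.Modules).symm
  haveI := LeftDeriv.isRightKanExtension (qY ⋙ DCoh.pullKh f) (HomologicalComplex.quasiIso Y.Modules (ComplexShape.up ℤ))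
    (qY ⋙ DerivedCategory.Qh) (KFlat.RF Y) (KFlat.rF Y)
    (fun G => (HomologicalComplex.mem_quasiIso_iff _).2 (KFlat.quasiIso_rF G)) (inverted f) (isIso_rr f)
  exact LeftDeriv.isIso_totalCounit_of_quotient qY (fun Z => Z.as) (fun _ => rfl)
    (HomotopyCategory.quasiIso Y.Modules (ComplexShape.up ℤ)) DerivedCategory.Qh (DCoh.pullKh f) _
    (LeftDeriv.α (qY ⋙ DCoh.pullKh f) (HomologicalComplex.quasiIso Y.Modules (ComplexShape.up ℤ))
      (qY ⋙ DerivedCategory.Qh) (KFlat.RF Y) (KFlat.rF Y) (inverted f)) _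
    (LeftDeriv.isIso_α_app _ _ _ _ _ _ (isIso_rr f) G)

variable [DCoh.HasLpull f] [DCoh.HasRpush f]

/-- `Lf^* ⊣ Rf_*`. -/
noncomputable def adj : DCoh.Lpull f ⊣ DCoh.Rpush f :=
  haveI := L29.DC.QRlim.enoughKInj X
  haveI := L17.PushQCoh.additive_push f
  haveI : (DCoh.Lpull f ⋙ DCoh.Rpush f).IsLeftDerivedFunctor
      ((Functor.associator _ _ _).inv ≫ Functor.whiskerRight ((DCoh.pullKh f).totalLeftDerivedCounit
        DerivedCategory.Qh (HomotopyCategory.quasiIso Y.Modules (ComplexShape.up ℤ))) (DCoh.Rpush f))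
      (HomotopyCategory.quasiIso Y.Modules (ComplexShape.up ℤ)) :=
    haveI : (qY ⋙ DerivedCategory.Qh).IsLocalization (HomologicalComplex.quasiIso Y.Modules (ComplexShape.up ℤ)) :=
      Functor.IsLocalization.of_iso _ (DerivedCategory.quotientCompQhIso Y.Modules).symm
    isLeftDerivedFunctor_of_isIso qY (fun Z => Z.as) (fun _ => rfl)
      (HomologicalComplex.quasiIso Y.Modules (ComplexShape.up ℤ))
      (HomotopyCategory.quasiIso Y.Modules (ComplexShape.up ℤ)) DerivedCategory.Qh (DCoh.pullKh f ⋙ DCoh.Rpush f)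
      (KFlat.RF Y) (KFlat.rF Y) (fun G => (HomologicalComplex.mem_quasiIso_iff _).2 (KFlat.quasiIso_rF G))
      (fun P Q α hα => by
        haveI := inverted f α hα
        exact Functor.map_isIso (DCoh.Rpush f) ((KFlat.RF Y ⋙ qY ⋙ DCoh.pullKh f).map α))
      (fun G => by
        haveI := isIso_rr f G
        exact Functor.map_isIso (DCoh.Rpush f) ((qY ⋙ DCoh.pullKh f).map ((KFlat.rF Y).app ((KFlat.RF Y).obj G))))
      _ _ (fun G => by
        haveI := isIso_counit_app f G
        simp only [NatTrans.comp_app, Functor.whiskerRight_app, Functor.associator_inv_app, Category.id_comp]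
        infer_instance)
  haveI : (DCoh.Rpush f ⋙ DCoh.Lpull f).IsRightDerivedFunctor
      (Functor.whiskerRight ((DCoh.pushKh f).totalRightDerivedUnit DerivedCategory.Qh
        (HomotopyCategory.quasiIso X.Modules (ComplexShape.up ℤ))) (DCoh.Lpull f) ≫ (Functor.associator _ _ _).hom)
      (HomotopyCategory.quasiIso X.Modules (ComplexShape.up ℤ)) :=
    L10.KInjDerived.isRightDerivedFunctor_of_isIso _ fun I hI => by
      haveI := L10.KInjDerived.isIso_app_quotient ((DCoh.pushKh f).totalRightDerivedUnit DerivedCategory.Qh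
        (HomotopyCategory.quasiIso X.Modules (ComplexShape.up ℤ))) I
      simp only [NatTrans.comp_app, Functor.whiskerRight_app, Functor.associator_hom_app, Category.comp_id]
      infer_instance
  (L10.DerivedAdj.homotopyAdj (Scheme.Modules.pullbackPushforwardAdjunction f)).derived
    (HomotopyCategory.quasiIso Y.Modules (ComplexShape.up ℤ)) (HomotopyCategory.quasiIso X.Modules (ComplexShape.up ℤ))
    ((DCoh.pullKh f).totalLeftDerivedCounit DerivedCategory.Qh (HomotopyCategory.quasiIso Y.Modules (ComplexShape.up ℤ)))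
    ((DCoh.pushKh f).totalRightDerivedUnit DerivedCategory.Qh (HomotopyCategory.quasiIso X.Modules (ComplexShape.up ℤ)))

end Groth.L00.LpullAdj
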