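import Groth.Agent.L01.NagataFiniteType
import Mathlib.AlgebraicGeometry.Normalization
import Mathlib.AlgebraicGeometry.Morphisms.Finite
import Mathlib.AlgebraicGeometry.Morphisms.FiniteType
import Mathlib.AlgebraicGeometry.Noetherian
import Mathlib.AlgebraicGeometry.ResidueField
import Mathlib.RingTheory.EssentialFiniteness
import Mathlib.RingTheory.Localization.FractionRing

/-!
The relative normalization over a Nagata base is finite.
-/

set_option autoImplicit false
set_option linter.style.haveILetI false

universe u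

open CategoryTheory AlgebraicGeometry TopologicalSpace Opposite

noncomputable section

namespace Groth.L00.NagataNorm

/-- Integral closure of a Nagata ring in an essentially finitely generated field. -/
theorem finite_integralClosure_field {A : Type u} [CommRing A] (hA : CAlg.IsNagata A) (κ : Type u) [Field κ]
    [Algebra A κ] [Algebra.EssFiniteType A κ] : Module.Finite A (integralClosure A κ) := by
  haveI := hA.1
  obtain ⟨σ, hσ⟩ := (Algebra.essFiniteType_iff A κ).1 inferInstance
  let T₀ := Algebra.adjoin A (σ : Set κ)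
  haveI : Algebra.FiniteType A T₀ := ⟨(Subalgebra.fg_top _).2 ⟨σ, rfl⟩⟩
  have hT₀ : CAlg.IsNagata T₀ := Groth.L01.Nagata.isNagata_of_finiteType hA
  haveI : IsNoetherianRing T₀ := hT₀.1
  haveI : FaithfulSMul T₀ κ := (faithfulSMul_iff_algebraMap_injective T₀ κ).2 Subtype.val_injective
  haveI : IsFractionRing T₀ κ := IsFractionRing.of_field T₀ κ fun z => by
    obtain ⟨t, ht, hu, hzt⟩ := hσ z
    exact ⟨⟨z * t, hzt⟩, ⟨t, ht⟩, by simp [hu.ne_zero]⟩
  have h1 : Module.Finite T₀ (integralClosure T₀ (FractionRing T₀)) :=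
    Groth.L01.Nagata.isN2_of_isNagata hT₀ (FractionRing T₀) inferInstance
  have h2 : Module.Finite T₀ (integralClosure T₀ κ) :=
    Groth.L01.N2.finite_integralClosure_of_algHom (FractionRing.algEquiv T₀ κ).symm.toAlgHom
      (FractionRing.algEquiv T₀ κ).symm.injective h1
  let T := integralClosure T₀ κ
  haveI : Module.Finite T₀ T := h2
  haveI : Algebra.FiniteType A T := Algebra.FiniteType.trans (S := T₀) inferInstance inferInstance
  have h3 : Module.Finite A (integralClosure A T) := Groth.L01.Nagata.finite_integralClosure_of_isNagata hA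
  let e : integralClosure A T →ₗ[A] integralClosure A κ :=
    { toFun := fun z => ⟨(z : T), z.2.map ((integralClosure T₀ κ).val.restrictScalars A)⟩
      map_add' := fun _ _ => rfl
      map_smul' := fun _ _ => rfl }
  refine Module.Finite.of_surjective e fun z => ?_
  let w : T := ⟨z, z.2.tower_top⟩
  refine ⟨⟨w, ?_⟩, rfl⟩
  exact (isIntegral_algHom_iff ((integralClosure T₀ κ).val.restrictScalars A) Subtype.val_injective).1 z.2

/-- Integral closure of a Nagata ring in a ring embedded into finitely many such fields. -/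
theorem finite_integralClosure_of_fields {A B : Type u} [CommRing A] (hA : CAlg.IsNagata A) [CommRing B]
    [Algebra A B] {ι : Type u} [Finite ι] (κ : ι → Type u) [∀ i, Field (κ i)] (φ : ∀ i, B →+* κ i)
    (hφ : ∀ i, ((φ i).comp (algebraMap A B)).EssFiniteType) (hinj : ∀ b, (∀ i, φ i b = 0) → b = 0) :
    Module.Finite A (integralClosure A B) := by
  haveI := hA.1
  letI : ∀ i, Algebra A (κ i) := fun i => ((φ i).comp (algebraMap A B)).toAlgebra
  haveI : ∀ i, Module.Finite A (integralClosure A (κ i)) := fun i =>
    haveI : Algebra.EssFiniteType A (κ i) := hφ i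
    finite_integralClosure_field hA (κ i)
  let ψ : ∀ i, B →ₐ[A] κ i := fun i => { φ i with commutes' := fun _ => rfl }
  let F : integralClosure A B →ₗ[A] ∀ i, integralClosure A (κ i) :=
    { toFun := fun z i => ⟨ψ i z, z.2.map (ψ i)⟩
      map_add' := fun a b => funext fun i => Subtype.ext (map_add (ψ i) _ _)
      map_smul' := fun c a => funext fun i => Subtype.ext (map_smul (ψ i) c (a : B)) }
  exact Module.Finite.of_injective F ((injective_iff_map_eq_zero F).2 fun z hz =>
    Subtype.ext (hinj z fun i => congrArg Subtype.val (congrFun hz i)))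

variable {X S : Scheme.{u}}

theorem essFiniteType_evaluation {U : S.Opens} (hU : IsAffineOpen U) (y : S) (hy : y ∈ U) :
    (S.evaluation U y hy).hom.EssFiniteType := by
  letI := S.presheaf.algebra_section_stalk ⟨y, hy⟩
  haveI := hU.isLocalization_stalk ⟨y, hy⟩
  have h1 : (S.presheaf.germ U y hy).hom.EssFiniteType :=
    Algebra.EssFiniteType.of_isLocalization _ (hU.primeIdealOf ⟨y, hy⟩).asIdeal.primeCompl
  rw [← Scheme.germ_residue S y hy]
  exact h1.comp ((RingHom.FiniteType.of_surjective _ (S.residue_surjective y)).essFiniteType)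

theorem isFinite_fromNormalization (f : X ⟶ S) [QuasiCompact f] [QuasiSeparated f] [IsReduced X]
    (hS : ∀ U : S.affineOpens, CAlg.IsNagata Γ(S, U))
    (hfin : LocallyFinite (fun Z : ↥(irreducibleComponents ↥X) => (Z : Set ↥X)))
    (hres : ∀ x : X, closure {x} ∈ irreducibleComponents ↥X → (f.residueFieldMap x).hom.EssFiniteType) :
    IsFinite f.fromNormalization := by
  refine ⟨fun U hU => ?_⟩
  letI := (f.app U).hom.toAlgebra
  let W := f ⁻¹ᵁ U
  let Gen := {x : X // x ∈ W ∧ closure {x} ∈ irreducibleComponents ↥X}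
  haveI : Finite Gen := by
    have hK : IsCompact (W : Set X) := f.isCompact_preimage hU.isCompact
    have h := hfin.finite_nonempty_inter_compact hK
    haveI := h.to_subtype
    refine Finite.of_injective (fun x : Gen => (⟨⟨closure {x.1}, x.2.2⟩, x.1, subset_closure rfl, x.2.1⟩ :
      {Z : ↥(irreducibleComponents ↥X) | ((Z : Set X) ∩ (W : Set X)).Nonempty})) fun a b hab => ?_
    refine Subtype.ext (Inseparable.eq ?_)
    exact inseparable_iff_closure_eq.2 (congrArg (fun q => (q.1.1 : Set X)) hab)
  have hint : Module.Finite Γ(S, U) (integralClosure Γ(S, U) Γ(X, W)) := by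
    refine finite_integralClosure_of_fields (hS ⟨U, hU⟩) (fun x : Gen => X.residueField x.1)
      (fun x => (X.evaluation W x.1 x.2.1).hom) (fun x => ?_) fun b hb => ?_
    · have h := congrArg CommRingCat.Hom.hom (Scheme.evaluation_naturality f x.1 x.2.1)
      simp only [CommRingCat.hom_comp] at h
      show ((X.evaluation W x.1 x.2.1).hom.comp (f.app U).hom).EssFiniteType
      rw [← h]
      exact (essFiniteType_evaluation hU (f x.1) x.2.1).comp (hres x.1 x.2.2)
    · refine eq_zero_of_basicOpen_eq_bot b (eq_bot_iff.2 fun x hx => ?_)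
      obtain ⟨η, hη, hηx⟩ : ∃ η : X, closure {η} ∈ irreducibleComponents ↥X ∧ η ⤳ x := by
        have hi := irreducibleComponent_mem_irreducibleComponents x
        obtain ⟨η, hη⟩ := QuasiSober.sober hi.1 isClosed_irreducibleComponent
        refine ⟨η, by rw [hη.def]; exact hi, specializes_iff_mem_closure.2 ?_⟩
        rw [hη.def]; exact mem_irreducibleComponent
      have hηb : η ∈ X.basicOpen b := hηx.mem_open (X.basicOpen b).2 hx
      exact absurd (hb ⟨η, X.basicOpen_le b hηb, hη⟩)
        ((Scheme.evaluation_ne_zero_iff_mem_basicOpen X η (X.basicOpen_le b hηb) b).2 hηb)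
  rw [f.fromNormalization_app hU, CommRingCat.hom_comp]
  exact (RingHom.Finite.of_surjective _
    (f.normalizationObjIso hU).symm.commRingCatIsoToRingEquiv.surjective).comp (RingHom.finite_algebraMap.mpr hint)

theorem locallyFinite_components [IsLocallyNoetherian X] :
    LocallyFinite (fun Z : ↥(irreducibleComponents ↥X) => (Z : Set ↥X)) := fun x => by
  obtain ⟨_, ⟨V, hV, rfl⟩, hxV, -⟩ := X.isBasis_affineOpens.exists_subset_of_mem_open (Set.mem_univ x) isOpen_univ
  haveI : IsNoetherianRing Γ(X, V) := IsLocallyNoetherian.component_noetherian ⟨V, hV⟩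
  haveI : NoetherianSpace ↥V := noetherianSpace_of_isAffineOpen V hV
  haveI : Finite ↥(irreducibleComponents ↥V) := NoetherianSpace.finite_irreducibleComponents.to_subtype
  have hj : Topology.IsOpenEmbedding (Subtype.val : ↥V → X) := V.2.isOpenEmbedding_subtypeVal
  have hne : ∀ Z : Set X, (Z ∩ (V : Set X)).Nonempty → (Z ∩ Set.range (Subtype.val : ↥V → X)).Nonempty :=
    fun Z h => by rw [Subtype.range_coe_subtype]; exact h
  refine ⟨V, V.2.mem_nhds hxV, ?_⟩
  refine Set.finite_coe_iff.1 (Finite.of_injective
    (fun Z : {Z : ↥(irreducibleComponents ↥X) | ((Z : Set X) ∩ (V : Set X)).Nonempty} =>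
      (⟨(Subtype.val : ↥V → X) ⁻¹' (Z.1 : Set X), preimage_mem_irreducibleComponents Z.1.2 hj (hne _ Z.2)⟩ :
        ↥(irreducibleComponents ↥V))) fun a b hab => Subtype.ext (Subtype.ext ?_))
  have hc : ∀ Z : {Z : ↥(irreducibleComponents ↥X) | ((Z : Set X) ∩ (V : Set X)).Nonempty},
      closure ((Subtype.val : ↥V → X) '' ((Subtype.val : ↥V → X) ⁻¹' (Z.1 : Set X))) = (Z.1 : Set X) := fun Z =>
    closure_image_preimage_of_isPreirreducible _ hj.isOpenMap _
      (by obtain ⟨y, hy, hyV⟩ := Z.2; exact ⟨⟨y, hyV⟩, hy⟩) Z.1.2.1.2 (isClosed_of_mem_irreducibleComponents _ Z.1.2)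
  exact (hc a).symm.trans ((congrArg (fun q => closure (Subtype.val '' q.1)) hab).trans (hc b))

theorem essFiniteType_residueFieldMap (f : X ⟶ S) [LocallyOfFiniteType f] (x : X) :
    (f.residueFieldMap x).hom.EssFiniteType := by
  have h : ((f.residueFieldMap x).hom.comp (S.residue (f x)).hom).EssFiniteType := by
    have e := congrArg CommRingCat.Hom.hom (Scheme.residue_residueFieldMap f x)
    simp only [CommRingCat.hom_comp] at e
    rw [e]
    exact (LocallyOfFiniteType.stalkMap f x).comp
      (RingHom.FiniteType.of_surjective _ (X.residue_surjective x)).essFiniteType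
  exact RingHom.EssFiniteType.of_comp _ h

theorem isFinite_fromNormalization_of_finiteType (f : X ⟶ S) [LocallyOfFiniteType f] [QuasiCompact f]
    [QuasiSeparated f] [IsReduced X] (hS : ∀ U : S.affineOpens, CAlg.IsNagata Γ(S, U)) :
    IsFinite f.fromNormalization := by
  haveI : IsLocallyNoetherian S := ⟨fun U => (hS U).1⟩
  haveI : IsLocallyNoetherian X := LocallyOfFiniteType.isLocallyNoetherian f
  exact isFinite_fromNormalization f hS locallyFinite_components fun x _ => essFiniteType_residueFieldMap f x

end Groth.L00.NagataNorm
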