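import Groth.Prelude.Def_ProCons
import Mathlib.AlgebraicGeometry.Morphisms.Affine
import Mathlib.AlgebraicGeometry.Morphisms.QuasiSeparated
import Mathlib.AlgebraicGeometry.Restrict
import Mathlib.AlgebraicGeometry.Properties

/-! Preimages of pro- and ind-constructible subsets of schemes. -/

set_option autoImplicit false

universe u

open CategoryTheory AlgebraicGeometry Topology TopologicalSpace Set

namespace Groth.L00.ProConsPre

theorem exists_local {X Y : Scheme.{u}} (f : X ⟶ Y) (x : X) {O : Set Y} (hO : IsOpen O) (hx : f x ∈ O) :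
    ∃ (W : Set X) (h : ↥W → ↥O), IsOpen W ∧ x ∈ W ∧ (∀ w : ↥W, (h w : Y) = f w) ∧
      ∀ T : Set ↥O, IsLocallyConstructible T → IsLocallyConstructible (h ⁻¹' T) := by
  obtain ⟨_, ⟨(V : Y.Opens), hV, rfl⟩, hxV, hVO⟩ := Y.isBasis_affineOpens.exists_subset_of_mem_open hx hO
  obtain ⟨_, ⟨(W : X.Opens), hW, rfl⟩, hxW, hWV⟩ :=
    X.isBasis_affineOpens.exists_subset_of_mem_open (show x ∈ f ⁻¹ᵁ V from hxV) (f ⁻¹ᵁ V).2
  refine ⟨W, fun w => ⟨f w.1, hVO (hWV w.2)⟩, W.2, hxW, fun w => rfl, fun T hT => ?_⟩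
  haveI : IsAffine (V : Scheme.{u}) := hV
  haveI : IsAffine (W : Scheme.{u}) := hW
  let g := f.resLE V W fun z hz => hWV hz
  have hι : IsOpenEmbedding (fun v : (V : Scheme.{u}) => (⟨V.ι v, hVO v.2⟩ : ↥O)) :=
    IsOpenEmbedding.of_comp _ hO.isOpenEmbedding_subtypeVal V.ι.isOpenEmbedding
  have h1 : IsConstructible ((fun v : (V : Scheme.{u}) => (⟨V.ι v, hVO v.2⟩ : ↥O)) ⁻¹' T) :=
    (IsLocallyConstructible.preimage_of_isOpenEmbedding hT hι).isConstructible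
  have h2 := h1.preimage (f := g) g.continuous fun s hs hs' =>
    ((g.isSpectralMap.isCompact_preimage_of_isOpen hs hs'.isCompact)).isRetrocompact (hs.preimage g.continuous)
  have e : (fun w : ↥(W : Set X) => (⟨f w.1, hVO (hWV w.2)⟩ : ↥O)) ⁻¹' T =
      (g ⁻¹' ((fun v : (V : Scheme.{u}) => (⟨V.ι v, hVO v.2⟩ : ↥O)) ⁻¹' T) : Set (W : Scheme.{u})) := by
    ext w
    have hw : (f w.1 : Y) = V.ι (g w) := by
      refine Eq.trans ?_ (Scheme.Hom.comp_apply g V.ι w)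
      simp only [g, Scheme.Hom.resLE_comp_ι]
      rfl
    exact iff_of_eq (congrArg (fun y : ↥O => y ∈ T) (Subtype.ext hw))
  rw [e]
  exact h2.isLocallyConstructible

theorem pro {X Y : Scheme.{u}} (f : X ⟶ Y) {T : Set Y} (hT : ProCons.IsProConstructible T) :
    ProCons.IsProConstructible (f ⁻¹' T) := by
  intro x
  obtain ⟨O, hO, hxO, S, hS, hE⟩ := hT (f x)
  obtain ⟨W, h, hWo, hxW, hh, hc⟩ := exists_local f x hO hxO
  refine ⟨W, hWo, hxW, (h ⁻¹' ·) '' S, ?_, ?_⟩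
  · rintro _ ⟨A, hA, rfl⟩; exact hc A (hS A hA)
  · rw [Set.sInter_image, ← Set.preimage_iInter₂, ← Set.sInter_eq_biInter, ← hE]
    ext w; simp [hh]

theorem ind {X Y : Scheme.{u}} (f : X ⟶ Y) {T : Set Y} (hT : ProCons.IsIndConstructible T) :
    ProCons.IsIndConstructible (f ⁻¹' T) := by
  intro x
  obtain ⟨O, hO, hxO, S, hS, hE⟩ := hT (f x)
  obtain ⟨W, h, hWo, hxW, hh, hc⟩ := exists_local f x hO hxO
  refine ⟨W, hWo, hxW, (h ⁻¹' ·) '' S, ?_, ?_⟩
  · rintro _ ⟨A, hA, rfl⟩; exact hc A (hS A hA)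
  · rw [Set.sUnion_image, ← Set.preimage_iUnion₂, ← Set.sUnion_eq_biUnion, ← hE]
    ext w; simp [hh]

end Groth.L00.ProConsPre
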