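import Groth.Agent.L16.ProperVanishing
import Groth.Agent.L16.ProperFinite
import Groth.Agent.L18.Ample
import Mathlib.AlgebraicGeometry.Normalization

/-!
The normalization in a proper scheme is finite over a locally Noetherian base.
-/

set_option autoImplicit false
set_option linter.style.haveILetI false
set_option backward.isDefEq.respectTransparency false

universe u

open CategoryTheory AlgebraicGeometry TopologicalSpace Opposite

noncomputable section

namespace Groth.L00.ProperNorm

/-- Functions on the base as global functions. -/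
def glob {A : Type u} [CommRing A] {Z : Scheme.{u}} (g : Z ⟶ Spec (CommRingCat.of A)) : A →+* Γ(Z, ⊤) :=
  g.appTop.hom.comp (Scheme.ΓSpecIso (CommRingCat.of A)).inv.hom

theorem finite_toGlobal {A : Type u} [CommRing A] [IsNoetherianRing A] {Z : Scheme.{u}}
    (g : Z ⟶ Spec (CommRingCat.of A)) [IsProper g] : (glob g).Finite := by
  classical
  letI : Z.Over (Spec (CommRingCat.of A)) := ⟨g⟩
  haveI : IsProper (Z ↘ Spec (CommRingCat.of A)) := inferInstanceAs (IsProper g)
  haveI : IsLocallyNoetherian Z := LocallyOfFiniteType.isLocallyNoetherian g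
  haveI := Groth.L16.ProperFinite.finite_HH A
    (Groth.L16.ProperFinite.isCoh_of_isInvertible (Groth.L18.Ample.isInvertible_structureModule Z)) 0
  obtain ⟨s, hs⟩ := Groth.L16.ProperVanishing.finite_sections_top A (Coh.structureModule Z)
  letI : Algebra A Γ(Z, ⊤) := (glob g).toAlgebra
  have : Module.Finite A Γ(Z, ⊤) := by
    refine ⟨⟨s.image (fun x => (x : Γ(Z, ⊤))), eq_top_iff.2 fun m _ => ?_⟩⟩
    obtain ⟨c, hc⟩ := hs m
    rw [hc]
    exact Submodule.sum_mem _ fun x hx => Submodule.smul_mem _ (c x) (Submodule.subset_span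
      (Finset.mem_coe.2 (Finset.mem_image_of_mem _ hx)))
  exact this

theorem isFinite_fromNormalization {X S : Scheme.{u}} (f : X ⟶ S) [IsProper f] [IsLocallyNoetherian S] :
    IsFinite f.fromNormalization := by
  refine ⟨fun V hV => ?_⟩
  haveI : IsNoetherianRing Γ(S, V) := IsLocallyNoetherian.component_noetherian ⟨V, hV⟩
  let g : ↑(f ⁻¹ᵁ V) ⟶ Spec Γ(S, V) := (f ∣_ V) ≫ hV.isoSpec.hom
  haveI : IsProper g := inferInstanceAs (IsProper ((f ∣_ V) ≫ hV.isoSpec.hom))
  have h : (glob (A := Γ(S, V)) g).Finite := finite_toGlobal g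
  let j : Γ((f ⁻¹ᵁ V).toScheme, ⊤) ≅ Γ(X, f ⁻¹ᵁ V) := (f ⁻¹ᵁ V).topIso
  have e : (f.app V).hom = j.hom.hom.comp (glob (A := Γ(S, V)) g) := by
    have : f.app V = (Scheme.ΓSpecIso Γ(S, V)).inv ≫ g.appTop ≫ j.hom := by
      simp only [g, j, Scheme.Hom.comp_appTop, IsAffineOpen.isoSpec_hom_appTop, morphismRestrict_appTop,
        Category.assoc, Iso.inv_hom_id_assoc, Scheme.Opens.topIso_hom, Scheme.Opens.topIso_inv]
      simp [Scheme.Hom.app_eq_appLE]
    rw [this]; rfl
  letI := (f.app V).hom.toAlgebra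
  haveI : Module.Finite Γ(S, V) Γ(X, f ⁻¹ᵁ V) := by
    change (f.app V).hom.Finite
    rw [e]
    exact (RingHom.Finite.of_surjective _ j.commRingCatIsoToRingEquiv.surjective).comp h
  haveI : IsNoetherian Γ(S, V) Γ(X, f ⁻¹ᵁ V) := isNoetherian_of_isNoetherianRing_of_finite _ _
  have hint : Module.Finite Γ(S, V) (integralClosure Γ(S, V) Γ(X, f ⁻¹ᵁ V)) :=
    Module.Finite.of_injective (integralClosure Γ(S, V) Γ(X, f ⁻¹ᵁ V)).val.toLinearMap Subtype.val_injective
  rw [f.fromNormalization_app hV, CommRingCat.hom_comp]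
  exact (RingHom.Finite.of_surjective _
    (f.normalizationObjIso hV).symm.commRingCatIsoToRingEquiv.surjective).comp (RingHom.finite_algebraMap.mpr hint)

end Groth.L00.ProperNorm
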