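import Groth.Agent.L16.QcqsPush
import Groth.Agent.L18.Frame
import Groth.Prelude.Def_RelSpec

/-!
# A quasi-coherent algebra is quasi-coherent as a module
-/

set_option autoImplicit false
set_option linter.style.haveILetI false
set_option backward.isDefEq.respectTransparency false

universe u

open CategoryTheory AlgebraicGeometry TopologicalSpace Opposite

noncomputable section

namespace Groth.L00.QCAlgModule

open Groth.L18.Frame (rs ro)

variable {X : Scheme.{u}} (B : RelSpec.QCAlg X)

/-- Scalars act by multiplication through the structure map. -/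
theorem smul_eq (U : X.Opens) (r : Γ(X, U)) (m : Γ(B.toModule, U)) :
    r • m = (show B.presheaf.obj (op U) from (B.str.app (op U)).hom r * (show B.presheaf.obj (op U) from m)) :=
  B.str_smul_def (op U) r m

theorem res_str {U V : X.Opens} (h : V ≤ U) (r : Γ(X, U)) :
    (B.presheaf.map (homOfLE h).op).hom ((B.str.app (op U)).hom r) = (B.str.app (op V)).hom (ro h r) :=
  (ConcreteCategory.congr_hom (B.str.naturality (homOfLE h).op) r).symm

/-- A quasi-coherent algebra is quasi-coherent as a module. -/
theorem isQCoh_toModule : Coh.IsQCoh B.toModule := by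
  refine Groth.L16.QcqsPush.isQCoh_of_sections B.toModule fun y => ?_
  obtain ⟨V, hV, hyV, -⟩ := exists_isAffineOpen_mem_and_subset (x := y) (U := ⊤) trivial
  refine ⟨V, hyV, hV, fun a => ?_⟩
  letI := (B.presheaf.map (homOfLE (X.basicOpen_le a)).op).hom.toAlgebra
  haveI : IsLocalization.Away ((B.str.app (op V)).hom a) (B.presheaf.obj (op (X.basicOpen a))) :=
    B.isQC V hV a
  refine ⟨fun s => ?_, fun t ht => ?_⟩
  · obtain ⟨⟨t, ⟨_, n, rfl⟩⟩, h⟩ := IsLocalization.surj (Submonoid.powers ((B.str.app (op V)).hom a))
      (show B.presheaf.obj (op (X.basicOpen a)) from s)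
    refine ⟨n, t, ?_⟩
    rw [smul_eq]
    refine h.symm.trans ?_
    rw [mul_comm, ← res_str B (X.basicOpen_le a) (a ^ n)]
    simp only [map_pow]
    rfl
  · obtain ⟨⟨_, n, rfl⟩, h⟩ := (IsLocalization.map_eq_zero_iff (Submonoid.powers ((B.str.app (op V)).hom a))
      (B.presheaf.obj (op (X.basicOpen a))) (show B.presheaf.obj (op V) from t)).1 ht
    refine ⟨n, ?_⟩
    rw [smul_eq]
    simp only [map_pow]
    exact h

end Groth.L00.QCAlgModule
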