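import Mathlib.Topology.NoetherianSpace
import Mathlib.Topology.LocallyClosed
import Mathlib.Topology.Sets.Opens

/-!
# Quasi-homeomorphisms and locally quasi-constructible subsets
-/

set_option autoImplicit false
universe u

namespace Groth.L00.QuasiHomeo

variable {X Y : Type u} [TopologicalSpace X] [TopologicalSpace Y] {f : X → Y} (hf : Continuous f)
  (hq : Function.Bijective (fun U : TopologicalSpace.Opens Y =>
      (⟨f ⁻¹' (U : Set Y), U.isOpen.preimage hf⟩ : TopologicalSpace.Opens X)))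
  {Y' : Set Y}
  (hY' : ∀ y : Y, ∃ U : Set Y, IsOpen U ∧ y ∈ U ∧
      ∃ T : Set (Set Y), T.Finite ∧ (∀ t ∈ T, IsLocallyClosed t) ∧ U ∩ Y' = ⋃₀ T)

include hq hY'

theorem trace_subset {U V : Set Y} (hU : IsOpen U) (hV : IsOpen V)
    (h : f ⁻¹' Y' ∩ f ⁻¹' U ⊆ f ⁻¹' V) : Y' ∩ U ⊆ V := by
  rintro y ⟨hyY, hyU⟩
  by_contra hyV
  obtain ⟨W, hW, hyW, T, -, hTl, hT⟩ := hY' y
  obtain ⟨t, ht, hyt⟩ := hT.subset ⟨hyW, hyY⟩
  obtain ⟨O, C, hO, hC, rfl⟩ := hTl t ht
  let A : TopologicalSpace.Opens Y := ⟨W ∩ U ∩ O, (hW.inter hU).inter hO⟩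
  let B : TopologicalSpace.Opens Y := ⟨(Vᶜ ∩ C)ᶜ, (hV.isClosed_compl.inter hC).isOpen_compl⟩
  have h1 : A ⊓ B = A := hq.1 (TopologicalSpace.Opens.ext (by
    show f ⁻¹' ((W ∩ U ∩ O) ∩ (Vᶜ ∩ C)ᶜ) = f ⁻¹' (W ∩ U ∩ O)
    refine subset_antisymm (Set.preimage_mono Set.inter_subset_left) fun x hx => ⟨hx, fun hx' => hx'.1 ?_⟩
    refine h ⟨?_, hx.1.2⟩
    exact (hT.ge ⟨O ∩ C, ht, hx.2, hx'.2⟩).2))
  exact (inf_eq_left.1 h1 (show y ∈ A from ⟨⟨hyW, hyU⟩, hyt.1⟩)) ⟨hyV, hyt.2⟩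

theorem isCompact_trace_iff {U : Set Y} (hU : IsOpen U) :
    IsCompact (Y' ∩ U) ↔ IsCompact (f ⁻¹' Y' ∩ f ⁻¹' U) := by
  constructor
  · intro hc
    refine isCompact_of_finite_subcover fun {ι} O hO hcov => ?_
    choose V hV using fun i => hq.2 ⟨O i, hO i⟩
    have hV' : ∀ i, f ⁻¹' (V i : Set Y) = O i := fun i => congrArg SetLike.coe (hV i)
    obtain ⟨t, ht⟩ := hc.elim_finite_subcover (fun i => (V i : Set Y)) (fun i => (V i).2)
      (trace_subset hf hq hY' hU (isOpen_iUnion fun i => (V i).2)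
        (by simpa only [Set.preimage_iUnion, hV'] using hcov))
    refine ⟨t, ?_⟩
    have := Set.preimage_mono (f := f) ht
    simpa only [Set.preimage_inter, Set.preimage_iUnion, hV'] using this
  · intro hc
    refine isCompact_of_finite_subcover fun {ι} O hO hcov => ?_
    obtain ⟨t, ht⟩ := hc.elim_finite_subcover (fun i => f ⁻¹' O i) (fun i => (hO i).preimage hf)
      (by simpa only [Set.preimage_inter, Set.preimage_iUnion] using Set.preimage_mono (f := f) hcov)
    exact ⟨t, trace_subset hf hq hY' hU (isOpen_biUnion fun i _ => hO i)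
      (by simpa only [Set.preimage_iUnion] using ht)⟩

theorem noetherianSpace_iff :
    TopologicalSpace.NoetherianSpace ↥Y' ↔ TopologicalSpace.NoetherianSpace ↥(f ⁻¹' Y') := by
  have hh : ∀ {Z : Type u} [TopologicalSpace Z] (S : Set Z),
      TopologicalSpace.NoetherianSpace ↥S ↔ ∀ U : Set Z, IsOpen U → IsCompact (S ∩ U) := by
    intro Z _ S
    rw [TopologicalSpace.noetherianSpace_iff_opens]
    constructor
    · intro h U hU
      have := (h ⟨Subtype.val ⁻¹' U, hU.preimage continuous_subtype_val⟩).image continuous_subtype_val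
      exact Subtype.image_preimage_coe S U ▸ this
    · intro h V
      obtain ⟨U, hU, hUV⟩ := isOpen_induced_iff.1 V.2
      rw [Topology.IsInducing.subtypeVal.isCompact_iff, show (V : Set ↥S) = Subtype.val ⁻¹' U from hUV.symm,
        Subtype.image_preimage_coe]
      exact h U hU
  rw [hh, hh]
  constructor
  · intro h V hV
    obtain ⟨U, hU⟩ := hq.2 ⟨V, hV⟩
    rw [← show f ⁻¹' (U : Set Y) = V from congrArg SetLike.coe hU]
    exact (isCompact_trace_iff hf hq hY' U.2).1 (h _ U.2)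
  · intro h U hU
    exact (isCompact_trace_iff hf hq hY' hU).2 (h _ (hU.preimage hf))

end Groth.L00.QuasiHomeo
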