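import Groth.Agent.L17.SingleRDer
import Groth.Agent.L17.AcyclicCx

/-!
The natural isomorphism between hyperderived functors of single objects and right derived functors,
and the resulting long exact sequence of right derived functors.
-/

set_option autoImplicit false
set_option backward.isDefEq.respectTransparency false

universe w v u v' u'

open CategoryTheory CategoryTheory.Limits CategoryTheory.Pretriangulated

namespace Groth.L00.RDerLES
open Groth.L17.GrothSS

variable {C : Type u} [Category.{v} C] [Abelian C] {D : Type u'} [Category.{v'} D] [Abelian D]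
  (S : C ⥤ D) [S.Additive]

theorem mapExtendX_naturality {ι ι' : Type*} {c : ComplexShape ι} {c' : ComplexShape ι'}
    {K L : HomologicalComplex C c} (φ : K ⟶ L) :
    ∀ o : Option ι, S.map (HomologicalComplex.extend.mapX φ o) ≫ (mapExtendX S L o).hom =
      (mapExtendX S K o).hom ≫
        HomologicalComplex.extend.mapX ((S.mapHomologicalComplex c).map φ) o
  | some _ => (Category.comp_id _).trans (Category.id_comp _).symm
  | none => (S.map_isZero (HomologicalComplex.extend.isZero_X K rfl)).eq_of_src _ _

theorem mapExtendIso_naturality {ι ι' : Type*} {c : ComplexShape ι} {c' : ComplexShape ι'}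
    {K L : HomologicalComplex C c} (φ : K ⟶ L) (e : c.Embedding c') :
    (S.mapHomologicalComplex c').map (HomologicalComplex.extendMap φ e) ≫
        (mapExtendIso S L e).hom =
      (mapExtendIso S K e).hom ≫
        HomologicalComplex.extendMap ((S.mapHomologicalComplex c).map φ) e := by
  ext i
  exact mapExtendX_naturality S (c' := c') φ (e.r i)

theorem homologyMapCochainIso_naturality [HasInjectiveResolutions C] {X Y : C} {f : X ⟶ Y}
    {R : InjectiveResolution X} {R' : InjectiveResolution Y} (φ : InjectiveResolution.Hom R R' f)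
    (n : ℕ) :
    HomologicalComplex.homologyMap ((S.mapHomologicalComplex (.up ℤ)).map φ.hom') (n : ℤ) ≫
        (homologyMapCochainIso S R' n).hom =
      (homologyMapCochainIso S R n).hom ≫ (S.rightDerived n).map f := by
  have h1 := mapExtendIso_naturality S φ.hom ComplexShape.embeddingUpNat
  have h2 := InjectiveResolution.isoRightDerivedObj_inv_naturality f R R' φ.hom
    (by simp) S n
  simp only [homologyMapCochainIso, Iso.trans_hom, Iso.symm_hom, Functor.mapIso_hom,
    HomologicalComplex.homologyFunctor_map, Category.assoc]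
  erw [h2, ← HomologicalComplex.extendHomologyIso_hom_naturality_assoc]
  erw [← HomologicalComplex.homologyMap_comp_assoc, ← HomologicalComplex.homologyMap_comp_assoc, h1]

variable [HasDerivedCategory.{w} C] [EnoughInjectives C]

theorem hhInjIso_naturality {K K' : CochainComplex C ℤ} (hK : CochainComplex.plus C K)
    (hI : ∀ n, Injective (K.X n)) (hK' : CochainComplex.plus C K') (hI' : ∀ n, Injective (K'.X n))
    (f : K ⟶ K') (n : ℤ) :
    (HH S n).map (DerivedCategory.Plus.Q.map
        (X := ⟨K, hK⟩) (Y := ⟨K', hK'⟩) (ObjectProperty.homMk f)) ≫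
        (hhInjIso S K' hK' hI' n).hom =
      (hhInjIso S K hK hI n).hom ≫
        HomologicalComplex.homologyMap ((S.mapHomologicalComplex _).map f) n := by
  let L : CochainComplex.Plus (InjectiveObject C) :=
    ⟨HomologicalComplex.liftObjectProperty _ K hI, by
      obtain ⟨m, hm⟩ := hK
      exact ⟨m, (CochainComplex.isStrictlyGE_mapHomologicalComplex_obj_iff _
        (InjectiveObject.ι C) m).1 hm⟩⟩
  let L' : CochainComplex.Plus (InjectiveObject C) :=
    ⟨HomologicalComplex.liftObjectProperty _ K' hI', by
      obtain ⟨m, hm⟩ := hK'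
      exact ⟨m, (CochainComplex.isStrictlyGE_mapHomologicalComplex_obj_iff _
        (InjectiveObject.ι C) m).1 hm⟩⟩
  let g : L ⟶ L' := ObjectProperty.homMk
    { f := fun i => ObjectProperty.homMk (f.f i), comm' := fun i j hij => by ext; exact f.comm' i j hij }
  let q := (HomotopyCategory.Plus.quotient (InjectiveObject C)).map g
  have hu : (equivDPlus C).inverse.map ((equivDPlus C).functor.map q) ≫
      (equivDPlus C).unitIso.inv.app ((HomotopyCategory.Plus.quotient _).obj L') =
        (equivDPlus C).unitIso.inv.app ((HomotopyCategory.Plus.quotient _).obj L) ≫ q :=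
    (equivDPlus C).unitIso.inv.naturality q
  let G : HomotopyCategory.Plus (InjectiveObject C) ⥤ D :=
    (InjectiveObject.ι C ⋙ S).mapHomotopyCategoryPlus ⋙ HomotopyCategory.Plus.ι D ⋙
      HomotopyCategory.homologyFunctor D (.up ℤ) n
  have hq := (HomotopyCategory.homologyFunctorFactors D (.up ℤ) n).hom.naturality
      (((InjectiveObject.ι C ⋙ S).mapHomologicalComplex _).map g.hom)
  change G.map ((equivDPlus C).inverse.map ((equivDPlus C).functor.map q)) ≫
      G.map ((equivDPlus C).unitIso.inv.app _) ≫
      (HomotopyCategory.homologyFunctorFactors D (.up ℤ) n).hom.app _ =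
    (G.map ((equivDPlus C).unitIso.inv.app _) ≫
      (HomotopyCategory.homologyFunctorFactors D (.up ℤ) n).hom.app _) ≫ _
  rw [← G.map_comp_assoc, hu, G.map_comp_assoc, Category.assoc]
  congr 1

variable [HasInjectiveResolutions C]

omit [EnoughInjectives C] [HasInjectiveResolutions C] in
theorem singleQIso_naturality {M M' : C} (f : M ⟶ M') {R : InjectiveResolution M}
    {R' : InjectiveResolution M'} (φ : InjectiveResolution.Hom R R' f) :
    (DerivedCategory.Plus.singleFunctor C 0).map f ≫ (singleQIso R').hom =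
      (singleQIso R).hom ≫ DerivedCategory.Plus.Q.map
        (X := ⟨R.cochainComplex, 0, inferInstance⟩) (Y := ⟨R'.cochainComplex, 0, inferInstance⟩)
        (ObjectProperty.homMk φ.hom') := by
  apply DerivedCategory.Plus.ι.map_injective
  simp only [Functor.map_comp]
  have h1 : ∀ {X : C} (P : InjectiveResolution X), DerivedCategory.Plus.ι.map (singleQIso P).hom =
      (DerivedCategory.singleFunctorIsoCompQ C 0).hom.app X ≫ DerivedCategory.Q.map P.ι' :=
    fun P => DerivedCategory.Plus.ι.map_preimage _
  rw [h1, h1]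
  change (DerivedCategory.singleFunctor C 0).map f ≫
      (DerivedCategory.singleFunctorIsoCompQ C 0).hom.app M' ≫ DerivedCategory.Q.map R'.ι' =
    ((DerivedCategory.singleFunctorIsoCompQ C 0).hom.app M ≫ DerivedCategory.Q.map R.ι') ≫
      DerivedCategory.Q.map φ.hom'
  have h2 := congrArg DerivedCategory.Q.map φ.ι'_comp_hom'
  rw [Functor.map_comp, Functor.map_comp] at h2
  rw [Category.assoc, h2, ← Category.assoc, ← Category.assoc]
  congr 1
  exact (DerivedCategory.singleFunctorIsoCompQ C 0).hom.naturality f

theorem hhSingleZeroIso_naturality {M M' : C} (f : M ⟶ M') (n : ℕ) :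
    (HH S (n : ℤ)).map ((DerivedCategory.Plus.singleFunctor C 0).map f) ≫
        (hhSingleZeroIso S M' n).hom =
      (hhSingleZeroIso S M n).hom ≫ (S.rightDerived n).map f := by
  let φ : InjectiveResolution.Hom (injectiveResolution M) (injectiveResolution M') f :=
    ⟨InjectiveResolution.desc f _ _, by simp⟩
  simp only [hhSingleZeroIso, Iso.trans_hom, Functor.mapIso_hom, Category.assoc]
  rw [← Functor.map_comp_assoc, singleQIso_naturality f φ, Functor.map_comp_assoc]
  erw [reassoc_of% (hhInjIso_naturality S _ _ _ _ φ.hom' (n : ℤ)),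
    homologyMapCochainIso_naturality S φ n]

variable {T : ShortComplex C} (hT : T.ShortExact)

theorem map_eq {M M' : C} (f : M ⟶ M') (n : ℕ) : (S.rightDerived n).map f =
    (hhSingleZeroIso S M n).inv ≫ (HH S (n : ℤ)).map ((DerivedCategory.Plus.singleFunctor C 0).map f) ≫
      (hhSingleZeroIso S M' n).hom := by
  rw [hhSingleZeroIso_naturality, Iso.inv_hom_id_assoc]

theorem additive (n : ℕ) : (S.rightDerived n).Additive :=
  ⟨fun {M M' f g} => by
    simp only [map_eq S, Functor.map_add, Preadditive.add_comp, Preadditive.comp_add]⟩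

include hT in
/-- Exactness at the middle term. -/
theorem exact₂ (n : ℕ) :
    haveI := additive S n
    (T.map (S.rightDerived n)).Exact := by
  have := additive S n
  obtain ⟨δ, hd⟩ := exists_plusTriangle hT
  refine (ShortComplex.exact_iff_of_iso ?_).1
    ((HomotopyCategory.homologyFunctor D (.up ℤ) 0).homologySequence_exact₂ _
      ((RK S).map_distinguished _ hd) (n : ℤ))
  refine ShortComplex.isoMk (hhSingleZeroIso S _ n) (hhSingleZeroIso S _ n) (hhSingleZeroIso S _ n)
    ?_ ?_
  · exact (hhSingleZeroIso_naturality S T.f n).symm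
  · exact (hhSingleZeroIso_naturality S T.g n).symm

include hT in
theorem mono_zero : Mono ((S.rightDerived 0).map T.f) := by
  obtain ⟨δ, hd⟩ := exists_plusTriangle hT
  let F := HomotopyCategory.homologyFunctor D (.up ℤ) 0
  have hz : IsZero ((HH S (-1)).obj ((DerivedCategory.Plus.singleFunctor C 0).obj T.X₃)) := by
    refine IsZero.of_iso ?_ ((HH S (-1)).mapIso (singleQIso (injectiveResolution T.X₃)) ≪≫
      hhInjIso S _ _ (fun _ => inferInstance) _)
    rw [← HomologicalComplex.exactAt_iff_isZero_homology, HomologicalComplex.exactAt_iff]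
    exact ShortComplex.exact_of_isZero_X₂ _
      (S.map_isZero (CochainComplex.isZero_of_isStrictlyGE _ 0 (-1) (by omega)))
  have hm := ((F.homologySequence_exact₁ _ ((RK S).map_distinguished _ hd) (-1) 0 (by omega))).mono_g
    (hz.eq_of_src _ _)
  have h : (hhSingleZeroIso S T.X₁ 0).inv ≫ (HH S ((0 : ℕ) : ℤ)).map
      ((DerivedCategory.Plus.singleFunctor C 0).map T.f) ≫ (hhSingleZeroIso S T.X₂ 0).hom =
        (S.rightDerived 0).map T.f := by
    rw [hhSingleZeroIso_naturality, Iso.inv_hom_id_assoc]
  rw [← h]
  have : Mono ((HH S ((0 : ℕ) : ℤ)).map ((DerivedCategory.Plus.singleFunctor C 0).map T.f)) := hm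
  infer_instance

include hT in
/-- `R^n X₂ ⟶ R^n X₃` is an epimorphism when `R^{n+1} X₁ = 0`. -/
theorem epi_map_g (n : ℕ) (h : IsZero ((S.rightDerived (n + 1)).obj T.X₁)) :
    Epi ((S.rightDerived n).map T.g) := by
  obtain ⟨δ, hd⟩ := exists_plusTriangle hT
  have he := ((HomotopyCategory.homologyFunctor D (.up ℤ) 0).homologySequence_exact₃ _
    ((RK S).map_distinguished _ hd) (n : ℤ) ((n + 1 : ℕ) : ℤ) (by omega)).epi_f
    ((h.of_iso (hhSingleZeroIso S T.X₁ (n + 1))).eq_of_tgt _ _)
  have h' : (hhSingleZeroIso S T.X₂ n).inv ≫ (HH S (n : ℤ)).map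
      ((DerivedCategory.Plus.singleFunctor C 0).map T.g) ≫ (hhSingleZeroIso S T.X₃ n).hom =
        (S.rightDerived n).map T.g := by
    rw [hhSingleZeroIso_naturality, Iso.inv_hom_id_assoc]
  rw [← h']
  have : Epi ((HH S (n : ℤ)).map ((DerivedCategory.Plus.singleFunctor C 0).map T.g)) := he
  infer_instance

include hT in
/-- `R^{n+1} X₁ = 0` when `R^n X₂ ⟶ R^n X₃` is an epimorphism and `R^{n+1} X₂ = 0`. -/
theorem isZero_X₁ (n : ℕ) (h : IsZero ((S.rightDerived (n + 1)).obj T.X₂))
    [Epi ((S.rightDerived n).map T.g)] : IsZero ((S.rightDerived (n + 1)).obj T.X₁) := by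
  obtain ⟨δ, hd⟩ := exists_plusTriangle hT
  let F := HomotopyCategory.homologyFunctor D (.up ℤ) 0
  let Tr := (RK S).mapTriangle.obj (Triangle.mk ((DerivedCategory.Plus.singleFunctor C 0).map T.f)
    ((DerivedCategory.Plus.singleFunctor C 0).map T.g) δ)
  refine IsZero.of_iso ?_ (hhSingleZeroIso S T.X₁ (n + 1)).symm
  have he : Epi ((F.shift (n : ℤ)).map Tr.mor₂) := by
    have : Epi ((HH S (n : ℤ)).map ((DerivedCategory.Plus.singleFunctor C 0).map T.g) ≫
        (hhSingleZeroIso S T.X₃ n).hom) := by
      rw [hhSingleZeroIso_naturality]; infer_instance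
    have he' : Epi (((HH S (n : ℤ)).map ((DerivedCategory.Plus.singleFunctor C 0).map T.g) ≫
        (hhSingleZeroIso S T.X₃ n).hom) ≫ (hhSingleZeroIso S T.X₃ n).inv) := inferInstance
    rw [Category.assoc, Iso.hom_inv_id, Category.comp_id] at he'
    exact he'
  have hδ : F.homologySequenceδ Tr (n : ℤ) ((n + 1 : ℕ) : ℤ) (by omega) = 0 :=
    zero_of_epi_comp _ (F.comp_homologySequenceδ Tr ((RK S).map_distinguished _ hd) _ _ (by omega))
  exact (F.homologySequence_exact₁ _ ((RK S).map_distinguished _ hd) (n : ℤ)
    ((n + 1 : ℕ) : ℤ) (by omega)).isZero_of_both_zeros hδ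
    ((h.of_iso (hhSingleZeroIso S T.X₂ (n + 1))).eq_of_tgt _ _)

end Groth.L00.RDerLES

namespace Groth.L00.RDerLES

variable {C : Type u} [Category.{v} C] [Abelian C] [EnoughInjectives C] {D : Type u'}
  [Category.{v'} D] [Abelian D] (S : C ⥤ D) [S.Additive]

theorem preservesFiniteLimits_rightDerived_zero : PreservesFiniteLimits (S.rightDerived 0) := by
  letI := HasDerivedCategory.standard C
  haveI := additive S 0
  have h := (S.rightDerived 0).preservesFiniteLimits_tfae.out 0 3
  exact h.1 (fun T hT => ⟨exact₂ S hT 0, mono_zero S hT⟩)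

end Groth.L00.RDerLES
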