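import Groth.Agent.L17.AcyclicMap
import Groth.Agent.L00.RDerLES
import Groth.Agent.L10.ClassRes
import Mathlib.Algebra.Homology.DerivedCategory.RightDerivedFunctorPlus
import Mathlib.Algebra.Homology.HomologySequenceLemmas

/-! When the unit of the bounded below right derived functor is an isomorphism. -/

set_option autoImplicit false
set_option backward.isDefEq.respectTransparency false

universe w w' v u v' u'

open CategoryTheory CategoryTheory.Limits

namespace Groth.L00.RPlusUnit

variable {C : Type u} [Category.{v} C] [Abelian C] [HasDerivedCategory.{w} C] [EnoughInjectives C]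
  {D : Type u'} [Category.{v'} D] [Abelian D] [HasDerivedCategory.{w'} D]
  (F : C ⥤ D) [F.Additive]

omit [HasDerivedCategory.{w} C] [EnoughInjectives C] in
theorem isIso_plusQ_iff {K L : CochainComplex.Plus D} (f : K ⟶ L) :
    IsIso (DerivedCategory.Plus.Q.map f) ↔ QuasiIso f.hom := by
  rw [← DerivedCategory.isIso_Q_map_iff_quasiIso]
  exact ⟨fun _ => inferInstanceAs (IsIso (DerivedCategory.Plus.ι.map (DerivedCategory.Plus.Q.map f))),
    fun h => by
      have : IsIso (DerivedCategory.Plus.ι.map (DerivedCategory.Plus.Q.map f)) := h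
      exact isIso_of_fully_faithful DerivedCategory.Plus.ι _⟩

/-- The unit at `K` is an isomorphism iff `F` of a quasi-isomorphism into injectives is one. -/
theorem unit_isIso_iff {K L : CochainComplex.Plus C} (i : K ⟶ L) [QuasiIso i.hom]
    (hL : ∀ n, Injective (L.obj.X n)) :
    IsIso (F.rightDerivedFunctorPlusUnit.app ((HomotopyCategory.Plus.quotient C).obj K)) ↔
      QuasiIso ((F.mapHomologicalComplex (.up ℤ)).map i.hom) := by
  let L' : CochainComplex.Plus (InjectiveObject C) :=
    ⟨HomologicalComplex.liftObjectProperty _ L.obj hL, by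
      obtain ⟨m, hm⟩ := L.property
      exact ⟨m, (CochainComplex.isStrictlyGE_mapHomologicalComplex_obj_iff _
        (InjectiveObject.ι C) m).1 hm⟩⟩
  have hu : IsIso (F.rightDerivedFunctorPlusUnit.app ((HomotopyCategory.Plus.quotient C).obj L)) := by
    change IsIso (F.rightDerivedFunctorPlusUnit.app ((HomotopyCategory.Plus.quotient C).obj
      ((InjectiveObject.ι C).mapCochainComplexPlus.obj L')))
    infer_instance
  have hi : IsIso (DerivedCategory.Plus.Qh.map ((HomotopyCategory.Plus.quotient C).map i)) :=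
    (isIso_plusQ_iff i).2 inferInstance
  have hn := F.rightDerivedFunctorPlusUnit.naturality ((HomotopyCategory.Plus.quotient C).map i)
  dsimp only [Functor.comp_map, Functor.comp_obj] at hn
  refine Iff.trans ?_ (isIso_plusQ_iff (F.mapCochainComplexPlus.map i))
  change _ ↔ IsIso (DerivedCategory.Plus.Qh.map (F.mapHomotopyCategoryPlus.map
    ((HomotopyCategory.Plus.quotient C).map i)))
  constructor
  · intro h
    have : IsIso (DerivedCategory.Plus.Qh.map (F.mapHomotopyCategoryPlus.map
        ((HomotopyCategory.Plus.quotient C).map i)) ≫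
        F.rightDerivedFunctorPlusUnit.app ((HomotopyCategory.Plus.quotient C).obj L)) := by
      rw [hn]; infer_instance
    exact IsIso.of_isIso_comp_right _
      (F.rightDerivedFunctorPlusUnit.app ((HomotopyCategory.Plus.quotient C).obj L))
  · intro h
    have : IsIso (F.rightDerivedFunctorPlusUnit.app ((HomotopyCategory.Plus.quotient C).obj K) ≫
        F.rightDerivedFunctorPlus.map (DerivedCategory.Plus.Qh.map ((HomotopyCategory.Plus.quotient C).map i))) := by
      rw [← hn]; infer_instance
    exact IsIso.of_isIso_comp_right _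
      (F.rightDerivedFunctorPlus.map (DerivedCategory.Plus.Qh.map ((HomotopyCategory.Plus.quotient C).map i)))

/-- Leray's acyclicity lemma. -/
theorem unit_isIso_of_acyclic [HasInjectiveResolutions C] [PreservesFiniteLimits F]
    (K : CochainComplex.Plus C) (hK : ∀ n, Groth.L17.GrothSS.RAcyclic F (K.obj.X n)) :
    IsIso (F.rightDerivedFunctorPlusUnit.app ((HomotopyCategory.Plus.quotient C).obj K)) := by
  obtain ⟨K', m, hm⟩ := K
  obtain ⟨L, i, h1, h2, h3⟩ := CochainComplex.Plus.modelCategoryQuillen.exists_quasiIso_injective K' m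
  let i' : (⟨K', m, hm⟩ : CochainComplex.Plus C) ⟶ ⟨L, m, inferInstance⟩ := ObjectProperty.homMk i
  have : QuasiIso i'.hom := inferInstanceAs (QuasiIso i)
  refine (unit_isIso_iff F i' (fun n => inferInstance)).2 ?_
  refine Groth.L17.GrothSS.quasiIso_map F i m m hK (fun n q hq => ?_)
  obtain ⟨k, rfl⟩ : ∃ k, q = k + 1 := ⟨q - 1, by omega⟩
  exact F.isZero_rightDerived_obj_injective_succ k _

omit [HasDerivedCategory.{w} C] [EnoughInjectives C] [HasDerivedCategory.{w'} D] in
theorem quasiIso_map_ι'_iff [HasInjectiveResolutions C] {X : C} (R : InjectiveResolution X) :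
    QuasiIso ((F.mapHomologicalComplex (.up ℤ)).map R.ι') ↔
      IsIso (F.toRightDerivedZero.app X) ∧ ∀ i : ℕ, 0 < i → IsZero ((F.rightDerived i).obj X) := by
  have h1 : QuasiIso ((F.mapHomologicalComplex (.up ℤ)).map R.ι') ↔
      QuasiIso ((F.mapHomologicalComplex (.up ℕ)).map R.ι) := by
    rw [← HomologicalComplex.quasiIso_extendMap_iff ((F.mapHomologicalComplex (.up ℕ)).map R.ι)
      ComplexShape.embeddingUpNat, InjectiveResolution.ι', Functor.map_comp]
    refine (quasiIso_iff_comp_left _ _).trans ?_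
    exact quasiIso_iff_of_arrow_mk_iso _ _ (Arrow.isoMk (Groth.L17.GrothSS.mapExtendIso F _ _)
      (Groth.L17.GrothSS.mapExtendIso F _ _)
      (Groth.L00.RDerLES.mapExtendIso_naturality F R.ι ComplexShape.embeddingUpNat).symm)
  rw [h1, quasiIso_iff]
  have hsrc : ∀ i : ℕ, 0 < i →
      (((F.mapHomologicalComplex (.up ℕ)).obj ((CochainComplex.single₀ C).obj X))).ExactAt i := fun i hi => by
    rw [HomologicalComplex.exactAt_iff]
    exact ShortComplex.exact_of_isZero_X₂ _
      (F.map_isZero (HomologicalComplex.isZero_single_obj_X _ _ _ _ (by omega)))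
  have h0 : QuasiIsoAt ((F.mapHomologicalComplex (.up ℕ)).map R.ι) 0 ↔
      IsIso (F.toRightDerivedZero.app X) := by
    let K := (F.mapHomologicalComplex (.up ℕ)).obj ((CochainComplex.single₀ C).obj X)
    have hd : K.d 0 1 = 0 := by simp [K]
    have : IsIso (K.iCycles 0) := K.isIso_iCycles 0 1 (by simp) hd
    rw [quasiIsoAt_iff_isIso_homologyMap, R.toRightDerivedZero_eq]
    have e : HomologicalComplex.cyclesMap ((F.mapHomologicalComplex (.up ℕ)).map R.ι) 0 =
        K.iCycles 0 ≫ R.toRightDerivedZero' F := by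
      rw [← cancel_mono (HomologicalComplex.iCycles _ _), HomologicalComplex.cyclesMap_i,
        Category.assoc, R.toRightDerivedZero'_comp_iCycles]
      rfl
    have e2 := HomologicalComplex.homologyπ_naturality ((F.mapHomologicalComplex (.up ℕ)).map R.ι) 0
    have hA : IsIso (HomologicalComplex.homologyMap ((F.mapHomologicalComplex (.up ℕ)).map R.ι) 0) ↔
        IsIso (R.toRightDerivedZero' F) := by
      rw [← isIso_comp_left_iff (CochainComplex.isoHomologyπ₀ K).hom,
        show (CochainComplex.isoHomologyπ₀ K).hom = K.homologyπ 0 from rfl, e2, e,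
        isIso_comp_right_iff, isIso_comp_left_iff]
    rw [hA]
    exact (isIso_comp_right_iff _ _).symm
  constructor
  · intro h
    refine ⟨h0.1 (h 0), fun i hi => IsZero.of_iso ?_ (R.isoRightDerivedObj F i)⟩
    exact (((F.mapHomologicalComplex (.up ℕ)).obj R.cocomplex).exactAt_iff_isZero_homology i).1
      ((quasiIsoAt_iff_exactAt _ i (hsrc i hi)).1 (h i))
  · rintro ⟨h, h'⟩ i
    rcases Nat.eq_zero_or_pos i with rfl | hi
    · exact h0.2 h
    · refine (quasiIsoAt_iff_exactAt _ i (hsrc i hi)).2 ?_
      rw [HomologicalComplex.exactAt_iff_isZero_homology]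
      exact (h' i hi).of_iso (R.isoRightDerivedObj F i).symm

/-- The single object as a bounded below complex. -/
noncomputable abbrev single (X : C) : CochainComplex.Plus C :=
  ⟨(CochainComplex.singleFunctor C 0).obj X, 0, inferInstance⟩

/-- Right acyclicity of a single object. -/
theorem unit_single_isIso_iff [HasInjectiveResolutions C] (X : C) :
    IsIso (F.rightDerivedFunctorPlusUnit.app ((HomotopyCategory.Plus.singleFunctor C 0).obj X)) ↔
      (IsIso (F.toRightDerivedZero.app X) ∧ ∀ i : ℕ, 0 < i → IsZero ((F.rightDerived i).obj X)) := by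
  let R := injectiveResolution X
  let i : single X ⟶ ⟨R.cochainComplex, 0, inferInstance⟩ := ObjectProperty.homMk R.ι'
  have : QuasiIso i.hom := inferInstanceAs (QuasiIso R.ι')
  exact (unit_isIso_iff F i (fun n => inferInstance)).trans (quasiIso_map_ι'_iff F R)

omit [HasDerivedCategory.{w} C] [EnoughInjectives C] [HasDerivedCategory.{w'} D] in
theorem class_zero {I : ObjectProperty C}
    (h2 : ∀ S : ShortComplex C, S.ShortExact → I S.X₁ → I S.X₂ → I S.X₃ ∧ (S.map F).ShortExact)
    {X Z : C} (hX : I X) (hZ : IsZero Z) : I Z :=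
  (h2 (ShortComplex.mk (𝟙 X) (0 : X ⟶ Z) (hZ.eq_of_tgt _ _))
    { exact := ShortComplex.exact_of_f_is_kernel _ (KernelFork.IsLimit.ofId _ rfl)
      mono_f := inferInstanceAs (Mono (𝟙 X))
      epi_g := ⟨fun _ _ _ => hZ.eq_of_src _ _⟩ } hX hX).1

omit [EnoughInjectives C] [HasDerivedCategory.{w} C] [HasDerivedCategory.{w'} D] in
theorem exactAt_map_class {I : ObjectProperty C}
    (h2 : ∀ S : ShortComplex C, S.ShortExact → I S.X₁ → I S.X₂ → I S.X₃ ∧ (S.map F).ShortExact)
    (K : CochainComplex C ℤ) (m : ℤ) [K.IsStrictlyGE m] (hK : ∀ n, K.ExactAt n)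
    (hI : ∀ n, I (K.X n)) (n : ℤ) : ((F.mapHomologicalComplex (.up ℤ)).obj K).ExactAt n := by
  have hT : ∀ i : ℤ, (ShortComplex.mk (K.iCycles i) (K.toCycles i (i + 1))
      (by rw [← cancel_mono (K.iCycles (i + 1))]; simp)).ShortExact := fun i => by
    have h : Epi (K.toCycles i (i + 1)) := by
      have hz : K.homologyπ (i + 1) = 0 :=
        ((K.exactAt_iff_isZero_homology (i + 1)).1 (hK (i + 1))).eq_of_tgt _ _
      exact (ShortComplex.exact_of_g_is_cokernel (ShortComplex.mk _ _
        (K.toCycles_comp_homologyπ i (i + 1)))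
        (K.homologyIsCokernel i (i + 1) (by simp))).epi_f hz
    refine { exact := ?_, mono_f := inferInstance, epi_g := h }
    refine ShortComplex.exact_of_f_is_kernel _ (KernelFork.IsLimit.ofι _ _
      (fun g hg => K.liftCycles g (i + 1) (by simp) (by
        rw [← K.toCycles_i i (i + 1), ← Category.assoc]
        exact (congrArg (fun e => e ≫ K.iCycles (i + 1)) hg).trans zero_comp))
      (fun g hg => K.liftCycles_i _ _ _ _) (fun g hg b hb => ?_))
    exact (cancel_mono (K.iCycles i)).1 (hb.trans (K.liftCycles_i _ _ _ _).symm)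
  have hz : ∀ i : ℤ, I (K.cycles i) := by
    have h0 : ∀ i : ℤ, i < m → I (K.cycles i) := fun i hi =>
      class_zero F h2 (hI 0) (IsZero.of_mono (K.iCycles i) (K.isZero_of_isStrictlyGE m i hi))
    intro i
    rcases lt_or_ge i m with hi | hi
    · exact h0 i hi
    refine Int.leInduction (motive := fun i _ => I (K.cycles i)) ?_
      (fun j _ hj => (h2 _ (hT j) hj (hI j)).1) i (show m - 1 ≤ i by omega)
    exact h0 _ (by omega)
  have hF : ∀ i, (ShortComplex.mk (K.iCycles i) (K.toCycles i (i + 1))
      (by rw [← cancel_mono (K.iCycles (i + 1))]; simp) |>.map F).ShortExact := fun i =>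
    (h2 _ (hT i) (hz i) (hI i)).2
  obtain ⟨i, rfl⟩ : ∃ i, n = i + 1 := ⟨n - 1, by omega⟩
  rw [HomologicalComplex.exactAt_iff' _ i (i + 1) (i + 1 + 1) (by simp) (by simp),
    ShortComplex.exact_iff_exact_up_to_refinements]
  intro P x hx
  change x ≫ F.map (K.d (i + 1) (i + 1 + 1)) = 0 at hx
  have hm := (hF (i + 1 + 1)).mono_f
  have hx' : x ≫ F.map (K.toCycles (i + 1) (i + 1 + 1)) = 0 := by
    have : Mono (F.map (K.iCycles (i + 1 + 1))) := hm
    rw [← cancel_mono (F.map (K.iCycles (i + 1 + 1))), zero_comp, Category.assoc, ← F.map_comp, K.toCycles_i]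
    exact hx
  obtain ⟨P', π, hπ, y, hy⟩ := (hF (i + 1)).exact.exact_up_to_refinements x hx'
  change P' ⟶ F.obj (K.cycles (i + 1)) at y
  change π ≫ x = y ≫ F.map (K.iCycles (i + 1)) at hy
  have : Epi (F.map (K.toCycles i (i + 1))) := (hF i).epi_g
  obtain ⟨P'', π', hπ', z, hz'⟩ := surjective_up_to_refinements_of_epi (F.map (K.toCycles i (i + 1))) y
  refine ⟨P'', π' ≫ π, epi_comp _ _, z, ?_⟩
  change (π' ≫ π) ≫ x = z ≫ F.map (K.d i (i + 1))
  rw [Category.assoc, hy, ← Category.assoc, hz', Category.assoc, ← F.map_comp, K.toCycles_i]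

/-- Objects of an adapted class are right acyclic. -/
theorem unit_single_isIso_of_class [HasInjectiveResolutions C] (I : ObjectProperty C)
    (h1 : ∀ X : C, ∃ (Y : C) (ι : X ⟶ Y), I Y ∧ Mono ι)
    (h2 : ∀ S : ShortComplex C, S.ShortExact → I S.X₁ → I S.X₂ → I S.X₃ ∧ (S.map F).ShortExact)
    (X : C) (hX : I X) :
    IsIso (F.rightDerivedFunctorPlusUnit.app ((HomotopyCategory.Plus.singleFunctor C 0).obj X)) := by
  let R := injectiveResolution X
  let i : single X ⟶ ⟨R.cochainComplex, 0, inferInstance⟩ := ObjectProperty.homMk R.ι'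
  have : QuasiIso i.hom := inferInstanceAs (QuasiIso R.ι')
  refine (unit_isIso_iff F i (fun n => inferInstance)).2 ?_
  obtain ⟨Z, hZ⟩ : ∃ Z : C, IsZero Z := ⟨_, isZero_zero C⟩
  have hI0 : ∃ Z : C, IsZero Z ∧ I Z := ⟨Z, hZ, class_zero F h2 hX hZ⟩
  obtain ⟨L, j, hL, hLI, hj, hjq⟩ := Groth.L10.ClassRes.exists_res I h1 hI0 R.cochainComplex 0
  obtain ⟨L', k, h3, h4, h5⟩ := CochainComplex.Plus.modelCategoryQuillen.exists_quasiIso_injective L 0
  let G := F.mapHomologicalComplex (ComplexShape.up ℤ) ⋙ DerivedCategory.Q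
  have hjk : IsIso (G.map (j ≫ k)) := by
    have : L'.IsKInjective := CochainComplex.isKInjective_of_injective L' 0
    have : R.cochainComplex.IsKInjective := CochainComplex.isKInjective_of_injective _ 0
    have hh := (CochainComplex.IsKInjective.quasiIso_iff (j ≫ k)).1 inferInstance
    obtain ⟨e, he⟩ := hh
    have : QuasiIso ((F.mapHomologicalComplex (.up ℤ)).map (j ≫ k)) :=
      homotopyEquivalences_le_quasiIso _ _ _ ⟨F.mapHomotopyEquiv e, by simp [← he]⟩
    exact (DerivedCategory.isIso_Q_map_iff_quasiIso (C := D) _).2 this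
  have hij : IsIso (G.map (R.ι' ≫ j)) := by
    refine (DerivedCategory.isIso_Q_map_iff_quasiIso (C := D) _).2 ?_
    have hm : Mono (R.ι' ≫ j) := by
      refine HomologicalComplex.mono_of_mono_f _ fun n => ?_
      have := hj n
      have : Mono (R.ι'.f n) := by
        by_cases hn : n = 0
        · subst hn
          rw [R.ι'_f_zero]
          infer_instance
        · exact ⟨fun _ _ _ => (HomologicalComplex.isZero_single_obj_X _ _ _ _ hn).eq_of_tgt _ _⟩
      rw [HomologicalComplex.comp_f]
      exact mono_comp _ _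
    let T := ShortComplex.mk (R.ι' ≫ j) (cokernel.π (R.ι' ≫ j)) (cokernel.condition _)
    have hT : T.ShortExact :=
      { exact := T.exact_of_g_is_cokernel (cokernelIsCokernel _)
        mono_f := hm
        epi_g := inferInstanceAs (Epi (cokernel.π _)) }
    have hTe : ∀ n, (T.map (HomologicalComplex.eval C (.up ℤ) n)).ShortExact := fun n =>
      hT.map_of_exact (HomologicalComplex.eval C (.up ℤ) n)
    have hsrc : ∀ n, I (((CochainComplex.singleFunctor C 0).obj X).X n) := fun n => by
      by_cases hn : n = 0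
      · subst hn
        have e := HomologicalComplex.singleObjXSelf (ComplexShape.up ℤ) 0 X
        exact (h2 (ShortComplex.mk (0 : Z ⟶ X) e.inv zero_comp)
          { exact := (ShortComplex.exact_iff_mono _ rfl).2 (inferInstanceAs (Mono e.inv))
            mono_f := ⟨fun _ _ _ => hZ.eq_of_tgt _ _⟩
            epi_g := inferInstanceAs (Epi e.inv) } (class_zero F h2 hX hZ) hX).1
      · exact class_zero F h2 hX (HomologicalComplex.isZero_single_obj_X _ _ _ _ hn)
    have hC : ∀ n, I (T.X₃.X n) ∧ ((T.map (HomologicalComplex.eval C (.up ℤ) n)).map F).ShortExact := fun n =>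
      h2 _ (hTe n) (hsrc n) (hLI n)
    have hFT : (T.map (F.mapHomologicalComplex (.up ℤ))).ShortExact :=
      HomologicalComplex.shortExact_of_degreewise_shortExact _ (fun n => (hC n).2)
    have : T.X₃.IsStrictlyGE 0 := (CochainComplex.isStrictlyGE_iff _ _).2 fun n hn =>
      have := (hTe n).epi_g
      IsZero.of_epi ((T.map (HomologicalComplex.eval C (.up ℤ) n)).g) (L.isZero_of_isStrictlyGE 0 n hn)
    have hex : ∀ n, T.X₃.ExactAt n := by
      intro n
      rw [HomologicalComplex.exactAt_iff_isZero_homology]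
      have hqq : QuasiIso T.f := inferInstanceAs (QuasiIso (R.ι' ≫ j))
      exact (hT.homology_exact₃ n (n + 1) (by simp)).isZero_of_both_zeros
        ((hT.homology_exact₂ n).epi_f_iff.1 inferInstance)
        ((hT.homology_exact₁ n (n + 1) (by simp)).mono_g_iff.1 inferInstance)
    refine ⟨fun n => ?_⟩
    rw [quasiIsoAt_iff_isIso_homologyMap]
    have hz : ∀ q, IsZero ((T.map (F.mapHomologicalComplex (.up ℤ))).X₃.homology q) := fun q =>
      (HomologicalComplex.exactAt_iff_isZero_homology _ q).1
        (exactAt_map_class F h2 T.X₃ 0 hex (fun q => (hC q).1) q)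
    have hM := (hFT.homology_exact₁ (n - 1) n (by simp)).mono_g ((hz _).eq_of_src _ _)
    have hE := (hFT.homology_exact₂ n).epi_f ((hz _).eq_of_tgt _ _)
    have : Mono (HomologicalComplex.homologyMap ((F.mapHomologicalComplex (.up ℤ)).map (R.ι' ≫ j)) n) := hM
    have : Epi (HomologicalComplex.homologyMap ((F.mapHomologicalComplex (.up ℤ)).map (R.ι' ≫ j)) n) := hE
    exact isIso_of_mono_of_epi _
  have hji : IsIso (G.map j) := by
    rw [Functor.map_comp] at hjk hij
    have : IsSplitMono (G.map j) := IsSplitMono.mk' ⟨G.map k ≫ inv (G.map j ≫ G.map k), by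
      rw [← Category.assoc, IsIso.hom_inv_id]⟩
    have : Epi (G.map j) := epi_of_epi (G.map R.ι') _
    exact isIso_of_epi_of_isSplitMono _
  rw [Functor.map_comp] at hij
  have : IsIso (G.map R.ι') := IsIso.of_isIso_comp_right _ (G.map j)
  exact (DerivedCategory.isIso_Q_map_iff_quasiIso (C := D) _).1 this

end Groth.L00.RPlusUnit
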