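/-
Lower semicontinuity on the prime spectrum of the rank of base changes of a linear map between
finite projective modules, and the rank of a middle homology.
-/
import Mathlib.RingTheory.TensorProduct.Free
import Mathlib.RingTheory.LocalRing.ResidueField.Ideal
import Mathlib.LinearAlgebra.Matrix.Rank
import Mathlib.LinearAlgebra.Matrix.NonsingularInverse
import Mathlib.Algebra.Module.Projective
import Mathlib.RingTheory.Spectrum.Prime.Topology
import Mathlib.LinearAlgebra.Dimension.Constructions
import Mathlib.LinearAlgebra.Dimension.RankNullity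
import Mathlib.RingTheory.Finiteness.Projective

set_option autoImplicit false
set_option backward.isDefEq.respectTransparency false
set_option backward.isDefEq.respectTransparency.types false

universe u v w

open TensorProduct

namespace Groth.L00.RankSemi

/-- A matrix over a field of rank `r` has an `r × r` submatrix with non-zero determinant. -/
theorem exists_submatrix_det_ne_zero {K : Type u} [Field K] {m n : Type v} [Fintype m] [Fintype n]
    (N : Matrix m n K) :
    ∃ (s : Fin N.rank → m) (t : Fin N.rank → n), (N.submatrix s t).det ≠ 0 := by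
  classical
  obtain ⟨f, hf, -, hli⟩ := Submodule.exists_fun_fin_finrank_span_eq K (Set.range N.col)
  have hr : Module.finrank K (Submodule.span K (Set.range N.col)) = N.rank :=
    (Matrix.rank_eq_finrank_span_cols N).symm
  choose t₀ ht₀ using hf
  let t : Fin N.rank → n := t₀ ∘ Fin.cast hr.symm
  have hT : LinearIndependent K (N.submatrix id t).col := by
    have : (N.submatrix id t).col = f ∘ Fin.cast hr.symm := by
      funext i; exact ht₀ _
    rw [this]
    exact hli.comp _ (Fin.cast_injective _)
  have hrk : (N.submatrix id t).rank = N.rank := by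
    rw [Matrix.rank_eq_finrank_span_cols, finrank_span_eq_card hT, Fintype.card_fin]
  obtain ⟨g, hg, -, hlg⟩ := Submodule.exists_fun_fin_finrank_span_eq K (Set.range (N.submatrix id t).row)
  have hr' : Module.finrank K (Submodule.span K (Set.range (N.submatrix id t).row)) = N.rank :=
    (Matrix.rank_eq_finrank_span_row _).symm.trans hrk
  choose s₀ hs₀ using hg
  refine ⟨s₀ ∘ Fin.cast hr'.symm, t, ?_⟩
  have hS : LinearIndependent K (N.submatrix (s₀ ∘ Fin.cast hr'.symm) t).row := by
    have : (N.submatrix (s₀ ∘ Fin.cast hr'.symm) t).row = g ∘ Fin.cast hr'.symm := by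
      funext i; exact hs₀ _
    rw [this]
    exact hlg.comp _ (Fin.cast_injective _)
  exact ((Matrix.isUnit_iff_isUnit_det _).1
    (Matrix.linearIndependent_rows_iff_isUnit.1 hS)).ne_zero

variable {A : Type u} [CommRing A]

/-- the rank at a prime of a linear map -/
noncomputable def rkAt {X : Type v} {Y : Type w} [AddCommGroup X] [AddCommGroup Y] [Module A X]
    [Module A Y] (f : X →ₗ[A] Y) (x : PrimeSpectrum A) : ℕ :=
  Module.finrank x.asIdeal.ResidueField (LinearMap.range (f.baseChange x.asIdeal.ResidueField))

theorem rkAt_toLin' {n m : ℕ} (M : Matrix (Fin m) (Fin n) A) (x : PrimeSpectrum A) :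
    rkAt (Matrix.toLin' M) x = (M.map (algebraMap A x.asIdeal.ResidueField)).rank := by
  have h := LinearMap.toMatrix_baseChange (A := x.asIdeal.ResidueField) (Matrix.toLin' M)
    (Pi.basisFun A (Fin n)) (Pi.basisFun A (Fin m))
  have h2 : LinearMap.toMatrix (Pi.basisFun A (Fin n)) (Pi.basisFun A (Fin m)) (Matrix.toLin' M) = M := by
    ext i j; simp [LinearMap.toMatrix_apply, Matrix.toLin'_apply]
  rw [h2] at h
  rw [rkAt, ← h, Matrix.rank_eq_finrank_range_toLin _
    (Algebra.TensorProduct.basis x.asIdeal.ResidueField (Pi.basisFun A (Fin m)))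
    (Algebra.TensorProduct.basis x.asIdeal.ResidueField (Pi.basisFun A (Fin n))), Matrix.toLin_toMatrix]

theorem le_rkAt_toLin'_eventually {n m : ℕ} (M : Matrix (Fin m) (Fin n) A) (x : PrimeSpectrum A) :
    ∀ᶠ y in nhds x, rkAt (Matrix.toLin' M) x ≤ rkAt (Matrix.toLin' M) y := by
  classical
  simp only [rkAt_toLin']
  obtain ⟨s, t, hst⟩ := exists_submatrix_det_ne_zero (M.map (algebraMap A x.asIdeal.ResidueField))
  have hdet : ∀ y : PrimeSpectrum A,
      ((M.map (algebraMap A y.asIdeal.ResidueField)).submatrix s t).det =
        algebraMap A y.asIdeal.ResidueField (M.submatrix s t).det := fun y => by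
    rw [RingHom.map_det]; rfl
  have hx : (M.submatrix s t).det ∉ x.asIdeal := fun h => hst (by
    rw [hdet]; exact Ideal.algebraMap_residueField_eq_zero.2 h)
  filter_upwards [(PrimeSpectrum.isOpen_basicOpen).mem_nhds
    (show x ∈ PrimeSpectrum.basicOpen (M.submatrix s t).det from hx)] with y hy
  have hu : IsUnit ((M.map (algebraMap A y.asIdeal.ResidueField)).submatrix s t) := by
    rw [Matrix.isUnit_iff_isUnit_det, hdet, isUnit_iff_ne_zero]
    exact fun h => hy (Ideal.algebraMap_residueField_eq_zero.1 h)
  refine le_of_eq_of_le ?_ (Matrix.rank_submatrix_le (M.map (algebraMap A y.asIdeal.ResidueField)) s t)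
  rw [Matrix.rank_of_isUnit _ hu, Fintype.card_fin]

theorem le_rkAt_free_eventually {n m : ℕ} (f : (Fin n → A) →ₗ[A] (Fin m → A)) (x : PrimeSpectrum A) :
    ∀ᶠ y in nhds x, rkAt f x ≤ rkAt f y := by
  rw [← Matrix.toLin'_toMatrix' f]
  exact le_rkAt_toLin'_eventually _ x

theorem rkAt_comp_surjective {X Y : Type v} {W : Type w} [AddCommGroup X] [AddCommGroup Y]
    [AddCommGroup W] [Module A X] [Module A Y] [Module A W]
    (f : X →ₗ[A] Y) (r : W →ₗ[A] X) (i : X →ₗ[A] W) (hri : r.comp i = LinearMap.id)
    (x : PrimeSpectrum A) : rkAt (f.comp r) x = rkAt f x := by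
  unfold rkAt
  have hs : Function.Surjective (r.baseChange x.asIdeal.ResidueField) := fun z =>
    ⟨i.baseChange x.asIdeal.ResidueField z, by
      rw [← LinearMap.comp_apply, ← LinearMap.baseChange_comp, hri, LinearMap.baseChange_id]; rfl⟩
  rw [LinearMap.baseChange_comp, LinearMap.range_comp_of_range_eq_top _ (LinearMap.range_eq_top.2 hs)]

theorem rkAt_comp_injective {X : Type v} {Y : Type v} {W : Type w} [AddCommGroup X] [AddCommGroup Y]
    [AddCommGroup W] [Module A X] [Module A Y] [Module A W]
    (f : X →ₗ[A] Y) (i : Y →ₗ[A] W) (r : W →ₗ[A] Y) (hri : r.comp i = LinearMap.id)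
    (x : PrimeSpectrum A) : rkAt (i.comp f) x = rkAt f x := by
  unfold rkAt
  have hinj : Function.Injective (i.baseChange x.asIdeal.ResidueField) :=
    Function.LeftInverse.injective (g := r.baseChange x.asIdeal.ResidueField) fun z => by
      rw [← LinearMap.comp_apply, ← LinearMap.baseChange_comp, hri, LinearMap.baseChange_id]; rfl
  rw [LinearMap.baseChange_comp, LinearMap.range_comp]
  exact (Submodule.equivMapOfInjective _ hinj _).finrank_eq.symm

theorem le_rkAt_eventually {X Y : Type v} [AddCommGroup X] [AddCommGroup Y] [Module A X] [Module A Y]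
    [Module.Finite A X] [Module.Projective A X] [Module.Finite A Y] [Module.Projective A Y]
    (f : X →ₗ[A] Y) (x : PrimeSpectrum A) : ∀ᶠ y in nhds x, rkAt f x ≤ rkAt f y := by
  obtain ⟨n, rX, iX, -, -, hX⟩ := Module.Finite.exists_comp_eq_id_of_projective A X
  obtain ⟨m, rY, iY, -, -, hY⟩ := Module.Finite.exists_comp_eq_id_of_projective A Y
  have key : ∀ y, rkAt ((iY.comp f).comp rX) y = rkAt f y := fun y => by
    unfold rkAt
    have hs : Function.Surjective (rX.baseChange y.asIdeal.ResidueField) := fun z =>
      ⟨iX.baseChange y.asIdeal.ResidueField z, by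
        rw [← LinearMap.comp_apply, ← LinearMap.baseChange_comp, hX, LinearMap.baseChange_id]; rfl⟩
    rw [LinearMap.baseChange_comp,
      LinearMap.range_comp_of_range_eq_top _ (LinearMap.range_eq_top.2 hs)]
    exact rkAt_comp_injective f iY rY hY y
  filter_upwards [le_rkAt_free_eventually ((iY.comp f).comp rX) x] with y hy
  rwa [key, key] at hy

/-- upper semicontinuity of the fibre dimension -/
theorem finrank_baseChange_eventually_le {X : Type v} [AddCommGroup X] [Module A X]
    [Module.Finite A X] [Module.Projective A X] (x : PrimeSpectrum A) :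
    ∀ᶠ y in nhds x, Module.finrank y.asIdeal.ResidueField (y.asIdeal.ResidueField ⊗[A] X) ≤
      Module.finrank x.asIdeal.ResidueField (x.asIdeal.ResidueField ⊗[A] X) := by
  obtain ⟨n, r, i, -, -, h⟩ := Module.Finite.exists_comp_eq_id_of_projective A X
  set g : (Fin n → A) →ₗ[A] (Fin n → A) := LinearMap.id - i.comp r with hg
  have key : ∀ y : PrimeSpectrum A,
      Module.finrank y.asIdeal.ResidueField (y.asIdeal.ResidueField ⊗[A] X) + rkAt g y = n := fun y => by
    set K := y.asIdeal.ResidueField
    have hri : (r.baseChange K).comp (i.baseChange K) = LinearMap.id := by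
      rw [← LinearMap.baseChange_comp, h, LinearMap.baseChange_id]
    have hri' : ∀ z, r.baseChange K (i.baseChange K z) = z := fun z => LinearMap.congr_fun hri z
    have hker : LinearMap.range (g.baseChange K) = LinearMap.ker (r.baseChange K) := by
      rw [hg, LinearMap.baseChange_sub, LinearMap.baseChange_id, LinearMap.baseChange_comp]
      ext z
      simp only [LinearMap.mem_range, LinearMap.mem_ker, LinearMap.sub_apply, LinearMap.id_coe,
        id_eq, LinearMap.comp_apply]
      refine ⟨?_, fun hz => ⟨z, by rw [hz, map_zero, sub_zero]⟩⟩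
      rintro ⟨w, rfl⟩
      rw [map_sub, hri', sub_self]
    haveI : Nontrivial A := (algebraMap A K).domain_nontrivial
    haveI : FiniteDimensional K (K ⊗[A] (Fin n → A)) :=
      (Algebra.TensorProduct.basis K (Pi.basisFun A (Fin n))).finiteDimensional_of_finite
    have hrn := (r.baseChange K).finrank_range_add_finrank_ker
    rw [LinearMap.range_eq_top.2 (fun z => ⟨_, hri' z⟩), finrank_top] at hrn
    conv_rhs at hrn => rw [Module.finrank_baseChange, Module.finrank_fin_fun]
    rwa [rkAt, hker]
  filter_upwards [le_rkAt_free_eventually g x] with y hy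
  have := key x; have := key y
  omega

/-- The dimension of the middle homology. -/
theorem finrank_homology_add {K : Type*} [Field K] {X Y Z : Type*} [AddCommGroup X]
    [AddCommGroup Y] [AddCommGroup Z] [Module K X] [Module K Y] [Module K Z] [FiniteDimensional K Y]
    (f : X →ₗ[K] Y) (g : Y →ₗ[K] Z) (hfg : g.comp f = 0) :
    Module.finrank K (LinearMap.ker g ⧸ (LinearMap.range f).submoduleOf (LinearMap.ker g)) +
      Module.finrank K (LinearMap.range f) +
      Module.finrank K (LinearMap.range g) = Module.finrank K Y := by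
  have hle : LinearMap.range f ≤ LinearMap.ker g := LinearMap.range_le_ker_iff.2 hfg
  have h1 := Submodule.finrank_quotient_add_finrank
    ((LinearMap.range f).submoduleOf (LinearMap.ker g))
  rw [(Submodule.submoduleOfEquivOfLe hle).finrank_eq] at h1
  have h2 := g.finrank_range_add_finrank_ker
  omega

end Groth.L00.RankSemi
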