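import Mathlib.AlgebraicGeometry.Geometrically.Reduced
import Mathlib.AlgebraicGeometry.Pullbacks
import Mathlib.RingTheory.TensorProduct.Free
import Mathlib.RingTheory.LocalRing.ResidueField.Ideal

/-!
# Products with geometrically reduced schemes over a field
-/

set_option autoImplicit false
universe u

open CategoryTheory CategoryTheory.Limits AlgebraicGeometry
open scoped TensorProduct

namespace Groth.L00.ReducedProd

variable {k : Type u} [Field k]

theorem isReduced_tensor (A : Type u) [CommRing A] [Algebra k A] [_root_.IsReduced A] (B : Type u) [CommRing B]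
    [Algebra k B] (hB : ∀ (κ : Type u) [Field κ] [Algebra k κ], _root_.IsReduced (κ ⊗[k] B)) :
    _root_.IsReduced (A ⊗[k] B) := by
  refine ⟨fun x hx => ?_⟩
  let b := Module.Free.chooseBasis k B
  let bA := Algebra.TensorProduct.basis A b
  refine bA.repr.map_eq_zero_iff.mp (Finsupp.ext fun i => ?_)
  rw [Finsupp.zero_apply]
  refine IsReduced.eq_zero _ (nilpotent_iff_mem_prime.mpr fun p hp => ?_)
  let κ := p.ResidueField
  let bκ := Algebra.TensorProduct.basis κ b
  let φ : A →ₐ[k] κ := IsScalarTower.toAlgHom k A κ
  let ev : A ⊗[k] B →ₐ[k] κ ⊗[k] B := Algebra.TensorProduct.map φ (AlgHom.id k B)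
  haveI : _root_.IsReduced (κ ⊗[k] B) := hB κ
  have key : ∀ (z : A ⊗[k] B) (l), bκ.repr (ev z) l = φ (bA.repr z l) := by
    intro z l
    induction z using TensorProduct.induction_on with
    | zero => simp
    | tmul a v =>
        simp only [ev, bA, bκ, Algebra.TensorProduct.map_tmul, AlgHom.id_apply]
        erw [Algebra.TensorProduct.basis_repr_tmul, Algebra.TensorProduct.basis_repr_tmul]
        simp
    | add z w hz hw =>
        erw [map_add, map_add, map_add, Finsupp.add_apply, Finsupp.add_apply, map_add]
        erw [hz, hw]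
  rw [← Ideal.algebraMap_residueField_eq_zero]
  show φ (bA.repr x i) = 0
  rw [← key x i, IsReduced.eq_zero _ (hx.map ev), map_zero, Finsupp.zero_apply]

/-- The product over a field of a reduced scheme with a geometrically reduced one is reduced. -/
theorem isReduced_pullback {X Y : Scheme.{u}} (f : X ⟶ Spec (CommRingCat.of k)) (g : Y ⟶ Spec (CommRingCat.of k))
    [IsReduced X] [GeometricallyReduced g] : IsReduced (pullback f g) := by
  apply +allowSynthFailures @IsReduced.of_openCover
    (𝒰 := Scheme.Pullback.openCoverOfLeftRight X.affineOpenCover.openCover Y.affineOpenCover.openCover f g)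
  intro i
  let A := X.affineOpenCover.X i.1
  let B := Y.affineOpenCover.X i.2
  let j : Spec (CommRingCat.of A) ⟶ X := X.affineOpenCover.f i.1
  let j' : Spec (CommRingCat.of B) ⟶ Y := Y.affineOpenCover.f i.2
  letI : Algebra k A := (Spec.preimage (j ≫ f)).hom.toAlgebra
  letI : Algebra k B := (Spec.preimage (j' ≫ g)).hom.toAlgebra
  have hj : j ≫ f = Spec.map (CommRingCat.ofHom (algebraMap k A)) := (Spec.map_preimage _).symm
  have hj' : j' ≫ g = Spec.map (CommRingCat.ofHom (algebraMap k B)) := (Spec.map_preimage _).symm
  have : IsOpenImmersion j := X.affineOpenCover.map_prop i.1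
  have : IsOpenImmersion j' := Y.affineOpenCover.map_prop i.2
  have hA : IsReduced (Spec (CommRingCat.of A)) := isReduced_of_isOpenImmersion j
  rw [affine_isReduced_iff] at hA
  have hB : ∀ (κ : Type u) [Field κ] [Algebra k κ], _root_.IsReduced (κ ⊗[k] B) := by
    intro κ _ _
    let y : Spec (CommRingCat.of κ) ⟶ Spec (CommRingCat.of k) := Spec.map (CommRingCat.ofHom (algebraMap k κ))
    haveI : IsReduced (pullback g y) := GeometricallyReduced.geometrically_isReduced _ _ _ (.of_hasPullback g y)
    let m : pullback y (Spec.map (CommRingCat.ofHom (algebraMap k B))) ⟶ pullback y g :=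
      pullback.map _ _ _ _ (𝟙 _) j' (𝟙 _) (by simp) (by simp [hj'])
    haveI : IsReduced (pullback y g) := isReduced_of_isOpenImmersion (pullbackSymmetry y g).hom
    haveI : IsReduced (pullback y (Spec.map (CommRingCat.ofHom (algebraMap k B)))) := isReduced_of_isOpenImmersion m
    haveI : IsReduced (Spec (CommRingCat.of (κ ⊗[k] B))) := isReduced_of_isOpenImmersion (pullbackSpecIso k κ B).inv
    exact (affine_isReduced_iff _).1 this
  have : _root_.IsReduced (A ⊗[k] B) := isReduced_tensor A B hB
  let e : pullback (j ≫ f) (j' ≫ g) ≅ Spec (CommRingCat.of (A ⊗[k] B)) :=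
    pullback.congrHom hj hj' ≪≫ pullbackSpecIso k A B
  show IsReduced (pullback (j ≫ f) (j' ≫ g))
  exact isReduced_of_isOpenImmersion e.hom

end Groth.L00.ReducedProd
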