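import Groth.Agent.L23.SchKer
import Mathlib.AlgebraicGeometry.Morphisms.Immersion

/-!
# Reduced subschemes on locally closed subsets
-/

set_option autoImplicit false
universe u

open CategoryTheory AlgebraicGeometry

namespace Groth.L00.ReducedSub

variable {X Y W : Scheme.{u}}

/-- A morphism from a reduced scheme lifts through a reduced subscheme containing its image. -/
theorem exists_lift (w : W ⟶ X) [IsImmersion w] [IsReduced W] (i : Y ⟶ X) [IsReduced Y]
    (h : Set.range i ⊆ Set.range w) : ∃ l : Y ⟶ W, l ≫ w = i := by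
  have hsub : Set.range i ⊆ Set.range w.coborderRange.ι := by
    rw [Scheme.Opens.range_ι]
    exact h.trans subset_coborder
  let j := IsOpenImmersion.lift w.coborderRange.ι i hsub
  have hj : j ≫ w.coborderRange.ι = i := IsOpenImmersion.lift_fac _ _ _
  have hr : Set.range j ⊆ Set.range w.liftCoborder := by
    rintro _ ⟨y, rfl⟩
    obtain ⟨x, hx⟩ := h ⟨y, rfl⟩
    refine ⟨x, w.coborderRange.ι.isEmbedding.injective ?_⟩
    rw [← Scheme.Hom.comp_apply, ← Scheme.Hom.comp_apply, w.liftCoborder_ι, hj]
    exact hx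
  have hle : w.liftCoborder.ker ≤ j.ker := by
    rw [Groth.L23.SchKer.ker_eq_vanishingIdeal w.liftCoborder]
    exact Groth.L18.vanishingIdeal_le_ker j _ (hr.trans subset_closure)
  refine ⟨IsClosedImmersion.lift w.liftCoborder j hle, ?_⟩
  calc IsClosedImmersion.lift w.liftCoborder j hle ≫ w
      = IsClosedImmersion.lift w.liftCoborder j hle ≫ w.liftCoborder ≫ w.coborderRange.ι := by
        rw [w.liftCoborder_ι]
    _ = i := by rw [← Category.assoc, IsClosedImmersion.lift_fac, hj]

/-- A surjective immersion into a reduced scheme is an isomorphism. -/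
theorem isIso_of_isImmersion_surjective (f : Y ⟶ X) [IsImmersion f] [Surjective f] [IsReduced X] :
    IsIso f := by
  haveI : IsClosedImmersion f := IsClosedImmersion.of_isPreimmersion f (by
    rw [f.surjective.range_eq]; exact isClosed_univ)
  exact isIso_of_isClosedImmersion_of_surjective f

/-- Two reduced subschemes with the same underlying set are isomorphic. -/
theorem exists_iso (w : W ⟶ X) [IsImmersion w] [IsReduced W] (i : Y ⟶ X) [IsImmersion i] [IsReduced Y]
    (h : Set.range i = Set.range w) : ∃ e : Y ≅ W, e.hom ≫ w = i := by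
  obtain ⟨l, hl⟩ := exists_lift w i h.subset
  haveI : IsImmersion (l ≫ w) := hl ▸ inferInstance
  haveI : IsImmersion l := IsImmersion.of_comp l w
  haveI : Surjective l := ⟨fun x => by
    obtain ⟨y, hy⟩ := h.symm.subset ⟨x, rfl⟩
    refine ⟨y, w.isEmbedding.injective ?_⟩
    rw [← Scheme.Hom.comp_apply, hl]
    exact hy⟩
  haveI := isIso_of_isImmersion_surjective l
  exact ⟨asIso l, hl⟩

/-- Existence of the reduced subscheme on a locally closed subset. -/
theorem exists_reduced (Z : Set X) (hZ : IsLocallyClosed Z) :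
    ∃ (W : Scheme.{u}) (w : W ⟶ X), IsImmersion w ∧ IsReduced W ∧ Set.range w = Z := by
  let I := Scheme.IdealSheafData.vanishingIdeal (X := X) ⟨closure Z, isClosed_closure⟩
  haveI : IsReduced I.subscheme := Groth.L18.isReduced_vanishingIdeal_subscheme _
  let U : X.Opens := ⟨coborder Z, hZ.isOpen_coborder⟩
  let V := I.subschemeι ⁻¹ᵁ U
  refine ⟨V, V.ι ≫ I.subschemeι, inferInstance, isReduced_of_isOpenImmersion V.ι, ?_⟩
  have h1 : Set.range I.subschemeι = closure Z := by
    rw [Scheme.IdealSheafData.range_subschemeι]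
    exact Groth.L18.support_vanishingIdeal _
  ext x
  constructor
  · rintro ⟨v, rfl⟩
    rw [Scheme.Hom.comp_apply]
    have h2 : I.subschemeι (V.ι v) ∈ closure Z := h1.subset ⟨_, rfl⟩
    have h3 : I.subschemeι (V.ι v) ∈ coborder Z := v.2
    exact coborder_inter_closure (s := Z) ▸ ⟨h3, h2⟩
  · intro hx
    obtain ⟨v, hv⟩ := h1.symm.subset (subset_closure hx)
    refine ⟨⟨v, ?_⟩, ?_⟩
    · show I.subschemeι v ∈ coborder Z
      rw [hv]; exact subset_coborder hx
    · rw [Scheme.Hom.comp_apply]; exact hv

end Groth.L00.ReducedSub
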