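/-
Composition of total derived direct images.
-/
import Groth.Agent.L00.KFlatDerived
import Groth.Agent.L00.SheafHom
import Groth.Agent.L10.DerivedAdj
import Groth.Prelude.Def_DCoh2

set_option autoImplicit false
set_option backward.isDefEq.respectTransparency false
set_option backward.isDefEq.respectTransparency.types false

universe u

open CategoryTheory CategoryTheory.Limits AlgebraicGeometry

attribute [local instance] HasDerivedCategory.standard

namespace Groth.L00.RpushComp

open Groth.L00.KFlat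

variable {X Y Z : Scheme.{u}}

local notation "K" X => HomotopyCategory (Scheme.Modules X) (ComplexShape.up ℤ)

instance (X : Scheme.{u}) : IsGrothendieckAbelian.{u} X.Modules :=
  Groth.L00.Tensor.grothendieckAbelian_modules X

/-- `f_*` on homotopy categories -/
noncomputable abbrev push (f : X ⟶ Y) : (K X) ⥤ (K Y) :=
  (Scheme.Modules.pushforward f).mapHomotopyCategory (ComplexShape.up ℤ)

/-- maps from K-flat complexes into `J` do not see quasi-isomorphisms -/
def WK (J : K X) : Prop :=
  ∀ ⦃P' P : K X⦄ (s : P' ⟶ P), HomotopyCategory.quasiIso X.Modules (ComplexShape.up ℤ) s →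
    DCoh.IsKFlat P'.as → DCoh.IsKFlat P.as → Function.Bijective (fun g : P ⟶ J => s ≫ g)

theorem wk_kInjective (I : K X) (hI : CochainComplex.IsKInjective I.as) : WK I :=
  fun _ _ s hs _ _ => Groth.L10.KInjDerived.precomp_bijective s hs ⟨I, hI⟩

theorem wk_push (f : X ⟶ Y) {J : K X} (hJ : WK J) : WK ((push f).obj J) := by
  intro P' P s hs hP' hP
  let adj := Groth.L10.DerivedAdj.homotopyAdj (Scheme.Modules.pullbackPushforwardAdjunction f)
  obtain ⟨s₀, rfl⟩ := (HomotopyCategory.quotient Y.Modules (ComplexShape.up ℤ)).map_surjective (X := P'.as) (Y := P.as) s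
  haveI := (HomologicalComplex.mem_quasiIso_iff _).1 ((HomotopyCategory.quotient_map_mem_quasiIso_iff s₀).1 hs)
  haveI := quasiIso_pullback f s₀ hP' hP
  have hb := hJ (((Scheme.Modules.pullback f).mapHomotopyCategory (ComplexShape.up ℤ)).map
      ((HomotopyCategory.quotient Y.Modules (ComplexShape.up ℤ)).map s₀))
    ((HomotopyCategory.quotient_map_mem_quasiIso_iff
      (((Scheme.Modules.pullback f).mapHomologicalComplex (ComplexShape.up ℤ)).map s₀)).2
      ((HomologicalComplex.mem_quasiIso_iff _).2 inferInstance))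
    (pullback_kflat f _ hP') (pullback_kflat f _ hP)
  have e : (fun g => (HomotopyCategory.quotient Y.Modules (ComplexShape.up ℤ)).map s₀ ≫ g) ∘
      (adj.homEquiv P J) = (adj.homEquiv P' J) ∘
        (fun g => ((Scheme.Modules.pullback f).mapHomotopyCategory (ComplexShape.up ℤ)).map
          ((HomotopyCategory.quotient Y.Modules (ComplexShape.up ℤ)).map s₀) ≫ g) := by
    funext g
    exact (adj.homEquiv_naturality_left _ g).symm
  exact (Function.Bijective.of_comp_iff _ (adj.homEquiv P J).bijective).1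
    (e ▸ (adj.homEquiv P' J).bijective.comp hb)

/-- K-flat resolution in the homotopy category -/
theorem exists_kflat (P : K X) : ∃ (P' : K X) (r : P' ⟶ P), DCoh.IsKFlat P'.as ∧
    HomotopyCategory.quasiIso X.Modules (ComplexShape.up ℤ) r :=
  ⟨(HomotopyCategory.quotient _ _).obj ((RF X).obj P.as),
    (HomotopyCategory.quotient _ _).map ((rF X).app P.as), isKFlat_RF _,
    (HomotopyCategory.quotient_map_mem_quasiIso_iff _).2 ((HomologicalComplex.mem_quasiIso_iff _).2 (quasiIso_rF _))⟩

theorem isIso_Qh {P' P : K X} {r : P' ⟶ P} (hr : HomotopyCategory.quasiIso X.Modules (ComplexShape.up ℤ) r) :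
    IsIso (DerivedCategory.Qh.map r) :=
  Localization.inverts DerivedCategory.Qh (HomotopyCategory.quasiIso X.Modules (ComplexShape.up ℤ)) r hr

theorem qh_bijective {J P : K X} (hJ : WK J) (hP : DCoh.IsKFlat P.as) :
    Function.Bijective (DerivedCategory.Qh.map : (P ⟶ J) → _) := by
  refine ⟨fun a b h => ?_, fun t => ?_⟩
  · obtain ⟨Z, s, hs, e⟩ :=
      (MorphismProperty.map_eq_iff_precomp DerivedCategory.Qh
        (HomotopyCategory.quasiIso X.Modules (ComplexShape.up ℤ)) a b).1 h
    obtain ⟨Z', r, hZ', hr⟩ := exists_kflat Z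
    exact (hJ (r ≫ s) (MorphismProperty.comp_mem _ _ _ hr hs) hZ' hP).injective (by simp [e])
  · obtain ⟨φ, rfl⟩ := Localization.exists_rightFraction DerivedCategory.Qh
      (HomotopyCategory.quasiIso X.Modules (ComplexShape.up ℤ)) t
    obtain ⟨Z', r, hZ', hr⟩ := exists_kflat φ.X'
    obtain ⟨g, hg⟩ := (hJ (r ≫ φ.s) (MorphismProperty.comp_mem _ _ _ hr φ.hs) hZ' hP).surjective (r ≫ φ.f)
    haveI := isIso_Qh φ.hs
    haveI := isIso_Qh hr
    refine ⟨g, ?_⟩
    have h := congrArg DerivedCategory.Qh.map hg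
    simp only [Functor.map_comp, Category.assoc, cancel_epi] at h
    rw [← cancel_epi (DerivedCategory.Qh.map φ.s), h, MorphismProperty.RightFraction.map_s_comp_map]

theorem isIso_of_bijective {J J' : K X} (hJ : WK J) (hJ' : WK J') (h : J ⟶ J')
    (hb : ∀ P : K X, DCoh.IsKFlat P.as → Function.Bijective (fun a : P ⟶ J => a ≫ h)) :
    IsIso (DerivedCategory.Qh.map h) := by
  obtain ⟨P, r, hP, hr⟩ := exists_kflat J'
  obtain ⟨P₀, r₀, hP₀, hr₀⟩ := exists_kflat J
  haveI := isIso_Qh hr
  haveI := isIso_Qh hr₀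
  obtain ⟨a, ha⟩ := (hb P hP).surjective r
  have ha' : DerivedCategory.Qh.map a ≫ DerivedCategory.Qh.map h = DerivedCategory.Qh.map r := by
    rw [← Functor.map_comp]; exact congrArg DerivedCategory.Qh.map ha
  refine ⟨inv (DerivedCategory.Qh.map r) ≫ DerivedCategory.Qh.map a, ?_, by simp [ha']⟩
  rw [← cancel_epi (DerivedCategory.Qh.map r₀)]
  obtain ⟨c, hc⟩ := (qh_bijective hJ hP₀).surjective
    (DerivedCategory.Qh.map r₀ ≫ DerivedCategory.Qh.map h ≫ inv (DerivedCategory.Qh.map r) ≫ DerivedCategory.Qh.map a)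
  rw [← hc, Category.comp_id]
  refine congrArg DerivedCategory.Qh.map ((hb P₀ hP₀).injective ((qh_bijective hJ' hP₀).injective ?_))
  simp only [Functor.map_comp, hc, Category.assoc, ha', IsIso.inv_hom_id_assoc, IsIso.inv_hom_id, Category.comp_id]

/-- `g_*` keeps a quasi-isomorphism from a weakly K-injective into a K-injective -/
theorem isIso_push_map (g : Y ⟶ Z) {J I : K Y} (hJ : WK J) (hI : WK I) (w : J ⟶ I)
    (hw : HomotopyCategory.quasiIso Y.Modules (ComplexShape.up ℤ) w) :
    IsIso (DerivedCategory.Qh.map ((push g).map w)) := by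
  refine isIso_of_bijective (wk_push g hJ) (wk_push g hI) _ fun P hP => ?_
  let adj := Groth.L10.DerivedAdj.homotopyAdj (Scheme.Modules.pullbackPushforwardAdjunction g)
  have hP' : DCoh.IsKFlat (((Scheme.Modules.pullback g).mapHomotopyCategory (ComplexShape.up ℤ)).obj P).as :=
    pullback_kflat g _ hP
  have hb : Function.Bijective
      (fun b : ((Scheme.Modules.pullback g).mapHomotopyCategory (ComplexShape.up ℤ)).obj P ⟶ J => b ≫ w) := by
    haveI := isIso_Qh hw
    refine (Function.Bijective.of_comp_iff' (qh_bijective hI hP') _).1 ?_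
    have e : DerivedCategory.Qh.map ∘ (fun b => b ≫ w) = (fun t => t ≫ DerivedCategory.Qh.map w) ∘
        (DerivedCategory.Qh.map : ((((Scheme.Modules.pullback g).mapHomotopyCategory (ComplexShape.up ℤ)).obj P) ⟶ J) → _) := by
      funext b; exact DerivedCategory.Qh.map_comp b w
    rw [e]
    exact ((asIso (DerivedCategory.Qh.map w)).homToEquiv.bijective).comp (qh_bijective hJ hP')
  have e : (fun a => a ≫ (push g).map w) ∘ (adj.homEquiv P J) = (adj.homEquiv P I) ∘ (fun b => b ≫ w) := by
    funext b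
    exact (adj.homEquiv_naturality_right b w).symm
  exact (Function.Bijective.of_comp_iff _ (adj.homEquiv P J).bijective).1
    (e ▸ (adj.homEquiv P I).bijective.comp hb)

/-- composites of direct images on the homotopy category -/
noncomputable def pushCompIso (f : X ⟶ Y) (g : Y ⟶ Z) : push f ⋙ push g ≅ push (f ≫ g) :=
  NatIso.ofComponents (fun P => (HomotopyCategory.quotient Z.Modules (ComplexShape.up ℤ)).mapIso
      (HomologicalComplex.Hom.isoOfComponents (fun i => (Scheme.Modules.pushforwardComp f g).app (P.as.X i))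
        (fun i j _ => ((Scheme.Modules.pushforwardComp f g).hom.naturality (P.as.d i j)).symm)))
    fun {P Q} φ => by
      obtain ⟨φ, rfl⟩ := (HomotopyCategory.quotient X.Modules (ComplexShape.up ℤ)).map_surjective (X := P.as) (Y := Q.as) φ
      refine ((HomotopyCategory.quotient Z.Modules (ComplexShape.up ℤ)).map_comp _ _).symm.trans
        (Eq.trans (congrArg _ ?_) ((HomotopyCategory.quotient Z.Modules (ComplexShape.up ℤ)).map_comp _ _))
      ext i : 1
      exact (Scheme.Modules.pushforwardComp f g).hom.naturality (φ.f i)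

/-- the unit of `Rg_*` at a weakly K-injective complex -/
theorem isIso_unit (g : Y ⟶ Z) [DCoh.HasRpush g] (J : K Y) (hJ : WK J) :
    IsIso (((DCoh.pushKh g).totalRightDerivedUnit DerivedCategory.Qh
      (HomotopyCategory.quasiIso Y.Modules (ComplexShape.up ℤ))).app J) := by
  obtain ⟨R⟩ := Groth.L10.KInjDerived.exists_rightResolution J
  let η := (DCoh.pushKh g).totalRightDerivedUnit DerivedCategory.Qh
    (HomotopyCategory.quasiIso Y.Modules (ComplexShape.up ℤ))
  haveI : IsIso (η.app ((Groth.L10.KInjDerived.locMor Y.Modules).functor.obj R.X₁)) :=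
    Groth.L10.KInjDerived.isIso_app_of_isKInjective η R.X₁.obj R.X₁.property
  haveI : IsIso ((DCoh.pushKh g).map R.w) :=
    isIso_push_map g hJ (wk_kInjective _ R.X₁.property) R.w R.hw
  haveI := isIso_Qh (X := Y) R.hw
  haveI : IsIso (η.app J ≫ (DerivedCategory.Qh ⋙ DCoh.Rpush g).map R.w) := by
    rw [← η.naturality R.w]; exact IsIso.comp_isIso
  haveI : IsIso ((DerivedCategory.Qh ⋙ DCoh.Rpush g).map R.w) :=
    inferInstanceAs (IsIso ((DCoh.Rpush g).map (DerivedCategory.Qh.map R.w)))
  exact IsIso.of_isIso_comp_right (η.app J) ((DerivedCategory.Qh ⋙ DCoh.Rpush g).map R.w)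

theorem rpush_comp (f : X ⟶ Y) (g : Y ⟶ Z) [DCoh.HasRpush f] [DCoh.HasRpush g] [DCoh.HasRpush (f ≫ g)] :
    Nonempty (DCoh.Rpush f ⋙ DCoh.Rpush g ≅ DCoh.Rpush (f ≫ g)) := by
  let ι := (Groth.L10.KInjDerived.kInj X.Modules).ι
  let ηf := (DCoh.pushKh f).totalRightDerivedUnit DerivedCategory.Qh (HomotopyCategory.quasiIso X.Modules (ComplexShape.up ℤ))
  let ηg := (DCoh.pushKh g).totalRightDerivedUnit DerivedCategory.Qh (HomotopyCategory.quasiIso Y.Modules (ComplexShape.up ℤ))
  let ηh := (DCoh.pushKh (f ≫ g)).totalRightDerivedUnit DerivedCategory.Qh (HomotopyCategory.quasiIso X.Modules (ComplexShape.up ℤ))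
  haveI : ∀ P, IsIso ((Functor.whiskerLeft ι ηf).app P) := fun P =>
    Groth.L10.KInjDerived.isIso_app_of_isKInjective ηf P.obj P.property
  haveI : ∀ P, IsIso ((Functor.whiskerLeft ι ηh).app P) := fun P =>
    Groth.L10.KInjDerived.isIso_app_of_isKInjective ηh P.obj P.property
  haveI : ∀ P, IsIso ((Functor.whiskerLeft (ι ⋙ push f) ηg).app P) := fun P =>
    isIso_unit g _ (wk_push f (wk_kInjective P.obj P.property))
  haveI := NatIso.isIso_of_isIso_app (Functor.whiskerLeft ι ηf)
  haveI := NatIso.isIso_of_isIso_app (Functor.whiskerLeft ι ηh)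
  haveI := NatIso.isIso_of_isIso_app (Functor.whiskerLeft (ι ⋙ push f) ηg)
  let e : (ι ⋙ DerivedCategory.Qh) ⋙ DCoh.Rpush f ⋙ DCoh.Rpush g ≅
      (ι ⋙ DerivedCategory.Qh) ⋙ DCoh.Rpush (f ≫ g) :=
    Functor.isoWhiskerRight (asIso (Functor.whiskerLeft ι ηf)).symm (DCoh.Rpush g) ≪≫
      (asIso (Functor.whiskerLeft (ι ⋙ push f) ηg)).symm ≪≫
      Functor.isoWhiskerLeft ι (Functor.isoWhiskerRight (pushCompIso f g) DerivedCategory.Qh) ≪≫
      asIso (Functor.whiskerLeft ι ηh)
  let E := (ι ⋙ DerivedCategory.Qh).asEquivalence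
  exact ⟨(Functor.leftUnitor _).symm ≪≫ Functor.isoWhiskerRight E.counitIso.symm _ ≪≫
    Functor.associator _ _ _ ≪≫ Functor.isoWhiskerLeft E.inverse e ≪≫ (Functor.associator _ _ _).symm ≪≫
    Functor.isoWhiskerRight E.counitIso _ ≪≫ Functor.leftUnitor _⟩

end Groth.L00.RpushComp
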