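/-
`Rf_*` commutes with derived limits.
-/
import Groth.Agent.L00.RpushComp
import Groth.Agent.L10.HomotopyProd
import Groth.Agent.L10.KInj

set_option autoImplicit false
set_option backward.isDefEq.respectTransparency false
set_option backward.isDefEq.respectTransparency.types false

universe u

open CategoryTheory CategoryTheory.Limits AlgebraicGeometry CochainComplex Pretriangulated

attribute [local instance] HasDerivedCategory.standard

namespace Groth.L00.RpushLim

open Groth.L00.KFlat Groth.L00.RpushComp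

variable {X Y : Scheme.{u}}

local notation "qK" X => HomotopyCategory.quotient (Scheme.Modules X) (ComplexShape.up ℤ)

/-- `Q` through the homotopy category -/
noncomputable abbrev Qq (X : Scheme.{u}) : CochainComplex X.Modules ℤ ⥤ DCoh.D X :=
  (qK X) ⋙ DerivedCategory.Qh

/-- `f_*` on complexes -/
noncomputable abbrev M (f : X ⟶ Y) : CochainComplex X.Modules ℤ ⥤ CochainComplex Y.Modules ℤ :=
  (Scheme.Modules.pushforward f).mapHomologicalComplex (ComplexShape.up ℤ)

/-- the unit of `Rf_*` on complexes -/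
noncomputable def u (f : X ⟶ Y) [DCoh.HasRpush f] :
    M f ⋙ DerivedCategory.Q ⟶ DerivedCategory.Q ⋙ DCoh.Rpush f :=
  (Functor.isoWhiskerLeft (M f) (DerivedCategory.quotientCompQhIso Y.Modules).symm ≪≫
    (Functor.associator _ _ _).symm ≪≫
    Functor.isoWhiskerRight ((Scheme.Modules.pushforward f).mapHomotopyCategoryFactors (ComplexShape.up ℤ)).symm _ ≪≫
    Functor.associator _ _ _).hom ≫
    Functor.whiskerLeft (qK X) ((DCoh.pushKh f).totalRightDerivedUnit DerivedCategory.Qh
      (HomotopyCategory.quasiIso X.Modules (ComplexShape.up ℤ))) ≫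
    (Functor.associator _ _ _).inv ≫ Functor.whiskerRight (DerivedCategory.quotientCompQhIso X.Modules).hom _

theorem isIso_u (f : X ⟶ Y) [DCoh.HasRpush f] (I : CochainComplex X.Modules ℤ) [I.IsKInjective] :
    IsIso ((u f).app I) := by
  haveI : IsIso (((DCoh.pushKh f).totalRightDerivedUnit DerivedCategory.Qh
      (HomotopyCategory.quasiIso X.Modules (ComplexShape.up ℤ))).app ((qK X).obj I)) :=
    Groth.L10.KInjDerived.isIso_app_quotient _ I
  simp only [u, NatTrans.comp_app, Functor.whiskerLeft_app]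
  infer_instance

theorem isKInjective_cone {A B : CochainComplex X.Modules ℤ} (φ : A ⟶ B) [A.IsKInjective] [B.IsKInjective] :
    (mappingCone φ).IsKInjective := by
  rw [isKInjective_iff_rightOrthogonal]
  exact ObjectProperty.ext_of_isTriangulatedClosed₃ _ _
    (HomotopyCategory.mappingCone_triangleh_distinguished φ)
    (IsKInjective.rightOrthogonal A) (IsKInjective.rightOrthogonal B)

theorem wk_quotient (f : X ⟶ Y) (I : CochainComplex X.Modules ℤ) [I.IsKInjective] :
    WK (X := Y) ((qK Y).obj ((M f).obj I)) :=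
  wk_push f (wk_kInjective ((qK X).obj I) (inferInstanceAs I.IsKInjective))

/-- products of direct images of K-injectives are products in the derived category -/
theorem prod_bijective (f : X ⟶ Y) {ι : Type} (I : ι → CochainComplex X.Modules ℤ) [∀ i, (I i).IsKInjective]
    (Z : DCoh.D Y) :
    Function.Bijective (fun (g : Z ⟶ (Qq Y).obj (∏ᶜ fun i => (M f).obj (I i))) i =>
      g ≫ (Qq Y).map (Pi.π (fun i => (M f).obj (I i)) i)) := by
  haveI : (∏ᶜ I).IsKInjective := Groth.L10.s0480 I (fun i => inferInstance)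
  obtain ⟨P, r, hP, hr⟩ := exists_kflat (DerivedCategory.Qh.objPreimage Z)
  haveI := isIso_Qh (X := Y) hr
  let e : DerivedCategory.Qh.obj P ≅ Z :=
    asIso (DerivedCategory.Qh.map r) ≪≫ DerivedCategory.Qh.objObjPreimageIso Z
  have hprod : WK (X := Y) ((qK Y).obj (∏ᶜ fun i => (M f).obj (I i))) := by
    intro P' P₁ s hs hP' hP₁
    have hb := fun i => wk_quotient f (I i) s hs hP' hP₁
    have h₁ := Groth.L10.HomotopyProd.hom_to_product_bijective (fun i => (M f).obj (I i)) P₁
    have h₂ := Groth.L10.HomotopyProd.hom_to_product_bijective (fun i => (M f).obj (I i)) P'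
    refine ⟨fun a b hab => h₁.injective (funext fun i => (hb i).injective ?_), fun c => ?_⟩
    · exact (Category.assoc _ _ _).symm.trans ((congrArg (fun k => k ≫ _) hab).trans (Category.assoc _ _ _))
    · choose g hg using fun i => (hb i).surjective (c ≫ (qK Y).map (Pi.π (fun i => (M f).obj (I i)) i))
      obtain ⟨y, hy⟩ := h₁.surjective g
      exact ⟨y, h₂.injective (funext fun i =>
        (Category.assoc _ _ _).trans ((congrArg (fun k => s ≫ k) (congrFun hy i)).trans (hg i)))⟩
  refine ⟨fun g g' h => ?_, fun t => ?_⟩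
  · obtain ⟨x, hx⟩ := (qh_bijective hprod hP).surjective (e.hom ≫ g)
    obtain ⟨x', hx'⟩ := (qh_bijective hprod hP).surjective (e.hom ≫ g')
    rw [← cancel_epi e.hom, ← hx, ← hx']
    refine congrArg DerivedCategory.Qh.map
      ((Groth.L10.HomotopyProd.hom_to_product_bijective _ P).injective (funext fun i => ?_))
    refine (qh_bijective (wk_quotient f (I i)) hP).injective ?_
    rw [Functor.map_comp, Functor.map_comp, hx, hx', Category.assoc, Category.assoc]
    exact congrArg _ (congrFun h i)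
  · choose x hx using fun i => (qh_bijective (wk_quotient f (I i)) hP).surjective (e.hom ≫ t i)
    obtain ⟨y, hy⟩ := (Groth.L10.HomotopyProd.hom_to_product_bijective _ P).surjective x
    refine ⟨e.inv ≫ DerivedCategory.Qh.map y, funext fun i => ?_⟩
    rw [← cancel_epi e.hom, ← hx i]
    simp only [Category.assoc, Iso.hom_inv_id_assoc]
    exact (DerivedCategory.Qh.map_comp _ _).symm.trans (congrArg DerivedCategory.Qh.map (congrFun hy i))

/-- identify with a given product -/
theorem isIso_lift {T : Type*} [Category T] {ι : Type} (K : ι → T) [HasProduct K] {P : T} (p : ∀ i, P ⟶ K i)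
    (h : ∀ Z, Function.Bijective (fun (g : Z ⟶ P) i => g ≫ p i)) : IsIso (Pi.lift p) := by
  obtain ⟨v, hv⟩ := (h (∏ᶜ K)).surjective (fun i => Pi.π K i)
  refine ⟨v, (h P).injective (funext fun i => ?_), Pi.hom_ext _ _ fun i => ?_⟩
  · rw [Category.assoc]
    exact (congrArg (fun k => Pi.lift p ≫ k) (congrFun hv i)).trans ((Pi.lift_π p i).trans (Category.id_comp _).symm)
  · rw [Category.assoc, Pi.lift_π, Category.id_comp]
    exact congrFun hv i

/-- `Q` of a cone, shifted back, sits in a distinguished triangle -/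
noncomputable def shiftConeIso {A B : CochainComplex X.Modules ℤ} (φ : A ⟶ B) :
    DerivedCategory.Q.obj ((mappingCone φ)⟦(-1 : ℤ)⟧) ≅ (DerivedCategory.Q.obj (mappingCone φ))⟦(-1 : ℤ)⟧ :=
  ((DerivedCategory.Q (C := X.Modules)).commShiftIso (-1 : ℤ)).app _

theorem isRlim_Rpush (f : X ⟶ Y) [DCoh.HasRpush f] (K : ℕ → DCoh.D X) (t : ∀ n, K (n + 1) ⟶ K n)
    [HasProduct K] [HasProduct fun n => (DCoh.Rpush f).obj (K n)] (L : DCoh.D X) (hL : DCoh.IsRlim K t L) :
    DCoh.IsRlim (fun n => (DCoh.Rpush f).obj (K n)) (fun n => (DCoh.Rpush f).map (t n)) ((DCoh.Rpush f).obj L) := by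
  obtain ⟨a, c, hT⟩ := hL
  -- K-injective representatives
  let E := Groth.L10.KInjDerived.equiv (A := X.Modules)
  let I : ℕ → CochainComplex X.Modules ℤ := fun n => (E.inverse.obj (K n)).obj.as
  haveI : ∀ n, (I n).IsKInjective := fun n => (E.inverse.obj (K n)).property
  let e : ∀ n, DerivedCategory.Q.obj (I n) ≅ K n := fun n =>
    (DerivedCategory.quotientCompQhIso X.Modules).symm.app (I n) ≪≫ E.counitIso.app (K n)
  have hs : ∀ n, ∃ s : I (n + 1) ⟶ I n, DerivedCategory.Q.map s = (e (n + 1)).hom ≫ t n ≫ (e n).inv := fun n => by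
    obtain ⟨g, hg⟩ := (IsKInjective.Qh_map_bijective (C := X.Modules) ((qK X).obj (I (n + 1))) (I n)).surjective
      ((DerivedCategory.quotientCompQhIso X.Modules).hom.app _ ≫ ((e (n + 1)).hom ≫ t n ≫ (e n).inv) ≫
        (DerivedCategory.quotientCompQhIso X.Modules).inv.app _)
    obtain ⟨s, rfl⟩ := (qK X).map_surjective g
    refine ⟨s, ?_⟩
    rw [← cancel_epi ((DerivedCategory.quotientCompQhIso X.Modules).hom.app (I (n + 1))),
      ← (DerivedCategory.quotientCompQhIso X.Modules).hom.naturality s]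
    erw [hg]; simp
  choose s hs using hs
  haveI : (∏ᶜ I).IsKInjective := Groth.L10.s0480 I (fun i => inferInstance)
  let δ₀ : ∏ᶜ I ⟶ ∏ᶜ I := Pi.lift fun n => Pi.π I n - Pi.π I (n + 1) ≫ s n
  -- the product in `D(X)`
  let p : ∀ n, DerivedCategory.Q.obj (∏ᶜ I) ⟶ K n := fun n => DerivedCategory.Q.map (Pi.π I n) ≫ (e n).hom
  let qi := DerivedCategory.quotientCompQhIso X.Modules
  haveI : IsIso (Pi.lift p) := isIso_lift K p fun Z => by
    have h := Groth.L10.DerivedProd.hom_to_product_bijective I Z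
    refine ⟨fun g g' hgg => ?_, fun v => ?_⟩
    · rw [← cancel_mono (qi.inv.app (∏ᶜ I))]
      refine h.injective (funext fun n => ?_)
      have h1 : qi.inv.app (∏ᶜ I) ≫ DerivedCategory.Qh.map ((qK X).map (Pi.π I n)) =
          DerivedCategory.Q.map (Pi.π I n) ≫ qi.inv.app (I n) := (qi.inv.naturality (Pi.π I n)).symm
      have h2 := congrFun hgg n
      simp only [p, ← Category.assoc, cancel_mono] at h2
      simp only [Category.assoc, h1]
      rw [← Category.assoc, h2, Category.assoc]
    · obtain ⟨y, hy⟩ := h.surjective fun n => v n ≫ (e n).inv ≫ qi.inv.app (I n)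
      refine ⟨y ≫ qi.hom.app (∏ᶜ I), funext fun n => ?_⟩
      have h1 : qi.hom.app (∏ᶜ I) ≫ DerivedCategory.Q.map (Pi.π I n) =
          DerivedCategory.Qh.map ((qK X).map (Pi.π I n)) ≫ qi.hom.app (I n) := (qi.hom.naturality (Pi.π I n)).symm
      change (y ≫ qi.hom.app (∏ᶜ I)) ≫ DerivedCategory.Q.map (Pi.π I n) ≫ (e n).hom = v n
      rw [Category.assoc, reassoc_of% h1, reassoc_of% (congrFun hy n)]
      simp
  let φ : DerivedCategory.Q.obj (∏ᶜ I) ≅ ∏ᶜ K := asIso (Pi.lift p)
  have hφ : DerivedCategory.Q.map δ₀ ≫ φ.hom =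
      φ.hom ≫ Pi.lift (fun n => Pi.π K n - Pi.π K (n + 1) ≫ t n) := Pi.hom_ext _ _ fun n => by
    simp only [φ, asIso_hom, Category.assoc, Pi.lift_π, Preadditive.comp_sub, Pi.lift_π_assoc, p]
    rw [← Category.assoc, ← Functor.map_comp, Pi.lift_π, Functor.map_sub, Functor.map_comp, hs]
    simp [Preadditive.sub_comp]
  -- the limit is the shifted cone
  haveI := isKInjective_cone δ₀
  let C := (mappingCone δ₀)⟦(-1 : ℤ)⟧
  let eT := isoTriangleOfIso₁₂ _ (Triangle.mk a (Pi.lift fun n => Pi.π K n - Pi.π K (n + 1) ≫ t n) c).rotate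
    (DerivedCategory.mappingCone_triangle_distinguished δ₀) (rot_of_distTriang _ hT) φ φ hφ
  let eL : DerivedCategory.Q.obj C ≅ L :=
    shiftConeIso δ₀ ≪≫ (CategoryTheory.shiftFunctor _ (-1 : ℤ)).mapIso (Triangle.π₃.mapIso eT) ≪≫
      (shiftFunctorCompIsoId _ (1 : ℤ) (-1) (by omega)).app L
  haveI := isIso_u f C
  let eRL : (DCoh.Rpush f).obj L ≅ (DerivedCategory.Q.obj (mappingCone ((M f).map δ₀)))⟦(-1 : ℤ)⟧ :=
    (DCoh.Rpush f).mapIso eL.symm ≪≫ (asIso ((u f).app C)).symm ≪≫
      DerivedCategory.Q.mapIso (((M f).commShiftIso (-1 : ℤ)).app (mappingCone δ₀) ≪≫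
        (CategoryTheory.shiftFunctor _ (-1 : ℤ)).mapIso
          (mappingCone.mapHomologicalComplexIso δ₀ (Scheme.Modules.pushforward f))) ≪≫
      shiftConeIso ((M f).map δ₀)
  -- the product in `D(Y)`
  haveI : ∀ n, IsIso ((u f).app (I n)) := fun n => isIso_u f (I n)
  let e' : ∀ n, DerivedCategory.Q.obj ((M f).obj (I n)) ≅ (DCoh.Rpush f).obj (K n) := fun n =>
    asIso ((u f).app (I n)) ≪≫ (DCoh.Rpush f).mapIso (e n)
  let p' : ∀ n, DerivedCategory.Q.obj ((M f).obj (∏ᶜ I)) ⟶ (DCoh.Rpush f).obj (K n) := fun n =>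
    DerivedCategory.Q.map ((M f).map (Pi.π I n)) ≫ (e' n).hom
  haveI : PreservesLimitsOfShape (Discrete ℕ) (M f) := by
    haveI : PreservesLimitsOfSize.{0, 0} (Scheme.Modules.pushforward f) :=
      (Scheme.Modules.pullbackPushforwardAdjunction f).rightAdjoint_preservesLimits
    exact HomologicalComplex.preservesLimitsOfShape_of_eval _ fun q =>
      inferInstanceAs (PreservesLimitsOfShape _
        (HomologicalComplex.eval X.Modules (ComplexShape.up ℤ) q ⋙ Scheme.Modules.pushforward f))
  let qy := DerivedCategory.quotientCompQhIso Y.Modules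
  haveI : IsIso (Pi.lift p') := isIso_lift _ p' fun Z => by
    have h := prod_bijective f I Z
    let j : DerivedCategory.Q.obj ((M f).obj (∏ᶜ I)) ≅ (Qq Y).obj (∏ᶜ fun i => (M f).obj (I i)) :=
      DerivedCategory.Q.mapIso (PreservesProduct.iso (M f) I) ≪≫ qy.symm.app _
    have hj : ∀ n, j.hom ≫ (Qq Y).map (Pi.π (fun i => (M f).obj (I i)) n) ≫ qy.hom.app _ ≫ (e' n).hom = p' n := by
      intro n
      have h1 : qy.inv.app (∏ᶜ fun i => (M f).obj (I i)) ≫ (Qq Y).map (Pi.π (fun i => (M f).obj (I i)) n) =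
          DerivedCategory.Q.map (Pi.π (fun i => (M f).obj (I i)) n) ≫ qy.inv.app _ := (qy.inv.naturality _).symm
      simp only [j, Iso.trans_hom, Functor.mapIso_hom, Iso.app_hom, Iso.symm_hom, Category.assoc, p']
      erw [reassoc_of% h1, Iso.inv_hom_id_app_assoc, ← Category.assoc, ← Functor.map_comp]
      simp [PreservesProduct.iso_hom]
    refine ⟨fun g g' hgg => ?_, fun v => ?_⟩
    · rw [← cancel_mono j.hom]
      refine h.injective (funext fun n => ?_)
      have h2 := congrFun hgg n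
      simp only [← hj n] at h2
      rw [← cancel_mono (qy.hom.app _ ≫ (e' n).hom)]
      simpa only [Category.assoc] using h2
    · obtain ⟨y, hy⟩ := h.surjective fun n => v n ≫ (e' n).inv ≫ qy.inv.app _
      refine ⟨y ≫ j.inv, funext fun n => ?_⟩
      change (y ≫ j.inv) ≫ p' n = v n
      rw [← hj n, Category.assoc, Iso.inv_hom_id_assoc]
      erw [reassoc_of% (congrFun hy n)]
      simp
  let φ' : DerivedCategory.Q.obj ((M f).obj (∏ᶜ I)) ≅ ∏ᶜ fun n => (DCoh.Rpush f).obj (K n) := asIso (Pi.lift p')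
  have hu : ∀ n, DerivedCategory.Q.map ((M f).map (s n)) ≫ (e' n).hom =
      (e' (n + 1)).hom ≫ (DCoh.Rpush f).map (t n) := fun n => by
    have h1 : DerivedCategory.Q.map ((M f).map (s n)) ≫ (u f).app (I n) =
        (u f).app (I (n + 1)) ≫ (DCoh.Rpush f).map (DerivedCategory.Q.map (s n)) := (u f).naturality (s n)
    simp only [e', Iso.trans_hom, asIso_hom, Functor.mapIso_hom, reassoc_of% h1, hs, Category.assoc]
    rw [← Functor.map_comp, ← Functor.map_comp]
    simp
  have hφ' : DerivedCategory.Q.map ((M f).map δ₀) ≫ φ'.hom = φ'.hom ≫ Pi.lift (fun n =>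
      Pi.π (fun n => (DCoh.Rpush f).obj (K n)) n -
        Pi.π (fun n => (DCoh.Rpush f).obj (K n)) (n + 1) ≫ (DCoh.Rpush f).map (t n)) :=
    Pi.hom_ext _ _ fun n => by
      simp only [φ', asIso_hom, Category.assoc, Pi.lift_π, Preadditive.comp_sub, Pi.lift_π_assoc, p']
      rw [← Category.assoc, ← Functor.map_comp, ← Functor.map_comp, Pi.lift_π, Functor.map_sub, Functor.map_sub,
        Functor.map_comp, Functor.map_comp, Preadditive.sub_comp, Category.assoc, hu]
  let T' := (DerivedCategory.Q.mapTriangle.obj (mappingCone.triangle ((M f).map δ₀))).invRotate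
  have hT' : T' ∈ distTriang (DCoh.D Y) :=
    inv_rot_of_distTriang _ (DerivedCategory.mappingCone_triangle_distinguished _)
  refine ⟨eRL.hom ≫ T'.mor₁ ≫ φ'.hom, φ'.inv ≫ T'.mor₃ ≫ (CategoryTheory.shiftFunctor _ (1 : ℤ)).map eRL.inv, ?_⟩
  refine isomorphic_distinguished _ hT' _ (Triangle.isoMk _ _ eRL φ'.symm φ'.symm ?_ ?_ ?_)
  · simp
  · simp only [Triangle.mk_mor₂, Iso.symm_hom]
    rw [← cancel_mono φ'.hom]
    change _ = (φ'.inv ≫ DerivedCategory.Q.map ((M f).map δ₀)) ≫ φ'.hom
    simp [hφ']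
  · simp [← Functor.map_comp]

end Groth.L00.RpushLim
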