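import Mathlib.AlgebraicGeometry.Normalization
import Mathlib.AlgebraicGeometry.Morphisms.Proper
import Mathlib.AlgebraicGeometry.Morphisms.QuasiSeparated

/-!
The first arrow of the Stein factorization has trivial direct image.
-/

set_option autoImplicit false
set_option linter.style.haveILetI false
set_option backward.isDefEq.respectTransparency false

universe u

open CategoryTheory AlgebraicGeometry TopologicalSpace Opposite

noncomputable section

namespace Groth.L00.SteinNorm

variable {X S : Scheme.{u}}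

theorem isIso_app_of_cover (g : X ⟶ S) [QuasiCompact g] [QuasiSeparated g]
    (h : ∀ s : S, ∃ W : S.Opens, s ∈ W ∧ IsAffineOpen W ∧ IsIso (g.app W)) (U : S.Opens) : IsIso (g.app U) := by
  let I := Σ' (W : S.Opens) (_ : IsAffineOpen W) (_ : IsIso (g.app W)), Γ(S, W)
  let B : I → S.Opens := fun i => S.basicOpen i.2.2.2
  have hB : Opens.IsBasis (Set.range B) := by
    refine Opens.isBasis_iff_nbhd.2 fun {O s} hs => ?_
    obtain ⟨W, hsW, hW, hiso⟩ := h s
    obtain ⟨r, hr1, hr2⟩ := hW.exists_basicOpen_le (V := O) ⟨s, hs⟩ hsW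
    exact ⟨_, ⟨⟨W, hW, hiso, r⟩, rfl⟩, hr2, hr1⟩
  let G : TopCat.Sheaf CommRingCat.{u} S := (TopCat.Sheaf.pushforward CommRingCat.{u} g.base).obj X.sheaf
  let φ : S.sheaf ⟶ G := ⟨g.c⟩
  have key : IsIso φ := TopCat.Sheaf.isIso_iff_isIso_basis hB fun i => by
    obtain ⟨W, hW, hiso, r⟩ := i
    show IsIso (g.app (S.basicOpen r))
    haveI := hW.isLocalization_basicOpen r
    have hqs : IsQuasiSeparated ((g ⁻¹ᵁ W : X.Opens) : Set X) := by
      haveI : IsAffine W.toScheme := hW
      haveI : QuasiSeparated (g ∣_ W) := MorphismProperty.of_isPullback (isPullback_morphismRestrict g W).flip ‹QuasiSeparated g›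
      exact (isQuasiSeparated_iff_quasiSeparatedSpace _ (g ⁻¹ᵁ W).2).2 (quasiSeparatedSpace_of_quasiSeparated (g ∣_ W))
    haveI := isLocalization_basicOpen_of_qcqs (g.isCompact_preimage hW.isCompact)
      hqs (g.app W r)
    let A := Γ(X, X.basicOpen (g.app W r))
    let e : Γ(X, g ⁻¹ᵁ S.basicOpen r) ≅ A := X.presheaf.mapIso (eqToIso (Scheme.preimage_basicOpen g r).symm).op
    suffices IsIso (g.app (S.basicOpen r) ≫ e.hom) from IsIso.of_isIso_comp_right _ e.hom
    have hφ : Function.Bijective (g.app W).hom := ConcreteCategory.bijective_of_isIso (g.app W)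
    let ψ : Γ(S, W) ≃+* Γ(X, g ⁻¹ᵁ W) := RingEquiv.ofBijective (g.app W).hom hφ
    have hM : (Submonoid.powers r).map ψ.toMonoidHom = Submonoid.powers (g.app W r) := Submonoid.map_powers _ _
    let q : Γ(S, S.basicOpen r) ≃+* A := IsLocalization.ringEquivOfRingEquiv _ _ ψ hM
    have hq : g.app (S.basicOpen r) ≫ e.hom = CommRingCat.ofHom q.toRingHom := by
      apply CommRingCat.hom_ext
      refine IsLocalization.ringHom_ext (Submonoid.powers r) ?_
      ext a
      simp only [RingHom.comp_apply, CommRingCat.hom_ofHom, RingEquiv.toRingHom_eq_coe, RingHom.coe_coe, q,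
        IsLocalization.ringEquivOfRingEquiv_apply]
      rw [IsLocalization.map_eq]
      show (S.presheaf.map (homOfLE (S.basicOpen_le r)).op ≫ g.app _ ≫ e.hom) a =
        (g.app W ≫ X.presheaf.map (homOfLE (X.basicOpen_le (g.app W r))).op) a
      rw [g.naturality_assoc]
      simp only [e, Functor.mapIso_hom, ← Functor.map_comp]
      rfl
    rw [hq]
    exact ((ConcreteCategory.isIso_iff_bijective _).2 q.bijective)
  exact inferInstanceAs (IsIso (((TopCat.Sheaf.forget CommRingCat.{u} S).map φ).app (op U)))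

theorem isIso_toNormalization_app (f : X ⟶ S) [UniversallyClosed f] [QuasiSeparated f]
    (U : f.normalization.Opens) : IsIso (f.toNormalization.app U) := by
  refine isIso_app_of_cover _ (fun n => ?_) U
  obtain ⟨_, ⟨V, hV, rfl⟩, hnV, -⟩ := S.isBasis_affineOpens.exists_subset_of_mem_open
    (Set.mem_univ (f.fromNormalization n)) isOpen_univ
  refine ⟨f.fromNormalization ⁻¹ᵁ V, hnV, hV.preimage _, ?_⟩
  letI := (f.app V).hom.toAlgebra
  haveI : IsAffine (Scheme.Opens.toScheme V) := hV
  have hint : (f.app V).hom.IsIntegral := by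
    have h : UniversallyClosed (f ∣_ V) :=
      MorphismProperty.of_isPullback (isPullback_morphismRestrict f V).flip ‹UniversallyClosed f›
    have h' := isIntegral_appTop_of_universallyClosed (f ∣_ V)
    rw [morphismRestrict_appTop, CommRingCat.hom_comp] at h'
    have h2 : (f.app (Scheme.Opens.ι V ''ᵁ ⊤)).hom.IsIntegral := fun x => by
      let j := (X.presheaf.map (eqToHom (image_morphismRestrict_preimage f V ⊤)).op)
      obtain ⟨p, hp, hpx⟩ := h' (j.hom x)
      refine ⟨p, hp, (ConcreteCategory.bijective_of_isIso j).1 ?_⟩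
      rw [Polynomial.hom_eval₂, map_zero]
      exact hpx
    rwa [Scheme.Opens.ι_image_top] at h2
  rw [f.toNormalization_app_preimage ⟨V, hV⟩]
  have hval : IsIso (CommRingCat.ofHom (integralClosure Γ(S, V) Γ(X, f ⁻¹ᵁ V)).val.toRingHom) :=
    (ConcreteCategory.isIso_iff_bijective _).2 ⟨Subtype.val_injective, fun x => ⟨⟨x, hint x⟩, rfl⟩⟩
  exact IsIso.comp_isIso' inferInstance (IsIso.comp_isIso' hval inferInstance)

end Groth.L00.SteinNorm
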