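import Groth.Agent.L00.AlgGen
import Mathlib.Topology.Sheaves.SheafCondition.UniqueGluing
import Mathlib.RingTheory.Localization.Away.Basic

/-!
# The quasi-coherent subalgebra generated by a submodule
-/

set_option autoImplicit false
set_option linter.style.haveILetI false
set_option backward.isDefEq.respectTransparency false

universe u

open CategoryTheory AlgebraicGeometry TopologicalSpace Opposite

noncomputable section

namespace Groth.L00.SubAlg

open Groth.L18.Frame (rs ro)
open Groth.L00.QCAlgModule (smul_eq res_str)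
open Groth.L00.AlgGen (gen str_mem j_mem res_mem)

variable {X : Scheme.{u}} (B : RelSpec.QCAlg X) {E : X.Modules} (j : E ⟶ B.toModule)

theorem map_map {U V W : X.Opens} (h : V ≤ U) (h' : W ≤ V) (s : B.presheaf.obj (op U)) :
    (B.presheaf.map (homOfLE h').op).hom ((B.presheaf.map (homOfLE h).op).hom s) =
      (B.presheaf.map (homOfLE (h'.trans h)).op).hom s := by
  rw [← CommRingCat.comp_apply, ← Functor.map_comp]
  rfl

/-- Sections lying in the generated subring near every point. -/
def secs (V : X.Opens) : Subring (B.presheaf.obj (op V)) where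
  carrier := {s | ∀ x ∈ V, ∃ (W : X.Opens) (h : W ≤ V), IsAffineOpen W ∧ x ∈ W ∧
    (B.presheaf.map (homOfLE h).op).hom s ∈ gen B j W}
  mul_mem' := fun {a b} ha hb x hx => by
    obtain ⟨W, h, hW, hxW, hma⟩ := ha x hx
    obtain ⟨W', h', hW', hxW', hmb⟩ := hb x hx
    obtain ⟨O, hO, hxO, hle⟩ := exists_isAffineOpen_mem_and_subset (x := x) (U := W ⊓ W') ⟨hxW, hxW'⟩
    refine ⟨O, (hle.trans inf_le_left).trans h, hO, hxO, ?_⟩
    rw [map_mul, ← map_map B h (hle.trans inf_le_left) a, ← map_map B h' (hle.trans inf_le_right) b]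
    exact mul_mem (res_mem B j _ hma) (res_mem B j _ hmb)
  one_mem' := fun x hx => by
    obtain ⟨O, hO, hxO, hle⟩ := exists_isAffineOpen_mem_and_subset (x := x) (U := V) hx
    exact ⟨O, hle, hO, hxO, by rw [map_one]; exact one_mem _⟩
  add_mem' := fun {a b} ha hb x hx => by
    obtain ⟨W, h, hW, hxW, hma⟩ := ha x hx
    obtain ⟨W', h', hW', hxW', hmb⟩ := hb x hx
    obtain ⟨O, hO, hxO, hle⟩ := exists_isAffineOpen_mem_and_subset (x := x) (U := W ⊓ W') ⟨hxW, hxW'⟩
    refine ⟨O, (hle.trans inf_le_left).trans h, hO, hxO, ?_⟩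
    rw [map_add, ← map_map B h (hle.trans inf_le_left) a, ← map_map B h' (hle.trans inf_le_right) b]
    exact add_mem (res_mem B j _ hma) (res_mem B j _ hmb)
  zero_mem' := fun x hx => by
    obtain ⟨O, hO, hxO, hle⟩ := exists_isAffineOpen_mem_and_subset (x := x) (U := V) hx
    exact ⟨O, hle, hO, hxO, by rw [map_zero]; exact zero_mem _⟩
  neg_mem' := fun {a} ha x hx => by
    obtain ⟨W, h, hW, hxW, hma⟩ := ha x hx
    exact ⟨W, h, hW, hxW, by rw [map_neg]; exact neg_mem hma⟩

theorem secs_res {U V : X.Opens} (h : V ≤ U) {s : B.presheaf.obj (op U)} (hs : s ∈ secs B j U) :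
    (B.presheaf.map (homOfLE h).op).hom s ∈ secs B j V := by
  intro x hx
  obtain ⟨W, hWU, hW, hxW, hm⟩ := hs x (h hx)
  obtain ⟨O, hO, hxO, hle⟩ := exists_isAffineOpen_mem_and_subset (x := x) (U := W ⊓ V) ⟨hxW, hx⟩
  refine ⟨O, hle.trans inf_le_right, hO, hxO, ?_⟩
  rw [map_map, ← map_map B hWU (hle.trans inf_le_left) s]
  exact res_mem B j _ hm

theorem str_mem_secs (V : X.Opens) (r : Γ(X, V)) : (B.str.app (op V)).hom r ∈ secs B j V := fun x hx => by
  obtain ⟨O, hO, hxO, hle⟩ := exists_isAffineOpen_mem_and_subset (x := x) (U := V) hx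
  exact ⟨O, hle, hO, hxO, by rw [res_str]; exact str_mem B j O _⟩

/-- On an affine open, the sections are the generated subring. -/
theorem secs_eq_gen [Coh.IsQCoh E] {U : X.Opens} (hU : IsAffineOpen U) : secs B j U = gen B j U := by
  refine le_antisymm (fun b hb => ?_) (fun b hb x hx => ⟨U, le_rfl, hU, hx, res_mem B j _ hb⟩)
  haveI := Groth.L00.QCAlgModule.isQCoh_toModule B
  let J : Ideal Γ(X, U) :=
    { carrier := {a | (B.str.app (op U)).hom a * b ∈ gen B j U}
      zero_mem' := by simp
      add_mem' := fun {a a'} ha ha' => by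
        show (B.str.app (op U)).hom (a + a') * b ∈ gen B j U
        rw [map_add, add_mul]; exact add_mem ha ha'
      smul_mem' := fun c a ha => by
        show (B.str.app (op U)).hom (c * a) * b ∈ gen B j U
        rw [map_mul, mul_assoc]; exact mul_mem (str_mem B j U c) ha }
  suffices hJ : J = ⊤ by
    have h1 : (1 : Γ(X, U)) ∈ J := hJ ▸ Submodule.mem_top
    simpa [J] using h1
  by_contra hJ
  obtain ⟨q, hq, hJq⟩ := Ideal.exists_le_maximal J hJ
  let y : X := hU.fromSpec ⟨q, hq.isPrime⟩
  have hy : y ∈ U := hU.opensRange_fromSpec.le ⟨⟨q, hq.isPrime⟩, rfl⟩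
  obtain ⟨W, hWU, hW, hyW, hm⟩ := hb y hy
  obtain ⟨f, hfW, hfy⟩ := hU.exists_basicOpen_le (V := W) ⟨y, hyW⟩ hy
  obtain ⟨n, s, hs, hres⟩ := Groth.L00.AlgGen.exists_lift B j hU f
    (show (B.presheaf.map (homOfLE (X.basicOpen_le f)).op).hom b ∈ gen B j (X.basicOpen f) from
      (map_map B hWU hfW b) ▸ res_mem B j hfW hm)
  have h0 : rs B.toModule (X.basicOpen_le f)
      (show Γ(B.toModule, U) from s - (B.str.app (op U)).hom (f ^ n) * b) = 0 := by
    show (B.presheaf.map (homOfLE (X.basicOpen_le f)).op).hom (s - (B.str.app (op U)).hom (f ^ n) * b) = 0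
    rw [map_sub, map_mul, hres, res_str, sub_self]
  obtain ⟨m, hm'⟩ := Groth.L16.QCohSect.exists_pow_smul_eq_zero hU B.toModule f _ h0
  rw [smul_eq] at hm'
  have hmem : f ^ (m + n) ∈ J := by
    show (B.str.app (op U)).hom (f ^ (m + n)) * b ∈ gen B j U
    have hm'' : (B.str.app (op U)).hom (f ^ m) * (s - (B.str.app (op U)).hom (f ^ n) * b) = 0 := hm'
    have : (B.str.app (op U)).hom (f ^ (m + n)) * b = (B.str.app (op U)).hom (f ^ m) * s := by
      rw [pow_add, map_mul]
      linear_combination -hm''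
    rw [this]
    exact mul_mem (str_mem B j U _) hs
  have hfq : f ∈ q := hq.isPrime.mem_of_pow_mem _ (hJq hmem)
  have : (⟨q, hq.isPrime⟩ : PrimeSpectrum Γ(X, U)) ∈ hU.fromSpec ⁻¹ᵁ X.basicOpen f := hfy
  rw [hU.fromSpec_preimage_basicOpen] at this
  exact this hfq

/-- The presheaf of subrings. -/
def presheaf : TopCat.Presheaf CommRingCat.{u} X.carrier where
  obj V := CommRingCat.of (secs B j V.unop)
  map {V W} i := CommRingCat.ofHom ((B.presheaf.map i).hom.restrict (secs B j V.unop) (secs B j W.unop)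
    fun _ hs => secs_res B j i.unop.le hs)
  map_id V := by
    refine CommRingCat.hom_ext (RingHom.ext fun (s : secs B j V.unop) => Subtype.ext ?_)
    exact congrArg (fun φ => φ.hom s.1) (B.presheaf.map_id V)
  map_comp {V W Z} i i' := by
    refine CommRingCat.hom_ext (RingHom.ext fun (s : secs B j V.unop) => Subtype.ext ?_)
    exact congrArg (fun φ => φ.hom s.1) (B.presheaf.map_comp i i')

theorem isSheaf : (presheaf B j).IsSheaf := by
  rw [TopCat.Presheaf.isSheaf_iff_isSheafUniqueGluing]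
  intro ι U sf hc
  obtain ⟨s, hs, huniq⟩ := (TopCat.Presheaf.isSheaf_iff_isSheafUniqueGluing B.presheaf).1 B.isSheaf
    U (fun k => (sf k).1) (fun a b => congrArg Subtype.val (hc a b))
  have hmem : s ∈ secs B j (iSup U) := fun x hx => by
    obtain ⟨k, hk⟩ := Opens.mem_iSup.1 hx
    obtain ⟨W, hWk, hW, hxW, hm⟩ := (sf k).2 x hk
    refine ⟨W, hWk.trans (le_iSup U k), hW, hxW, ?_⟩
    rw [← map_map B (le_iSup U k) hWk s]
    exact (show (B.presheaf.map (homOfLE (le_iSup U k)).op).hom s = (sf k).1 from hs k).symm ▸ hm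
  exact ⟨⟨s, hmem⟩, fun k => Subtype.ext (hs k),
    fun s' hs' => Subtype.ext (huniq s'.1 fun k => congrArg Subtype.val (hs' k))⟩

/-- The structure map. -/
def str : X.presheaf ⟶ presheaf B j where
  app V := CommRingCat.ofHom ((B.str.app V).hom.codRestrict (secs B j V.unop) (str_mem_secs B j V.unop))
  naturality V W i := by
    ext r
    exact Subtype.ext (ConcreteCategory.congr_hom (B.str.naturality i) r)

theorem isQC [Coh.IsQCoh E] : RelSpec.IsQC (presheaf B j) (str B j) := by
  intro U hU r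
  let res : (presheaf B j).obj (op U) →+* (presheaf B j).obj (op (X.basicOpen r)) :=
    ((presheaf B j).map (homOfLE (X.basicOpen_le r)).op).hom
  letI := res.toAlgebra
  letI := (B.presheaf.map (homOfLE (X.basicOpen_le r)).op).hom.toAlgebra
  haveI : IsLocalization.Away ((B.str.app (op U)).hom r) (B.presheaf.obj (op (X.basicOpen r))) := B.isQC U hU r
  have hr : res (((str B j).app (op U)).hom r) =
      ((str B j).app (op (X.basicOpen r))).hom (ro (X.basicOpen_le r) r) :=
    Subtype.ext (res_str B (X.basicOpen_le r) r)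
  refine IsLocalization.Away.mk _ ?_ (fun z => ?_) (fun a b hab => ?_)
  · show IsUnit (res _)
    rw [hr]
    exact (RingedSpace.isUnit_res_basicOpen _ r).map _
  · have hz : (show B.presheaf.obj (op (X.basicOpen r)) from z.1) ∈ gen B j (X.basicOpen r) :=
      (secs_eq_gen B j (hU.basicOpen r)) ▸ z.2
    obtain ⟨n, s, hs, hres⟩ := Groth.L00.AlgGen.exists_lift B j hU r hz
    refine ⟨n, (⟨s, (secs_eq_gen B j hU).symm ▸ hs⟩ : secs B j U), ?_⟩
    show z * res (((str B j).app (op U)).hom r) ^ n = res _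
    refine Subtype.ext ?_
    rw [hr, ← map_pow]
    refine Eq.trans ?_ hres.symm
    rw [show ro (X.basicOpen_le r) r ^ n = ro (X.basicOpen_le r) (r ^ n) from (map_pow _ _ _).symm]
    exact mul_comm _ _
  · obtain ⟨⟨_, n, rfl⟩, hn⟩ := (IsLocalization.eq_iff_exists (Submonoid.powers ((B.str.app (op U)).hom r))
      (B.presheaf.obj (op (X.basicOpen r)))).1 (congrArg Subtype.val hab)
    exact ⟨n, Subtype.ext hn⟩

/-- The subalgebra. -/
def alg [Coh.IsQCoh E] : RelSpec.QCAlg X where
  presheaf := presheaf B j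
  isSheaf := isSheaf B j
  str := str B j
  isQC := isQC B j

/-- Its inclusion. -/
def incl [Coh.IsQCoh E] : alg B j ⟶ B where
  hom :=
    { app := fun V => CommRingCat.ofHom (secs B j V.unop).subtype
      naturality := fun V W i => rfl }
  comm := rfl

theorem incl_injective [Coh.IsQCoh E] (V : X.Opens) :
    Function.Injective ((incl B j).hom.app (op V)).hom := Subtype.val_injective

theorem finiteType [Coh.IsQCoh E] (hE : CohB1.IsFT E) {U : X.Opens} (hU : IsAffineOpen U) :
    ((alg B j).str.app (op U)).hom.FiniteType := by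
  classical
  letI : Algebra Γ(X, U) (secs B j U) :=
    ((B.str.app (op U)).hom.codRestrict (secs B j U) (str_mem_secs B j U)).toAlgebra
  haveI := Groth.L20.ModStalk.finite_sections E ⟨inferInstance, hE⟩ hU
  obtain ⟨n, g, hg⟩ := Module.Finite.exists_fin (R := Γ(X, U)) (M := Γ(E, U))
  let w : Fin n → secs B j U := fun q =>
    ⟨(show B.presheaf.obj (op U) from j.app U (g q)), (secs_eq_gen B j hU).symm ▸ j_mem B j U (g q)⟩
  let A : Subalgebra Γ(X, U) (secs B j U) := Algebra.adjoin Γ(X, U) (Set.range w)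
  suffices hA : A = ⊤ by
    have hft : Algebra.FiniteType Γ(X, U) (secs B j U) :=
      ⟨⟨Finset.univ.image w, by rw [Finset.coe_image, Finset.coe_univ, Set.image_univ]; exact hA⟩⟩
    exact hft
  refine Algebra.eq_top_iff.2 fun z => ?_
  suffices ∀ b ∈ gen B j U, ∀ hb : b ∈ secs B j U, (⟨b, hb⟩ : secs B j U) ∈ A.toSubring from
    this z.1 ((secs_eq_gen B j hU) ▸ z.2) z.2
  intro b hb
  have hle : gen B j U ≤ A.toSubring.map (secs B j U).subtype := by
    refine Subring.closure_le.2 ?_
    rintro _ (⟨r, rfl⟩ | ⟨e, rfl⟩)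
    · exact ⟨⟨_, str_mem_secs B j U r⟩, A.algebraMap_mem r, rfl⟩
    · have he : e ∈ Submodule.span Γ(X, U) (Set.range g) := hg ▸ Submodule.mem_top
      show (show B.presheaf.obj (op U) from j.app U e) ∈ A.toSubring.map (secs B j U).subtype
      induction he using Submodule.span_induction with
      | mem z hz =>
        obtain ⟨q, rfl⟩ := hz
        exact ⟨w q, Algebra.subset_adjoin ⟨q, rfl⟩, rfl⟩
      | zero => rw [map_zero]; exact zero_mem _
      | add z v _ _ hz hv => rw [map_add]; exact add_mem hz hv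
      | smul r z _ hz =>
        rw [j.app_smul, smul_eq]
        exact mul_mem ⟨⟨_, str_mem_secs B j U r⟩, A.algebraMap_mem r, rfl⟩ hz
  intro hb'
  obtain ⟨v, hv, hve⟩ := hle hb
  exact (show (⟨b, hb'⟩ : secs B j U) = v from Subtype.ext hve.symm) ▸ hv

/-- The subalgebra contains the generating submodule. -/
theorem mem_range_incl [Coh.IsQCoh E] {U : X.Opens} (hU : IsAffineOpen U) (e : Γ(E, U)) :
    (show B.presheaf.obj (op U) from j.app U e) ∈ Set.range ((incl B j).hom.app (op U)).hom :=
  ⟨(⟨_, (secs_eq_gen B j hU).symm ▸ j_mem B j U e⟩ : secs B j U), rfl⟩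

end Groth.L00.SubAlg
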