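import Groth.Agent.L20.ModStalk
import Groth.Agent.L16.EpiFrames
import Groth.Agent.L16.Acc
import Groth.Agent.L29.DCoh.QCohOps
import Groth.Agent.L00.LocalData
import Groth.Agent.L18.Frame
import Mathlib.Algebra.Category.ModuleCat.Presheaf.Submodule
import Mathlib.Algebra.Category.ModuleCat.Sheaf.LocallyFree
import Mathlib.Topology.Sheaves.SheafCondition.UniqueGluing
import Mathlib.Topology.NoetherianSpace
import Mathlib.Order.Zorn

/-!
# Submodules of finite type given by their stalks, and their extension along well-ordered covers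
-/

set_option autoImplicit false
set_option linter.style.haveILetI false
set_option backward.isDefEq.respectTransparency false

universe u v

open CategoryTheory CategoryTheory.Limits AlgebraicGeometry TopologicalSpace Opposite

noncomputable section

namespace Groth.L00.SubExtend

open Groth.L18.Frame (rs ro rs_rs rs_smul rs_self)
open Groth.L20.ModStalk (germ_rs germ_smul)

variable {X : Scheme.{u}} (F : X.Modules)

/-- A submodule of every stalk. -/
abbrev StalkSub : Type u := ∀ x : X, Submodule (X.presheaf.stalk x) (F.presheaf.stalk x)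

/-- The span of the germs of finitely many sections. -/
def gspan {V : X.Opens} {n : ℕ} (t : Fin n → Γ(F, V)) (y : X) (hy : y ∈ V) :
    Submodule (X.presheaf.stalk y) (F.presheaf.stalk y) :=
  Submodule.span _ (Set.range fun q => F.presheaf.germ V y hy (t q))

theorem gspan_rs {V V' : X.Opens} (h : V' ≤ V) {n : ℕ} (t : Fin n → Γ(F, V)) (y : X) (hy : y ∈ V') :
    gspan F (fun q => rs F h (t q)) y hy = gspan F t y (h hy) := by
  simp only [gspan, germ_rs]

theorem germ_mem_gspan {V : X.Opens} {n : ℕ} (t : Fin n → Γ(F, V)) (y : X) (hy : y ∈ V) {z : Γ(F, V)}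
    (hz : z ∈ Submodule.span Γ(X, V) (Set.range t)) : F.presheaf.germ V y hy z ∈ gspan F t y hy := by
  induction hz using Submodule.span_induction with
  | mem z hz =>
    obtain ⟨q, rfl⟩ := hz
    exact Submodule.subset_span ⟨q, rfl⟩
  | zero => rw [map_zero]; exact zero_mem _
  | add u w _ _ hu hw => rw [map_add]; exact add_mem hu hw
  | smul c u _ hu => rw [germ_smul]; exact Submodule.smul_mem _ _ hu

/-- Finitely generated by sections near every point of `W`. -/
def Good (W : X.Opens) (D : StalkSub F) : Prop :=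
  ∀ x ∈ W, ∃ V : X.Opens, IsAffineOpen V ∧ x ∈ V ∧ V ≤ W ∧
    ∃ (n : ℕ) (t : Fin n → Γ(F, V)), ∀ (y : X) (hy : y ∈ V), D y = gspan F t y hy

/-- Sections over an affine open whose germs span on its trace on `W`. -/
theorem exists_sections [Coh.IsQCoh F] {W : X.Opens} {D : StalkSub F} (hD : Good F W D) {V : X.Opens}
    (hV : IsAffineOpen V) (hc : IsCompact ((W : Set X) ∩ V)) :
    ∃ (n : ℕ) (t : Fin n → Γ(F, V)), ∀ (y : X) (hy : y ∈ V), y ∈ W → D y = gspan F t y hy := by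
  classical
  have hcov : ∀ x : ((W : Set X) ∩ V : Set X), ∃ g : Γ(X, V), X.basicOpen g ≤ W ∧ x.1 ∈ X.basicOpen g ∧
      ∃ (n : ℕ) (t : Fin n → Γ(F, X.basicOpen g)),
        ∀ (y : X) (hy : y ∈ X.basicOpen g), D y = gspan F t y hy := fun x => by
    obtain ⟨V', -, hxV', hV'W, n, t, ht⟩ := hD x.1 x.2.1
    obtain ⟨g, hg, hxg⟩ := hV.exists_basicOpen_le (V := V') ⟨x.1, hxV'⟩ x.2.2
    exact ⟨g, hg.trans hV'W, hxg, n, fun q => rs F hg (t q), fun y hy => by rw [gspan_rs]; exact ht y (hg hy)⟩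
  choose g hgW hxg n t ht using hcov
  obtain ⟨T, hT⟩ := hc.elim_finite_subcover (fun x => (X.basicOpen (g x) : Set X)) (fun x => (X.basicOpen (g x)).2)
    fun x hx => Set.mem_iUnion.2 ⟨⟨x, hx⟩, hxg ⟨x, hx⟩⟩
  let N : Submodule Γ(X, V) Γ(F, V) :=
    { carrier := {m | ∀ (y : X) (hy : y ∈ V), y ∈ W → F.presheaf.germ V y hy m ∈ D y}
      zero_mem' := fun y hy _ => by rw [map_zero]; exact zero_mem _
      add_mem' := fun ha hb y hy hW => by rw [map_add]; exact add_mem (ha y hy hW) (hb y hy hW)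
      smul_mem' := fun r m hm y hy hW => by rw [germ_smul]; exact Submodule.smul_mem _ _ (hm y hy hW) }
  -- on one piece, a power of a function pushes a section into `N`
  have piece : ∀ (x : ((W : Set X) ∩ V : Set X)) (a : Γ(X, V)) (m : Γ(F, V)),
      (∀ (y : X) (hy : y ∈ V), y ∈ X.basicOpen a → y ∈ W → F.presheaf.germ V y hy m ∈ D y) →
      ∃ k : ℕ, ∀ (y : X) (hy : y ∈ X.basicOpen (g x)),
        F.presheaf.germ V y (X.basicOpen_le _ hy) (a ^ k • m) ∈ D y := by
    intro x a m hm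
    let B := X.basicOpen (g x)
    have hB : IsAffineOpen B := hV.basicOpen _
    let M' : Submodule Γ(X, B) Γ(F, B) := Submodule.span _ (Set.range (t x))
    let m' : Γ(F, B) := rs F (X.basicOpen_le _) m
    let a' : Γ(X, B) := ro (X.basicOpen_le _) a
    let J : Ideal Γ(X, B) := M'.comap (LinearMap.toSpanSingleton Γ(X, B) Γ(F, B) m')
    have ha : a' ∈ J.radical := by
      rw [Ideal.radical_eq_sInf, Submodule.mem_sInf]
      rintro q ⟨hJq, hq⟩
      by_contra haq
      let y : X := hB.fromSpec ⟨q, hq⟩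
      have hy : y ∈ B := hB.opensRange_fromSpec.le ⟨⟨q, hq⟩, rfl⟩
      have hprime : (hB.primeIdealOf ⟨y, hy⟩).asIdeal = q := congrArg PrimeSpectrum.asIdeal
        (hB.fromSpec.isOpenEmbedding.injective (hB.fromSpec_primeIdealOf ⟨y, hy⟩))
      letI := X.presheaf.algebra_section_stalk ⟨y, hy⟩
      haveI := hB.isLocalization_stalk ⟨y, hy⟩
      have hya : y ∈ X.basicOpen a := by
        rw [Scheme.mem_basicOpen X a y (X.basicOpen_le _ hy)]
        have h1 : IsUnit (algebraMap Γ(X, B) (X.presheaf.stalk y) a') :=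
          IsLocalization.map_units (X.presheaf.stalk y)
            (⟨a', show a' ∉ (hB.primeIdealOf ⟨y, hy⟩).asIdeal by rw [hprime]; exact haq⟩ : (hB.primeIdealOf ⟨y, hy⟩).asIdeal.primeCompl)
        exact (TopCat.Presheaf.germ_res_apply X.presheaf (homOfLE (X.basicOpen_le (g x))) y hy a) ▸ h1
      have hmem : F.presheaf.germ B y hy m' ∈ gspan F (t x) y hy := by
        rw [germ_rs, ← ht x y hy]
        exact hm y (X.basicOpen_le _ hy) hya (hgW x hy)
      letI := Groth.L20.ModStalk.stalkModule F hy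
      haveI := Groth.L20.ModStalk.isLocalizedModule_germ F hB hy
      haveI : IsScalarTower Γ(X, B) (X.presheaf.stalk y) (F.presheaf.stalk y) :=
        IsScalarTower.of_algebraMap_smul fun _ _ => rfl
      have h2 : gspan F (t x) y hy = M'.localized' (X.presheaf.stalk y)
          (hB.primeIdealOf ⟨y, hy⟩).asIdeal.primeCompl (Groth.L20.ModStalk.germₗ F hy) := by
        rw [Submodule.localized'_span, ← Set.range_comp]
        rfl
      rw [h2] at hmem
      obtain ⟨m₁, hm₁, s, hs⟩ := hmem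
      have h3 : Groth.L20.ModStalk.germₗ F hy ((s : Γ(X, B)) • m') = Groth.L20.ModStalk.germₗ F hy m₁ := by
        rw [map_smul]
        exact (congrArg ((s : Γ(X, B)) • ·) hs.symm).trans (by simp [← Submonoid.smul_def, IsLocalizedModule.mk'_cancel'])
      obtain ⟨c, hc⟩ := (IsLocalizedModule.eq_iff_exists
        (hB.primeIdealOf ⟨y, hy⟩).asIdeal.primeCompl (Groth.L20.ModStalk.germₗ F hy)).1 h3
      have hcs : (c : Γ(X, B)) * (s : Γ(X, B)) ∈ J := by
        show ((c : Γ(X, B)) * (s : Γ(X, B))) • m' ∈ M'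
        rw [mul_smul]
        exact (show (c : Γ(X, B)) • ((s : Γ(X, B)) • m') = (c : Γ(X, B)) • m₁ from hc) ▸ M'.smul_mem _ hm₁
      exact ((c * s).2 : (c : Γ(X, B)) * (s : Γ(X, B)) ∉ (hB.primeIdealOf ⟨y, hy⟩).asIdeal)
        (hprime.ge (hJq hcs))
    obtain ⟨k, hk⟩ := ha
    refine ⟨k, fun y hy => ?_⟩
    rw [← germ_rs F (X.basicOpen_le (g x)) hy, rs_smul, ht x y hy]
    have hk' : a' ^ k • m' ∈ M' := hk
    rw [← map_pow] at hk'
    exact germ_mem_gspan F (t x) y hy hk'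
  -- extend each generator
  have ext : ∀ (x : ((W : Set X) ∩ V : Set X)) (q : Fin (n x)),
      ∃ t₀ ∈ N, ∀ (y : X) (hy : y ∈ X.basicOpen (g x)),
        ∃ e : X.presheaf.stalk y, IsUnit e ∧
          F.presheaf.germ V y (X.basicOpen_le _ hy) t₀ = e • F.presheaf.germ _ y hy (t x q) := by
    intro x q
    obtain ⟨N₁, t₁, ht₁⟩ := Groth.L16.QCohSect.exists_pow_smul_eq_res hV F (g x) (t x q)
    have hu : ∀ (y : X) (hy : y ∈ X.basicOpen (g x)),
        IsUnit (X.presheaf.germ V y (X.basicOpen_le _ hy) (g x)) := fun y hy => by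
      rw [← Scheme.mem_basicOpen X (g x) y (X.basicOpen_le _ hy)]; exact hy
    have hgerm : ∀ (y : X) (hy : y ∈ X.basicOpen (g x)),
        F.presheaf.germ V y (X.basicOpen_le _ hy) t₁ =
          X.presheaf.germ V y (X.basicOpen_le _ hy) (g x) ^ N₁ • F.presheaf.germ _ y hy (t x q) := fun y hy => by
      rw [← germ_rs F (X.basicOpen_le (g x)) hy, ht₁, germ_smul, ← map_pow]
      congr 1
      exact TopCat.Presheaf.germ_res_apply X.presheaf (homOfLE (X.basicOpen_le (g x))) y hy _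
    have h1 : ∀ (y : X) (hy : y ∈ V), y ∈ X.basicOpen (g x) → y ∈ W → F.presheaf.germ V y hy t₁ ∈ D y :=
      fun y hy hyg _ => by
        rw [hgerm y hyg, ht x y hyg]
        exact Submodule.smul_mem _ _ (Submodule.subset_span ⟨q, rfl⟩)
    choose k hk using fun z => piece z (g x) t₁ h1
    let K := T.sup k
    refine ⟨g x ^ K • t₁, fun y hy hyW => ?_, fun y hy => ?_⟩
    · obtain ⟨z, hz, hyz⟩ := Set.mem_iUnion₂.1 (hT ⟨hyW, hy⟩)
      have hle : k z ≤ K := Finset.le_sup hz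
      rw [← Nat.sub_add_cancel hle, pow_add, mul_smul, germ_smul]
      exact Submodule.smul_mem _ _ (hk z y hyz)
    · refine ⟨_, ((hu y hy).pow K).mul ((hu y hy).pow N₁), ?_⟩
      rw [germ_smul, hgerm y hy, map_pow, mul_smul]
  choose t₀ ht₀ e he heq using ext
  let G : Finset Γ(F, V) := T.biUnion fun x => Finset.univ.image (t₀ x)
  refine ⟨G.card, fun q => (G.equivFin.symm q).1, fun y hy hyW => le_antisymm ?_ ?_⟩
  · obtain ⟨x, hx, hyx⟩ := Set.mem_iUnion₂.1 (hT ⟨hyW, hy⟩)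
    rw [ht x y hyx, gspan, Submodule.span_le]
    rintro _ ⟨q, rfl⟩
    obtain ⟨e, he, heq⟩ : ∃ e : X.presheaf.stalk y, IsUnit e ∧
        F.presheaf.germ V y hy (t₀ x q) = e • F.presheaf.germ _ y hyx (t x q) :=
      ⟨_, he x q y hyx, heq x q y hyx⟩
    refine (Submodule.smul_mem_iff_of_isUnit _ he).1 (heq ▸ Submodule.subset_span ⟨G.equivFin
      ⟨t₀ x q, Finset.mem_biUnion.2 ⟨x, hx, Finset.mem_image_of_mem _ (Finset.mem_univ q)⟩⟩, ?_⟩)
    simp
  · rw [gspan, Submodule.span_le]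
    rintro _ ⟨p, rfl⟩
    obtain ⟨x, -, hx⟩ := Finset.mem_biUnion.1 (G.equivFin.symm p).2
    obtain ⟨q, -, hq⟩ := Finset.mem_image.1 hx
    show F.presheaf.germ V y hy _ ∈ D y
    rw [← hq]
    exact ht₀ x q y hy hyW

/-- One more affine open. -/
theorem exists_step [Coh.IsQCoh F] {W : X.Opens} {D : StalkSub F} (hD : Good F W D) {V : X.Opens}
    (hV : IsAffineOpen V) (hc : IsCompact ((W : Set X) ∩ V)) :
    ∃ D' : StalkSub F, Good F (W ⊔ V) D' ∧ ∀ x ∈ W, D' x = D x := by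
  classical
  obtain ⟨n, t, ht⟩ := exists_sections F hD hV hc
  let D' : StalkSub F := fun y => if hy : y ∈ V then gspan F t y hy else D y
  have hWD : ∀ x ∈ W, D' x = D x := fun x hx => by
    simp only [D']
    split_ifs with hxV
    · exact (ht x hxV hx).symm
    · rfl
  refine ⟨D', fun x hx => ?_, hWD⟩
  by_cases hxV : x ∈ V
  · exact ⟨V, hV, hxV, le_sup_right, n, t, fun y hy => dif_pos hy⟩
  · have hxW : x ∈ W := (Opens.mem_sup.1 hx).resolve_right hxV
    obtain ⟨V', hV', hxV', hle, m, s, hs⟩ := hD x hxW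
    exact ⟨V', hV', hxV', hle.trans le_sup_left, m, s, fun y hy => (hWD y (hle hy)).trans (hs y hy)⟩

/-- Extension along a well-ordered affine cover with quasi-compact intersections. -/
theorem exists_good_top [Coh.IsQCoh F] {L : Type v} [LinearOrder L] [WellFoundedLT L]
    (V : L → X.Opens) (hV : ∀ l, IsAffineOpen (V l)) (hcov : ⨆ l, V l = ⊤) (U : X.Opens)
    (hW : ∀ l, IsCompact (((U : Set X) ∪ ⋃ m ∈ Set.Iio l, (V m : Set X)) ∩ V l))
    {D₀ : StalkSub F} (h₀ : Good F U D₀) :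
    ∃ D : StalkSub F, Good F ⊤ D ∧ ∀ x ∈ U, D x = D₀ x := by
  classical
  let S := {p : Set L × StalkSub F // IsLowerSet p.1 ∧ Good F (U ⊔ ⨆ l ∈ p.1, V l) p.2 ∧ ∀ x ∈ U, p.2 x = D₀ x}
  let r : S → S → Prop := fun a b => a.1.1 ⊆ b.1.1 ∧ ∀ x ∈ U ⊔ ⨆ l ∈ a.1.1, V l, b.1.2 x = a.1.2 x
  have mono : ∀ {I J : Set L}, I ⊆ J → U ⊔ ⨆ l ∈ I, V l ≤ U ⊔ ⨆ l ∈ J, V l := fun h =>
    sup_le_sup_left (biSup_mono h) _
  have rtrans : ∀ {a b c : S}, r a b → r b c → r a c := fun {a b c} hab hbc =>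
    ⟨hab.1.trans hbc.1, fun x hx => (hbc.2 x (mono hab.1 hx)).trans (hab.2 x hx)⟩
  have hbase : IsLowerSet (∅ : Set L) ∧ Good F (U ⊔ ⨆ l ∈ (∅ : Set L), V l) D₀ ∧ ∀ x ∈ U, D₀ x = D₀ x :=
    ⟨isLowerSet_empty, by rw [iSup_emptyset, sup_bot_eq]; exact h₀, fun _ _ => rfl⟩
  haveI : Nonempty S := ⟨⟨(∅, D₀), hbase⟩⟩
  obtain ⟨⟨⟨I, D⟩, hI, hgood, hU⟩, hmax⟩ : ∃ m : S, ∀ a, r m a → r a m := by
    refine exists_maximal_of_nonempty_chains_bounded (fun c hc hne => ?_) rtrans
    obtain ⟨a₀, ha₀⟩ := hne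
    let I : Set L := ⋃ a ∈ c, a.1.1
    let D : StalkSub F := fun x => if h : ∃ a ∈ c, x ∈ U ⊔ ⨆ l ∈ a.1.1, V l then h.choose.1.2 x else D₀ x
    have hD : ∀ a ∈ c, ∀ x ∈ U ⊔ ⨆ l ∈ a.1.1, V l, D x = a.1.2 x := by
      intro a ha x hx
      have h : ∃ b ∈ c, x ∈ U ⊔ ⨆ l ∈ b.1.1, V l := ⟨a, ha, hx⟩
      simp only [D, dif_pos h]
      by_cases e : h.choose = a
      · rw [e]
      · rcases hc h.choose_spec.1 ha e with h' | h'
        · exact (h'.2 x h.choose_spec.2).symm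
        · exact h'.2 x hx
    have hIl : IsLowerSet I := isLowerSet_iUnion₂ fun a _ => a.2.1
    have hmemI : ∀ x ∈ U ⊔ ⨆ l ∈ I, V l, ∃ a ∈ c, x ∈ U ⊔ ⨆ l ∈ a.1.1, V l := by
      intro x hx
      rcases Opens.mem_sup.1 hx with hx | hx
      · exact ⟨a₀, ha₀, Opens.mem_sup.2 (Or.inl hx)⟩
      · simp only [I, Opens.mem_iSup, Set.mem_iUnion] at hx
        obtain ⟨l, ⟨a, ha, hl⟩, hxl⟩ := hx
        exact ⟨a, ha, Opens.mem_sup.2 (Or.inr (Opens.mem_iSup.2 ⟨l, Opens.mem_iSup.2 ⟨hl, hxl⟩⟩))⟩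
    have hgoodI : Good F (U ⊔ ⨆ l ∈ I, V l) D := by
      intro x hx
      obtain ⟨a, ha, hxa⟩ := hmemI x hx
      obtain ⟨V', hV', hxV', hle, m, s, hs⟩ := a.2.2.1 x hxa
      exact ⟨V', hV', hxV', hle.trans (mono (Set.subset_biUnion_of_mem (u := fun a : S => a.1.1) ha)), m, s,
        fun y hy => (hD a ha y (hle hy)).trans (hs y hy)⟩
    refine ⟨⟨(I, D), hIl, hgoodI, fun x hx => ?_⟩, fun a ha =>
      ⟨Set.subset_biUnion_of_mem (u := fun a : S => a.1.1) ha, hD a ha⟩⟩
    show D x = D₀ x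
    rw [hD a₀ ha₀ x (Opens.mem_sup.2 (Or.inl hx))]
    exact a₀.2.2.2 x hx
  have hall : I = Set.univ := by
    by_contra hne
    obtain ⟨l, hl, hlmin⟩ := wellFounded_lt.has_min Iᶜ (Set.nonempty_compl.2 hne)
    have hIeq : I = Set.Iio l := Set.ext fun m =>
      ⟨fun hm => lt_of_not_ge fun h => hl (hI h hm), fun hm => by_contra fun h => hlmin m h hm⟩
    have hc : IsCompact (((U ⊔ ⨆ m ∈ I, V m : X.Opens) : Set X) ∩ V l) := by
      rw [hIeq]
      simpa only [Opens.coe_sup, Opens.coe_iSup] using hW l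
    obtain ⟨D', hD', hagree⟩ := exists_step F hgood (hV l) hc
    have hlow : IsLowerSet (insert l I) := by
      rw [hIeq, Set.Iio_insert]; exact isLowerSet_Iic l
    have hgood' : Good F (U ⊔ ⨆ m ∈ insert l I, V m) D' := by
      rw [iSup_insert, ← sup_assoc, sup_right_comm]; exact hD'
    have hr := hmax ⟨(insert l I, D'), hlow, hgood', fun x hx =>
      (hagree x (Opens.mem_sup.2 (Or.inl hx))).trans (hU x hx)⟩ ⟨Set.subset_insert _ _, hagree⟩
    exact hl (hr.1 (Set.mem_insert l I))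
  refine ⟨D, ?_, hU⟩
  rwa [hall, iSup_univ, hcov, sup_top_eq] at hgood

end Groth.L00.SubExtend
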