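import Groth.Agent.L00.SubExtend
import Groth.Agent.L17.Approx.Extend
import Groth.Agent.L21.Mod.Stalks
import Groth.Agent.L21.Mod.Locality
import Groth.Agent.L16.CohKernel
import Groth.Agent.L16.ProjSpace.Twist

/-!
# The submodule given by stalks, and extension theorems for submodules of finite type
-/

set_option autoImplicit false
set_option linter.style.haveILetI false
set_option backward.isDefEq.respectTransparency false

universe u v

open CategoryTheory CategoryTheory.Limits AlgebraicGeometry TopologicalSpace Opposite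

noncomputable section

namespace Groth.L00.SubExtend

open Groth.L18.Frame (rs ro rs_rs rs_smul rs_self)
open Groth.L20.ModStalk (germ_rs germ_smul)

variable {X : Scheme.{u}} (F : X.Modules)

/-- Membership in a span can be tested on germs. -/
theorem mem_span_of_germs [Coh.IsQCoh F] {B : X.Opens} (hB : IsAffineOpen B) {n : ℕ} (t : Fin n → Γ(F, B))
    (m : Γ(F, B)) (h : ∀ (y : X) (hy : y ∈ B), F.presheaf.germ B y hy m ∈ gspan F t y hy) :
    m ∈ Submodule.span Γ(X, B) (Set.range t) := by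
  set M' := Submodule.span Γ(X, B) (Set.range t)
  let J : Ideal Γ(X, B) := M'.comap (LinearMap.toSpanSingleton Γ(X, B) Γ(F, B) m)
  suffices J = ⊤ by
    have h1 : (1 : Γ(X, B)) ∈ J := this ▸ Submodule.mem_top
    simpa [J] using h1
  by_contra hJ
  obtain ⟨q, hq, hJq⟩ := Ideal.exists_le_maximal J hJ
  let y : X := hB.fromSpec ⟨q, hq.isPrime⟩
  have hy : y ∈ B := hB.opensRange_fromSpec.le ⟨⟨q, hq.isPrime⟩, rfl⟩
  have hprime : (hB.primeIdealOf ⟨y, hy⟩).asIdeal = q := congrArg PrimeSpectrum.asIdeal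
    (hB.fromSpec.isOpenEmbedding.injective (hB.fromSpec_primeIdealOf ⟨y, hy⟩))
  letI := X.presheaf.algebra_section_stalk ⟨y, hy⟩
  haveI := hB.isLocalization_stalk ⟨y, hy⟩
  letI := Groth.L20.ModStalk.stalkModule F hy
  haveI := Groth.L20.ModStalk.isLocalizedModule_germ F hB hy
  haveI : IsScalarTower Γ(X, B) (X.presheaf.stalk y) (F.presheaf.stalk y) :=
    IsScalarTower.of_algebraMap_smul fun _ _ => rfl
  have h2 : gspan F t y hy = M'.localized' (X.presheaf.stalk y)
      (hB.primeIdealOf ⟨y, hy⟩).asIdeal.primeCompl (Groth.L20.ModStalk.germₗ F hy) := by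
    rw [Submodule.localized'_span, ← Set.range_comp]
    rfl
  have hmem := h y hy
  rw [h2] at hmem
  obtain ⟨m₁, hm₁, s, hs⟩ := hmem
  have h3 : Groth.L20.ModStalk.germₗ F hy ((s : Γ(X, B)) • m) = Groth.L20.ModStalk.germₗ F hy m₁ := by
    rw [map_smul]
    exact (congrArg ((s : Γ(X, B)) • ·) hs.symm).trans (by simp [← Submonoid.smul_def, IsLocalizedModule.mk'_cancel'])
  obtain ⟨c, hc⟩ := (IsLocalizedModule.eq_iff_exists
    (hB.primeIdealOf ⟨y, hy⟩).asIdeal.primeCompl (Groth.L20.ModStalk.germₗ F hy)).1 h3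
  have hcs : (c : Γ(X, B)) * (s : Γ(X, B)) ∈ J := by
    show ((c : Γ(X, B)) * (s : Γ(X, B))) • m ∈ M'
    rw [mul_smul]
    exact (show (c : Γ(X, B)) • ((s : Γ(X, B)) • m) = (c : Γ(X, B)) • m₁ from hc) ▸ M'.smul_mem _ hm₁
  exact ((c * s).2 : (c : Γ(X, B)) * (s : Γ(X, B)) ∉ (hB.primeIdealOf ⟨y, hy⟩).asIdeal) (hprime.ge (hJq hcs))

variable (D : StalkSub F)

/-- The sections with germs in the given submodules. -/
def secs (U : X.Opens) : Submodule Γ(X, U) Γ(F, U) where
  carrier := {s | ∀ (y : X) (hy : y ∈ U), F.presheaf.germ U y hy s ∈ D y}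
  zero_mem' := fun y hy => by rw [map_zero]; exact zero_mem _
  add_mem' := fun ha hb y hy => by rw [map_add]; exact add_mem (ha y hy) (hb y hy)
  smul_mem' := fun r m hm y hy => by rw [germ_smul]; exact Submodule.smul_mem _ _ (hm y hy)

theorem rs_mem {U V : X.Opens} (h : V ≤ U) {s : Γ(F, U)} (hs : s ∈ secs F D U) : rs F h s ∈ secs F D V :=
  fun y hy => by rw [germ_rs]; exact hs y (h hy)

/-- The presheaf of submodules. -/
def preSub : PresheafOfModules.Submodule F.val where
  obj U := secs F D U.unop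
  map {U V} f s hs := rs_mem F D f.unop.le hs

theorem preSub_isSheaf : TopCat.Presheaf.IsSheaf (preSub F D).toPresheafOfModules.presheaf := by
  rw [TopCat.Presheaf.isSheaf_iff_isSheafUniqueGluing]
  intro ι U sf hc
  obtain ⟨s, hs, huniq⟩ := (TopCat.Presheaf.isSheaf_iff_isSheafUniqueGluing F.presheaf).1 F.isSheaf
    U (fun k => (sf k).1) (fun a b => congrArg Subtype.val (hc a b))
  have hmem : s ∈ secs F D (iSup U) := fun y hy => by
    obtain ⟨k, hk⟩ := Opens.mem_iSup.1 hy
    rw [← TopCat.Presheaf.germ_res_apply F.presheaf (Opens.leSupr U k) y hk s, hs k]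
    exact (sf k).2 y hk
  exact ⟨⟨s, hmem⟩, fun k => Subtype.ext (hs k),
    fun s' hs' => Subtype.ext (huniq s'.1 fun k => congrArg Subtype.val (hs' k))⟩

/-- The submodule. -/
def sub : X.Modules where
  val := (preSub F D).toPresheafOfModules
  isSheaf := preSub_isSheaf F D

/-- Its inclusion. -/
def subι : sub F D ⟶ F := ⟨(preSub F D).ι⟩

theorem subι_app {U : X.Opens} (s : Γ(sub F D, U)) :
    (subι F D).app U s = (show secs F D U from s).1 := rfl

instance : Mono (subι F D) := by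
  refine (Groth.L21.Mod.mono_iff_stalk_injective _).2 fun x => ?_
  exact TopCat.Presheaf.stalkFunctor_map_injective_of_app_injective
    (f := (Scheme.Modules.toPresheaf X).map (subι F D)) (fun U => Subtype.val_injective) x

/-- Surjectivity on all small affine opens gives an epimorphism. -/
theorem epi_of_affine {Y : Scheme.{u}} {P Q : Y.Modules} (p : P ⟶ Q)
    (h : ∀ O : Y.Opens, IsAffineOpen O → Function.Surjective (p.app O)) : Epi p := by
  refine (Groth.L21.Mod.epi_iff_stalk_surjective _).2 fun y v => ?_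
  obtain ⟨W, hyW, s, rfl⟩ := TopCat.Presheaf.exists_germ_eq Q.presheaf v
  obtain ⟨O, hO, hyO, hle⟩ := exists_isAffineOpen_mem_and_subset (x := y) (U := W) hyW
  obtain ⟨m, hm⟩ := h O hO (rs Q hle s)
  refine ⟨P.presheaf.germ O y hyO m, ?_⟩
  refine (TopCat.Presheaf.stalkFunctor_map_germ_apply O y hyO ((Scheme.Modules.toPresheaf Y).map p) m).trans ?_
  exact (congrArg (Q.presheaf.germ O y hyO) hm).trans (germ_rs Q hle hyO s)

theorem isQCoh_isFT_sub [Coh.IsQCoh F] (hD : Good F ⊤ D) :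
    Coh.IsQCoh (sub F D) ∧ CohB1.IsFT (sub F D) := by
  classical
  have key : ∀ x : X, ∃ (V : X.Opens) (σ : ((sub F D).restrict V.ι).GeneratingSections),
      IsAffineOpen V ∧ x ∈ V ∧ Finite σ.I ∧ Coh.IsQCoh ((sub F D).restrict V.ι) := by
    intro x
    obtain ⟨V, hV, hxV, -, n, t, ht⟩ := hD x trivial
    let P := F.restrict V.ι
    let Q := (sub F D).restrict V.ι
    let j : Q ⟶ P := (Scheme.Modules.restrictFunctor V.ι).map (subι F D)
    haveI : Coh.IsQCoh P := Scheme.Modules.isQuasicoherent_restrictFunctor _ F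
    haveI : IsAffine V.toScheme := hV
    have htmem : ∀ q, t q ∈ secs F D V := fun q y hy => ht y hy ▸ Submodule.subset_span ⟨q, rfl⟩
    let I := ULift.{u} (Fin n)
    let t' : I → Γ(Q, ⊤) := fun q =>
      (⟨rs F V.ι_image_top.le (t q.down), rs_mem F D _ (htmem q.down)⟩ : secs F D (V.ι ''ᵁ ⊤))
    let z : I → Q.sections := fun q => Q.unitHomEquiv (Groth.L16.homOfSection Q (t' q))
    let F₀ : V.toScheme.Modules := SheafOfModules.free I
    let p : F₀ ⟶ Q := Q.freeHomEquiv.symm z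
    have hp : ∀ q, t' q ∈ Set.range (Scheme.Modules.Hom.app p ⊤) := fun q =>
      ⟨(SheafOfModules.freeSection q).eval (op ⊤),
        (congrArg (fun s : Q.sections => s.eval (op ⊤))
          ((SheafOfModules.freeHomEquiv_apply p q).symm.trans
            (congrFun (Equiv.apply_symm_apply Q.freeHomEquiv z) q))).trans
          ((Groth.L16.homOfSection_app Q (t' q) ⊤ 1).trans ((one_smul _ _).trans (Groth.L18.Frame.rs_self Q _ _)))⟩
    haveI hepi : Epi p := by
      refine epi_of_affine p fun O hO s => ?_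
      let S : Γ(F, V.ι ''ᵁ O) := (show secs F D (V.ι ''ᵁ O) from s).1
      have hle : V.ι ''ᵁ O ≤ V := (V.ι.image_mono le_top).trans V.ι_image_top.le
      have hS : S ∈ Submodule.span Γ(X, V.ι ''ᵁ O) (Set.range fun q => rs F hle (t q)) := by
        refine mem_span_of_germs F (hO.image_of_isOpenImmersion V.ι) _ S fun y hy => ?_
        rw [gspan_rs, ← ht y (hle hy)]
        exact (show secs F D (V.ι ''ᵁ O) from s).2 y hy
      suffices H : ∀ S' ∈ Submodule.span Γ(X, V.ι ''ᵁ O) (Set.range fun q => rs F hle (t q)),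
          ∃ w : Γ(F₀, O), ((show secs F D (V.ι ''ᵁ O) from p.app O w).1 : Γ(F, V.ι ''ᵁ O)) = S' by
        obtain ⟨w, hw⟩ := H S hS
        exact ⟨w, Subtype.ext hw⟩
      intro S' hS'
      induction hS' using Submodule.span_induction with
      | mem a ha =>
        obtain ⟨q, rfl⟩ := ha
        obtain ⟨w, hw⟩ := hp ⟨q⟩
        refine ⟨rs F₀ le_top w, ?_⟩
        rw [Groth.L16.EpiFrames.app_rs, hw]
        exact rs_rs F _ _ _
      | zero => exact ⟨0, by rw [map_zero]; rfl⟩
      | add a b _ _ ha hb =>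
        obtain ⟨w, hw⟩ := ha
        obtain ⟨w', hw'⟩ := hb
        exact ⟨w + w', by rw [map_add, ← hw, ← hw']; rfl⟩
      | smul c a _ ha =>
        obtain ⟨w, hw⟩ := ha
        refine ⟨(show Γ(V.toScheme, O) from c) • w, ?_⟩
        rw [p.app_smul, ← hw]
        exact congrArg (fun z : secs F D (V.ι ''ᵁ O) => z.1)
          (Groth.L17.Approx.smul_restrict_ι (sub F D) V O c (p.app O w))
    haveI hlf : SheafOfModules.IsLocallyFree.{u, u, u} (R := V.toScheme.ringCatSheaf) F₀ :=
      inferInstanceAs (SheafOfModules.IsLocallyFree.{u, u, u}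
        (SheafOfModules.free.{u, u, u} (R := V.toScheme.ringCatSheaf) I))
    haveI hfree : Coh.IsQCoh F₀ := inferInstance
    let σ : SheafOfModules.GeneratingSections.{u} Q := ⟨I, z, hepi⟩
    refine ⟨V, σ, hV, hxV, inferInstanceAs (Finite I), ?_⟩
    haveI : Mono j := inferInstance
    haveI : Coh.IsQCoh (Abelian.image (p ≫ j)) := Groth.L29.DC.isQCoh_kernel' _ inferInstance
      (Groth.L29.DC.isQCoh_cokernel' (p ≫ j) hfree inferInstance)
    let f₁ := Abelian.factorThruImage (p ≫ j)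
    have hkey : j ≫ cokernel.π (p ≫ j) = 0 := by
      rw [← cancel_epi p, comp_zero, ← Category.assoc]; exact cokernel.condition _
    let l : Q ⟶ Abelian.image (p ≫ j) := kernel.lift _ j hkey
    have hl : l ≫ Abelian.image.ι (p ≫ j) = j := kernel.lift_ι _ _ _
    haveI : Mono l := mono_of_mono_fac hl
    haveI : Epi l := by
      have : p ≫ l = f₁ := by
        rw [← cancel_mono (Abelian.image.ι (p ≫ j)), Category.assoc, hl, Abelian.image.fac]
      exact epi_of_epi_fac this
    haveI : IsIso l := isIso_of_mono_of_epi l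
    let e : Q ≅ Abelian.image (p ≫ j) := asIso l
    exact Groth.L29.DC.isQCoh_of_iso' e.symm inferInstance
  refine ⟨Groth.L00.Local.isQCoh_of_tilde_charts _ fun x => ?_, Groth.L00.Local.isFT_of_generators _ fun x => ?_⟩
  · obtain ⟨V, σ, hV, hxV, -, hq⟩ := key x
    haveI := hq
    let j : Spec Γ(X, V) ⟶ V.toScheme := hV.isoSpec.inv
    obtain ⟨N, ⟨e⟩⟩ := Groth.L00.Local.exists_tilde_iso_restrict j ((sub F D).restrict V.ι)
    refine ⟨Γ(X, V), hV.fromSpec, inferInstance, N, hV.opensRange_fromSpec.ge hxV, ⟨?_⟩⟩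
    exact ((Scheme.Modules.restrictFunctorCongr (show hV.fromSpec = j ≫ V.ι from rfl)) ≪≫
      Scheme.Modules.restrictFunctorComp j V.ι).app (sub F D) ≪≫ e
  · obtain ⟨V, σ, -, hxV, hf, -⟩ := key x
    exact ⟨V, σ, hxV, hf⟩

/-- The stalkwise data of a submodule of finite type on an open. -/
theorem exists_good_of_restrict [Coh.IsQCoh F] (U : X.Opens) (G : U.toScheme.Modules) (i : G ⟶ F.restrict U.ι)
    [Coh.IsQCoh G] (hG : CohB1.IsFT G) :
    ∃ D₀ : StalkSub F, Good F U D₀ ∧ ∀ (O : U.toScheme.Opens), IsAffineOpen O →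
      ∃ (n : ℕ) (g : Fin n → Γ(G, O)), ∀ (y : X) (hy : y ∈ U.ι ''ᵁ O),
        D₀ y = gspan F (fun q => (show Γ(F, U.ι ''ᵁ O) from i.app O (g q))) y hy ∧
        ∀ a : Γ(G, O), F.presheaf.germ (U.ι ''ᵁ O) y hy (show Γ(F, U.ι ''ᵁ O) from i.app O a) ∈ D₀ y := by
  classical
  let D₀ : StalkSub F := fun y => Submodule.span _
    {v | ∃ (O : U.toScheme.Opens) (hy : y ∈ U.ι ''ᵁ O) (a : Γ(G, O)),
      v = F.presheaf.germ (U.ι ''ᵁ O) y hy (show Γ(F, U.ι ''ᵁ O) from i.app O a)}
  have h : ∀ (O : U.toScheme.Opens), IsAffineOpen O →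
      ∃ (n : ℕ) (g : Fin n → Γ(G, O)), ∀ (y : X) (hy : y ∈ U.ι ''ᵁ O),
        D₀ y = gspan F (fun q => (show Γ(F, U.ι ''ᵁ O) from i.app O (g q))) y hy ∧
        ∀ a : Γ(G, O), F.presheaf.germ (U.ι ''ᵁ O) y hy (show Γ(F, U.ι ''ᵁ O) from i.app O a) ∈ D₀ y := by
    intro O hO
    haveI := Groth.L20.ModStalk.finite_sections G ⟨inferInstance, hG⟩ hO
    obtain ⟨n, g, hg⟩ := Module.Finite.exists_fin (R := Γ(U.toScheme, O)) (M := Γ(G, O))
    refine ⟨n, g, fun y hy => ⟨le_antisymm (Submodule.span_le.2 ?_) (Submodule.span_le.2 ?_),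
      fun a => Submodule.subset_span ⟨O, hy, a, rfl⟩⟩⟩
    · rintro _ ⟨O', hy', a, rfl⟩
      obtain ⟨y', hy'O, rfl⟩ := hy
      have hy'O' : y' ∈ O' := by
        obtain ⟨w, hw, hwe⟩ := hy'
        rwa [U.ι.isOpenEmbedding.injective hwe] at hw
      letI := Groth.L20.ModStalk.stalkModule G hy'O
      haveI := Groth.L20.ModStalk.isLocalizedModule_germ G hO hy'O
      obtain ⟨⟨m, s⟩, hms⟩ := IsLocalizedModule.surj (hO.primeIdealOf ⟨y', hy'O⟩).asIdeal.primeCompl
        (Groth.L20.ModStalk.germₗ G hy'O) (G.presheaf.germ O' y' hy'O' a)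
      have hms' : G.presheaf.germ (O ⊓ O') y' ⟨hy'O, hy'O'⟩
            (ro (inf_le_left : O ⊓ O' ≤ O) (s : Γ(U.toScheme, O)) • rs G (inf_le_right : O ⊓ O' ≤ O') a) =
          G.presheaf.germ (O ⊓ O') y' ⟨hy'O, hy'O'⟩ (rs G (inf_le_left : O ⊓ O' ≤ O) m) := by
        rw [germ_smul, germ_rs, germ_rs]
        refine Eq.trans ?_ hms
        exact congrArg (· • _) (TopCat.Presheaf.germ_res_apply U.toScheme.presheaf (homOfLE inf_le_left) y' _ _)
      obtain ⟨W, hyW, k₁, k₂, hW⟩ := TopCat.Presheaf.germ_eq G.presheaf y' _ _ _ _ hms'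
      let W' : X.Opens := U.ι ''ᵁ W
      have hyW' : U.ι y' ∈ W' := ⟨y', hyW, rfl⟩
      have hW1 : W ≤ O := k₁.le.trans inf_le_left
      have hW2 : W ≤ O' := k₁.le.trans inf_le_right
      let c : Γ(X, W') := ro (X := U.toScheme) hW1 (s : Γ(U.toScheme, O))
      have hi : c • rs F (U.ι.image_mono hW2) (show Γ(F, U.ι ''ᵁ O') from i.app O' a) =
          rs F (U.ι.image_mono hW1) (show Γ(F, U.ι ''ᵁ O) from i.app O m) := by
        have h1 : ro (X := U.toScheme) hW1 (s : Γ(U.toScheme, O)) • rs G hW2 a = rs G hW1 m := by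
          have := hW
          change rs G k₁.le _ = rs G k₂.le _ at this
          rwa [rs_smul, Groth.L18.Frame.ro_ro, rs_rs, rs_rs] at this
        have h2 := congrArg (i.app W) h1
        rw [i.app_smul, Groth.L16.EpiFrames.app_rs, Groth.L16.EpiFrames.app_rs] at h2
        exact (Groth.L17.Approx.smul_restrict_ι F U W c _).symm.trans h2
      have hu : IsUnit (X.presheaf.germ W' (U.ι y') hyW' c) := by
        have h0 : IsUnit (U.toScheme.presheaf.germ W y' hyW (ro hW1 (s : Γ(U.toScheme, O)))) := by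
          letI := U.toScheme.presheaf.algebra_section_stalk ⟨y', hy'O⟩
          haveI := hO.isLocalization_stalk ⟨y', hy'O⟩
          exact (TopCat.Presheaf.germ_res_apply U.toScheme.presheaf (homOfLE hW1) y' hyW _).symm ▸
            (IsLocalization.map_units (U.toScheme.presheaf.stalk y') s)
        have h3 : y' ∈ U.toScheme.basicOpen (ro hW1 (s : Γ(U.toScheme, O))) :=
          (Scheme.mem_basicOpen _ _ y' hyW).2 h0
        refine (Scheme.mem_basicOpen X c (U.ι y') hyW').1 ?_
        rw [← show U.ι ''ᵁ U.toScheme.basicOpen (ro hW1 (s : Γ(U.toScheme, O))) = X.basicOpen c from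
          (Scheme.image_basicOpen U.ι _).trans (congrArg X.basicOpen (by rw [Scheme.Opens.ι_appIso]; rfl))]
        exact ⟨y', h3, rfl⟩
      have h4 := congrArg (F.presheaf.germ W' (U.ι y') hyW') hi
      rw [germ_smul, germ_rs, germ_rs] at h4
      refine (Submodule.smul_mem_iff_of_isUnit _ hu).1 (h4.symm ▸ ?_)
      have hm : m ∈ Submodule.span Γ(U.toScheme, O) (Set.range g) := hg ▸ Submodule.mem_top
      refine germ_mem_gspan F _ _ _ ?_
      clear hms hms' hW hi h4
      induction hm using Submodule.span_induction with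
      | mem z hz =>
        obtain ⟨q, rfl⟩ := hz
        exact Submodule.subset_span ⟨q, rfl⟩
      | zero => rw [map_zero]; exact zero_mem _
      | add z w _ _ hz hw => rw [map_add]; exact add_mem hz hw
      | smul r z _ hz =>
        rw [i.app_smul]
        exact (Groth.L17.Approx.smul_restrict_ι F U O r _).symm ▸ Submodule.smul_mem _ _ hz
    · rintro _ ⟨q, rfl⟩
      exact Submodule.subset_span ⟨O, hy, g q, rfl⟩
  refine ⟨D₀, fun x hx => ?_, h⟩
  obtain ⟨O, hO, hxO, -⟩ := exists_isAffineOpen_mem_and_subset (X := U.toScheme) (x := ⟨x, hx⟩) (U := ⊤) trivial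
  obtain ⟨n, g, hg⟩ := h O hO
  exact ⟨U.ι ''ᵁ O, hO.image_of_isOpenImmersion U.ι, ⟨_, hxO, rfl⟩, by
    rintro _ ⟨w, -, rfl⟩; exact w.2, n, _, fun y hy => (hg y hy).1⟩

/-- Extension of a submodule of finite type along a well-ordered affine cover. -/
theorem exists_extension_wellOrdered [Coh.IsQCoh F] {L : Type v} [LinearOrder L] [WellFoundedLT L]
    (V : L → X.Opens) (hV : ∀ l, IsAffineOpen (V l)) (hcov : ⨆ l, V l = ⊤) (U : X.Opens)
    (hW : ∀ l, IsCompact (((U : Set X) ∪ ⋃ m ∈ Set.Iio l, (V m : Set X)) ∩ V l))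
    (G : U.toScheme.Modules) (i : G ⟶ F.restrict U.ι) [Mono i] [Coh.IsQCoh G] (hG : CohB1.IsFT G) :
    ∃ (G' : X.Modules) (i' : G' ⟶ F) (e : G'.restrict U.ι ≅ G), Mono i' ∧ Coh.IsQCoh G' ∧ CohB1.IsFT G' ∧
      e.hom ≫ i = (Scheme.Modules.restrictFunctor U.ι).map i' := by
  classical
  obtain ⟨D₀, h₀, hgen⟩ := exists_good_of_restrict F U G i hG
  obtain ⟨D, hD, hagree⟩ := exists_good_top F V hV hcov U hW h₀
  obtain ⟨hq, hft⟩ := isQCoh_isFT_sub F D hD
  have hU : ∀ (O : U.toScheme.Opens) (y : X), y ∈ U.ι ''ᵁ O → y ∈ U := by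
    rintro O _ ⟨w, -, rfl⟩; exact w.2
  have hmem : ∀ (O : U.toScheme.Opens) (a : Γ(G, O)),
      (show Γ(F, U.ι ''ᵁ O) from i.app O a) ∈ secs F D (U.ι ''ᵁ O) := by
    intro O a y hy
    rw [hagree y (hU O y hy)]
    obtain ⟨w, hw, rfl⟩ := hy
    obtain ⟨O', hO', hwO', hle⟩ := exists_isAffineOpen_mem_and_subset (x := w) (U := O) hw
    obtain ⟨n, g, hg⟩ := hgen O' hO'
    have h2 := (hg _ ⟨w, hwO', rfl⟩).2 (rs G hle a)
    rw [Groth.L16.EpiFrames.app_rs] at h2
    exact (germ_rs F (U.ι.image_mono hle) _ _) ▸ h2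
  let Q := (sub F D).restrict U.ι
  let j : Q ⟶ F.restrict U.ι := (Scheme.Modules.restrictFunctor U.ι).map (subι F D)
  let c : G ⟶ Q := ⟨PresheafOfModules.homMk
    { app := fun O => AddCommGrpCat.ofHom
        { toFun := fun a => (⟨(show Γ(F, U.ι ''ᵁ O.unop) from i.app O.unop a), hmem O.unop a⟩ :
            secs F D (U.ι ''ᵁ O.unop))
          map_zero' := Subtype.ext (map_zero (i.app O.unop).hom)
          map_add' := fun a b => Subtype.ext (map_add (i.app O.unop).hom a b) }
      naturality := fun O O' f => by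
        ext a
        exact Subtype.ext (Groth.L16.EpiFrames.app_rs i f.unop.le a) }
    (fun O r a => Subtype.ext (i.app_smul r a))⟩
  have hcj : c ≫ j = i := by
    apply Scheme.Modules.hom_ext
    intro O
    ext a
    rfl
  haveI : Mono c := mono_of_mono_fac hcj
  haveI : Epi c := by
    refine epi_of_affine c fun O hO s => ?_
    obtain ⟨n, g, hg⟩ := hgen O hO
    let S : secs F D (U.ι ''ᵁ O) := s
    have hS : S.1 ∈ Submodule.span Γ(X, U.ι ''ᵁ O)
        (Set.range fun q => (show Γ(F, U.ι ''ᵁ O) from i.app O (g q))) := by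
      refine mem_span_of_germs F (hO.image_of_isOpenImmersion U.ι) _ S.1 fun y hy => ?_
      rw [← (hg y hy).1, ← hagree y (hU O y hy)]
      exact S.2 y hy
    suffices H : ∀ S' ∈ Submodule.span Γ(X, U.ι ''ᵁ O)
        (Set.range fun q => (show Γ(F, U.ι ''ᵁ O) from i.app O (g q))),
        ∃ a : Γ(G, O), (show Γ(F, U.ι ''ᵁ O) from i.app O a) = S' by
      obtain ⟨a, ha⟩ := H _ hS
      exact ⟨a, Subtype.ext ha⟩
    intro S' hS'
    induction hS' using Submodule.span_induction with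
    | mem a ha => obtain ⟨q, rfl⟩ := ha; exact ⟨g q, rfl⟩
    | zero => exact ⟨0, map_zero (i.app O).hom⟩
    | add a b _ _ ha hb =>
      obtain ⟨w, rfl⟩ := ha
      obtain ⟨w', rfl⟩ := hb
      exact ⟨w + w', map_add (i.app O).hom w w'⟩
    | smul r a _ ha =>
      obtain ⟨w, rfl⟩ := ha
      exact ⟨(show Γ(U.toScheme, O) from r) • w,
        (i.app_smul _ w).trans (Groth.L17.Approx.smul_restrict_ι F U O r _)⟩
  haveI : IsIso c := isIso_of_mono_of_epi c
  exact ⟨sub F D, subι F D, (asIso c).symm, inferInstance, hq, hft, by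
    rw [← hcj]; exact IsIso.inv_hom_id_assoc c j⟩

/-- Every subset of a compact set in a locally Noetherian space is compact. -/
theorem isCompact_of_subset {Y : Type*} [TopologicalSpace Y]
    (hY : ∀ y : Y, ∃ U : Opens Y, y ∈ U ∧ NoetherianSpace (U : Set Y)) {K s : Set Y}
    (hK : IsCompact K) (h : s ⊆ K) : IsCompact s := by
  classical
  choose N hN hNS using hY
  obtain ⟨T, hT⟩ := hK.elim_finite_subcover (fun y => (N y : Set Y)) (fun y => (N y).2)
    fun y _ => Set.mem_iUnion.2 ⟨y, hN y⟩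
  have h1 : s = ⋃ y ∈ T, (fun z : ((N y : Set Y) : Type _) => z.1) '' ((fun z : ((N y : Set Y) : Type _) => z.1) ⁻¹' s) := by
    ext z
    simp only [Set.mem_iUnion, Set.mem_image, Set.mem_preimage]
    constructor
    · intro hz
      obtain ⟨y, hy, hzy⟩ := Set.mem_iUnion₂.1 (hT (h hz))
      exact ⟨y, hy, ⟨z, hzy⟩, hz, rfl⟩
    · rintro ⟨y, -, w, hw, rfl⟩
      exact hw
  rw [h1]
  exact T.isCompact_biUnion fun y _ =>
    (@NoetherianSpace.isCompact _ _ (hNS y) _).image continuous_subtype_val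

/-- An unordered copy of the affine opens, to be well-ordered. -/
structure Idx (X : Scheme.{u}) : Type u where
  /-- the affine open -/
  val : X.affineOpens

/-- Extension on a locally Noetherian space. -/
theorem exists_extension_locallyNoetherian [Coh.IsQCoh F]
    (hX : ∀ x : X, ∃ U : X.Opens, x ∈ U ∧ NoetherianSpace (U : Set X)) (U : X.Opens)
    (G : U.toScheme.Modules) (i : G ⟶ F.restrict U.ι) [Mono i] [Coh.IsQCoh G] (hG : CohB1.IsFT G) :
    ∃ (G' : X.Modules) (i' : G' ⟶ F) (e : G'.restrict U.ι ≅ G), Mono i' ∧ Coh.IsQCoh G' ∧ CohB1.IsFT G' ∧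
      e.hom ≫ i = (Scheme.Modules.restrictFunctor U.ι).map i' := by
  classical
  letI : LinearOrder (Idx X) := linearOrderOfSTO WellOrderingRel
  haveI : WellFoundedLT (Idx X) := ⟨(WellOrderingRel.isWellOrder (α := Idx X)).wf⟩
  refine exists_extension_wellOrdered F (fun V : Idx X => V.val.1) (fun V => V.val.2) ?_ U
    (fun V => isCompact_of_subset hX V.val.2.isCompact Set.inter_subset_right) G i hG
  refine top_le_iff.1 fun x hx => ?_
  obtain ⟨W, hW, hxW, -⟩ := exists_isAffineOpen_mem_and_subset (x := x) (U := ⊤) trivial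
  exact Opens.mem_iSup.2 ⟨⟨⟨W, hW⟩⟩, hxW⟩

end Groth.L00.SubExtend
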