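import Groth.Agent.L28.Elt
import Mathlib.CategoryTheory.Simple
import Mathlib.Order.JordanHolder
import Mathlib.Order.OrderIsoNat
import Mathlib.Order.ModularLattice

/-! The lattice of subobjects of an object of an abelian category: modularity, covers, composition series. -/

universe v u

open CategoryTheory CategoryTheory.Limits

namespace Groth.L00.SubobjLattice

open Groth.L28.Elt

variable {A : Type u} [Category.{v} A] [Abelian A] {X : A}

instance isModularLattice : IsModularLattice (Subobject X) where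
  sup_inf_le_assoc_of_le {x} y {z} hxz := le_iff'.2 fun w hw => by
    obtain ⟨hw1, hwz⟩ := (mem_inf _ _ _).1 hw
    obtain ⟨a, ha, b, hb, rfl⟩ := (mem_sup _ _ _).1 hw1
    refine (mem_sup _ _ _).2 ⟨a, ha, b, (mem_inf _ _ _).2 ⟨hb, ?_⟩, rfl⟩
    have := sub_mem hwz (le_iff.1 hxz ha)
    rwa [add_sub_cancel_left] at this

/-- The quotient of a pair of nested subobjects. -/
noncomputable abbrev qt (a b : Subobject X) (h : a ≤ b) : A := cokernel (Subobject.ofLE a b h)

noncomputable abbrev qπ (a b : Subobject X) (h : a ≤ b) : (b : A) ⟶ qt a b h :=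
  cokernel.π (Subobject.ofLE a b h)

theorem ev_qπ_eq_zero_iff (a b : Subobject X) (h : a ≤ b) (y : El (b : A)) :
    ev (qπ a b h) y = 0 ↔ ev b.arrow y ∈ elts a := by
  rw [cokernel_π_eq_zero_iff]
  constructor
  · rintro ⟨x, rfl⟩
    exact ⟨x, by rw [← ev_comp, Subobject.ofLE_arrow]⟩
  · rintro ⟨x, hx⟩
    exact ⟨x, inj b.arrow (by rw [← hx, ← ev_comp, Subobject.ofLE_arrow])⟩

/-- The second isomorphism theorem. -/
theorem nonempty_iso {a b c d : Subobject X} (hab : a ≤ b) (hcd : c ≤ d) (hdb : d ≤ b) (hca : c ≤ a)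
    (h1 : b ≤ a ⊔ d) (h2 : a ⊓ d ≤ c) : Nonempty (qt c d hcd ≅ qt a b hab) := by
  let φ : qt c d hcd ⟶ qt a b hab :=
    cokernel.map _ _ (Subobject.ofLE c a hca) (Subobject.ofLE d b hdb)
      (by rw [Subobject.ofLE_comp_ofLE, Subobject.ofLE_comp_ofLE])
  have hφ : ∀ y, ev φ (ev (qπ c d hcd) y) = ev (qπ a b hab) (ev (Subobject.ofLE d b hdb) y) := fun y => by
    rw [← ev_comp, ← ev_comp]
    exact ev_congr (cokernel.π_desc _ _ _) y
  have : Mono φ := mono_iff.2 ((injective_iff_map_eq_zero _).2 fun z hz => by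
    obtain ⟨y, rfl⟩ := surj (qπ c d hcd) z
    rw [hφ, ev_qπ_eq_zero_iff, ← ev_comp, Subobject.ofLE_arrow] at hz
    rw [ev_qπ_eq_zero_iff]
    exact le_iff.1 h2 ((mem_inf _ _ _).2 ⟨hz, ⟨y, rfl⟩⟩))
  have : Epi φ := epi_iff.2 fun z => by
    obtain ⟨y, rfl⟩ := surj (qπ a b hab) z
    obtain ⟨p, hp, q, ⟨q', hq⟩, e⟩ := (mem_sup _ _ _).1 (le_iff.1 h1 ⟨y, rfl⟩)
    refine ⟨ev (qπ c d hcd) q', ?_⟩
    rw [hφ, ← sub_eq_zero, ← map_sub, ev_qπ_eq_zero_iff, map_sub, ← ev_comp, Subobject.ofLE_arrow, hq]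
    rw [show q - ev b.arrow y = -p by rw [← e]; abel]
    exact neg_mem hp
  haveI := isIso_of_mono_of_epi φ
  exact ⟨asIso φ⟩

theorem covBy_iff_simple {a b : Subobject X} (h : a ≤ b) : a ⋖ b ↔ Simple (qt a b h) := by
  rw [simple_iff_subobject_isSimpleOrder]
  let π := qπ a b h
  constructor
  · intro hc
    let f : Subobject (qt a b h) → Subobject X := fun T => img b.arrow ((Subobject.pullback π).obj T)
    have hf : ∀ T y, ev b.arrow y ∈ elts (f T) ↔ ev π y ∈ elts T := fun T y => by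
      rw [mem_img, ← mem_pullback]
      exact ⟨fun ⟨x, hx, e⟩ => inj b.arrow e ▸ hx, fun hy => ⟨y, hy, rfl⟩⟩
    have hfa : ∀ T, a ≤ f T := fun T => le_iff'.2 fun x hx => by
      obtain ⟨y, rfl⟩ := le_iff.1 h hx
      rw [hf, (ev_qπ_eq_zero_iff a b h y).2 hx]
      exact zero_mem _
    have hfb : ∀ T, f T ≤ b := fun T => le_iff'.2 fun x hx => by
      obtain ⟨y, -, rfl⟩ := (mem_img _ _ _).1 hx
      exact ⟨y, rfl⟩
    refine { exists_pair_ne := ⟨⊥, ⊤, fun e => hc.lt.not_ge (le_iff'.2 fun x hx => ?_)⟩,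
             eq_bot_or_eq_top := fun T => ?_ }
    · obtain ⟨y, rfl⟩ := hx
      exact (ev_qπ_eq_zero_iff a b h y).1 ((mem_bot _).1 (e ▸ mem_top (ev π y)))
    · rcases hc.eq_or_eq (hfa T) (hfb T) with e | e
      · refine Or.inl (eq_iff.2 fun z => ⟨fun hz => ?_, fun hz => ((mem_bot z).1 hz).symm ▸ zero_mem _⟩)
        obtain ⟨y, rfl⟩ := surj π z
        rw [mem_bot]
        refine (ev_qπ_eq_zero_iff a b h y).2 ?_
        rw [← e]
        exact (hf T y).2 hz
      · refine Or.inr (eq_iff.2 fun z => ⟨fun _ => mem_top z, fun _ => ?_⟩)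
        obtain ⟨y, rfl⟩ := surj π z
        refine (hf T y).1 ?_
        rw [e]
        exact ⟨y, rfl⟩
  · intro hs
    refine ⟨lt_of_le_not_ge h fun hba => ?_, fun c hac hcb => ?_⟩
    · obtain ⟨S, T, hne⟩ := hs.exists_pair_ne
      refine hne (eq_iff.2 fun z => ?_)
      obtain ⟨y, rfl⟩ := surj π z
      rw [(ev_qπ_eq_zero_iff a b h y).2 (le_iff.1 hba ⟨y, rfl⟩)]
      exact ⟨fun _ => zero_mem _, fun _ => zero_mem _⟩
    · let T := img π ((Subobject.pullback b.arrow).obj c)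
      rcases hs.eq_bot_or_eq_top T with e | e
      · refine hac.not_ge (le_iff'.2 fun x hx => ?_)
        obtain ⟨y, rfl⟩ := le_iff.1 hcb.le hx
        refine (ev_qπ_eq_zero_iff a b h y).1 ((mem_bot _).1 ?_)
        rw [← e, mem_img]
        exact ⟨y, (mem_pullback _ _ _).2 hx, rfl⟩
      · refine hcb.not_ge (le_iff'.2 fun x hx => ?_)
        obtain ⟨y, rfl⟩ := hx
        obtain ⟨y', hy', e'⟩ := (mem_img π _ _).1 (e.symm ▸ mem_top (ev π y))
        have h3 : ev b.arrow (y - y') ∈ elts a :=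
          (ev_qπ_eq_zero_iff a b h _).1 (by rw [map_sub]; exact sub_eq_zero.2 e'.symm)
        have := add_mem (le_iff.1 hac.le h3) ((mem_pullback _ _ _).1 hy')
        rwa [map_sub, sub_add_cancel] at this

/-- Isomorphism of the quotients of two intervals. -/
def QRel (x y : Subobject X × Subobject X) : Prop :=
  Nonempty (qt (x.1 ⊓ x.2) x.2 inf_le_right ≅ qt (y.1 ⊓ y.2) y.2 inf_le_right)

theorem nonempty_iso_inf {a b : Subobject X} (h : a ≤ b) :
    Nonempty (qt (a ⊓ b) b inf_le_right ≅ qt a b h) :=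
  nonempty_iso h inf_le_right le_rfl inf_le_left le_sup_right le_rfl

theorem qrel_of_iso {x y : Subobject X × Subobject X} (h : JordanHolderLattice.Iso x y) : QRel x y :=
  JordanHolderLattice.Iso.rel QRel ⟨Iso.refl _⟩ (fun ⟨e⟩ => ⟨e.symm⟩) (fun ⟨e⟩ ⟨e'⟩ => ⟨e ≪≫ e'⟩)
    (fun {a b} _ => by
      obtain ⟨e⟩ := nonempty_iso (a := a ⊓ (a ⊔ b)) (b := a ⊔ b) (c := a ⊓ b ⊓ b) (d := b) inf_le_right
        inf_le_right le_sup_right (le_inf (inf_le_left.trans inf_le_left) (inf_le_right.trans le_sup_right))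
        (by rw [inf_sup_self]) (by rw [inf_sup_self, inf_assoc, inf_idem])
      exact ⟨e.symm⟩) h

theorem exists_series_of_wellFounded [IsArtinianObject X] [IsNoetherianObject X] :
    ∃ (n : ℕ) (F : Fin (n + 1) → Subobject X), Monotone F ∧ F 0 = ⊥ ∧ F (Fin.last n) = ⊤ ∧
      ∀ i : Fin n, F i.castSucc ⋖ F i.succ := by
  obtain ⟨a, h0, n, hn, hc⟩ := exists_covBy_seq_of_wellFoundedLT_wellFoundedGT_of_le
    (bot_le : (⊥ : Subobject X) ≤ ⊤)
  refine ⟨n, fun i => a i.val, Fin.monotone_iff_le_succ.2 fun i => (hc i.val i.2).le, h0, hn,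
    fun i => hc i.val i.2⟩

end Groth.L00.SubobjLattice
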