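/-
`tilde (M ⊗ N) ≅ tensorMod (tilde M) (tilde N)`.
-/
import Groth.Agent.L00.TensorColim
import Mathlib.AlgebraicGeometry.Modules.Tilde
import Mathlib.Algebra.Category.ModuleCat.Monoidal.Closed

set_option autoImplicit false

universe u

open CategoryTheory MonoidalCategory AlgebraicGeometry CategoryTheory.Limits Opposite TensorProduct

namespace Groth.L00.Tensor

section General

variable {C D : Type*} [Category C] [Category D]

/-- a natural transformation that is invertible on a diagram is invertible on its colimit, for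
functors preserving that colimit -/
theorem isIso_app_of_isColimit {F G : C ⥤ D} (θ : F ⟶ G) {J : Type*} [Category J] {K : J ⥤ C}
    [PreservesColimit K F] [PreservesColimit K G] {c : Cocone K} (hc : IsColimit c)
    [∀ j, IsIso (θ.app (K.obj j))] : IsIso (θ.app c.pt) := by
  haveI : ∀ j, IsIso ((Functor.whiskerLeft K θ).app j) :=
    fun j => inferInstanceAs (IsIso (θ.app (K.obj j)))
  haveI := NatIso.isIso_of_isIso_app (Functor.whiskerLeft K θ)
  let e := IsColimit.coconePointsIsoOfNatIso (isColimitOfPreserves F hc) (isColimitOfPreserves G hc)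
    (asIso (Functor.whiskerLeft K θ))
  have he : e.hom = θ.app c.pt := (isColimitOfPreserves F hc).hom_ext fun j => by
    refine (IsColimit.comp_coconePointsIsoOfNatIso_hom _ _ _ j).trans ?_
    simp
  exact he ▸ inferInstance

end General

variable {X : Scheme.{u}}

lemma unit_lift {P : PX X} {M : X.Modules} (φ : P ⟶ pre M) :
    unit P ≫ (preF X).map ((shf X).map φ ≫ (counitIso M).hom) = φ := by
  have h1 : φ ≫ unit (pre M) = unit P ≫ (preF X).map ((shf X).map φ) :=
    (PresheafOfModules.sheafificationAdjunction (𝟙 X.ringCatSheaf.obj)).unit.naturality φ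
  have h2 : unit (pre M) ≫ (preF X).map (counitIso M).hom = 𝟙 (pre M) :=
    (PresheafOfModules.sheafificationAdjunction (𝟙 X.ringCatSheaf.obj)).right_triangle_components M
  refine (congrArg (fun k => unit P ≫ k) ((preF X).map_comp _ _)).trans ?_
  refine (Category.assoc _ _ _).symm.trans ?_
  refine (congrArg (fun k => k ≫ (preF X).map (counitIso M).hom) h1.symm).trans ?_
  exact (Category.assoc _ _ _).trans ((congrArg (fun k => φ ≫ k) h2).trans (Category.comp_id φ))

variable {R : CommRingCat.{u}}

/-- global sections of `tilde M` from elements of `M` -/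
noncomputable def top (M : ModuleCat.{u} R) (m : M) : (pre (tilde M)).obj (op ⊤) :=
  tilde.toOpen M ⊤ m

/-- `m ⊗ n` as a global section of the tensor product -/
noncomputable def topTensor (M N : ModuleCat.{u} R) (m : M) (n : N) :
    (moduleSpecΓFunctor (R := R)).obj (CohB1.tensorMod (tilde M) (tilde N)) :=
  ev (unit (pre (tilde M) ⊗ pre (tilde N))) (op ⊤) (top M m) (top N n)

/-- the scalar of `Γ(⊤, O)` attached to an element of `R` -/
noncomputable def topScalar (r : R) : (Spec R).sheaf.obj.obj (op ⊤) :=
  (Spec R).presheaf.map (⊤ : (Spec R).Opens).leTop.op ((Scheme.ΓSpecIso R).inv r)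

/-- the map `M ⊗ N → Γ(tilde M ⊗ tilde N)` -/
noncomputable def topTensorHom (M N : ModuleCat.{u} R) :
    M ⊗ N ⟶ (moduleSpecΓFunctor (R := R)).obj (CohB1.tensorMod (tilde M) (tilde N)) :=
  ModuleCat.MonoidalCategory.tensorLift (topTensor M N)
    (fun m m' n => by
      have h : top M (m + m') = top M m + top M m' := map_add (tilde.toOpen M ⊤).hom m m'
      simp only [topTensor, h]
      exact ev_add₁ _ _ _ _ _)
    (fun r m n => by
      have h : top M (r • m) = topScalar r • top M m := map_smul (tilde.toOpen M ⊤).hom r m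
      simp only [topTensor, h]
      exact ev_smul₁ (unit (pre (tilde M) ⊗ pre (tilde N))) _ (topScalar r) _ _)
    (fun m n n' => by
      have h : top N (n + n') = top N n + top N n' := map_add (tilde.toOpen N ⊤).hom n n'
      simp only [topTensor, h]
      exact ev_add₂ _ _ _ _ _)
    (fun r m n => by
      have h : top N (r • n) = topScalar r • top N n := map_smul (tilde.toOpen N ⊤).hom r n
      simp only [topTensor, h]
      exact ev_smul₂ (unit (pre (tilde M) ⊗ pre (tilde N))) _ (topScalar r) _ _)

/-- the comparison map `tilde (M ⊗ N) → tilde M ⊗ tilde N` -/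
noncomputable def tildeTensorHom (M N : ModuleCat.{u} R) :
    tilde (M ⊗ N) ⟶ CohB1.tensorMod (tilde M) (tilde N) :=
  ((tilde.adjunction (R := R)).homEquiv _ _).symm (topTensorHom M N)

lemma top_map {M M' : ModuleCat.{u} R} (f : M ⟶ M') (m : M) :
    ((preF (Spec R)).map (tilde.map f)).app (op ⊤) (top M m) = top M' (f m) :=
  congrArg (fun k => (ConcreteCategory.hom k) m) (tilde.toOpen_map_app f (⊤ : (Spec R).Opens))

lemma topTensor_naturality {M M' N N' : ModuleCat.{u} R} (f : M ⟶ M') (g : N ⟶ N') (m : M) (n : N) :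
    (moduleSpecΓFunctor (R := R)).map (tensorMap (tilde.map f) (tilde.map g)) (topTensor M N m n) =
      topTensor M' N' (f m) (g n) := by
  let φ := (preF (Spec R)).map (tilde.map f) ⊗ₘ (preF (Spec R)).map (tilde.map g)
  let z : (pre (tilde M) ⊗ pre (tilde N)).obj (op ⊤) :=
    top M m ⊗ₜ[(Spec R).sheaf.obj.obj (op ⊤)] top N n
  have hnat : φ ≫ unit _ = unit _ ≫ (preF (Spec R)).map ((shf (Spec R)).map φ) :=
    (PresheafOfModules.sheafificationAdjunction (𝟙 (Spec R).ringCatSheaf.obj)).unit.naturality φ
  have e := congrArg (fun k => (ConcreteCategory.hom ((PresheafOfModules.Hom.app k (op ⊤)))) z) hnat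
  refine Eq.trans e.symm ?_
  change (unit _).app (op ⊤) (φ.app (op ⊤) z) = ev (unit _) (op ⊤) (top M' (f m)) (top N' (g n))
  rw [← top_map f m, ← top_map g n]
  rfl

lemma tildeTensorHom_naturality {M M' N N' : ModuleCat.{u} R} (f : M ⟶ M') (g : N ⟶ N') :
    tilde.map (f ⊗ₘ g) ≫ tildeTensorHom M' N' =
      tildeTensorHom M N ≫ tensorMap (tilde.map f) (tilde.map g) := by
  refine (Adjunction.homEquiv_naturality_left_symm (tilde.adjunction (R := R)) (f ⊗ₘ g) _).symm.trans ?_
  refine Eq.trans ?_ (Adjunction.homEquiv_naturality_right_symm (tilde.adjunction (R := R)) _ _)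
  refine congrArg ((tilde.adjunction (R := R)).homEquiv _ _).symm ?_
  exact ModuleCat.MonoidalCategory.tensor_ext fun m n => (topTensor_naturality f g m n).symm

/-- `M ↦ tilde (M ⊗ N)` to `M ↦ tilde M ⊗ tilde N` -/
noncomputable def tildeTensorNatTrans (N : ModuleCat.{u} R) :
    MonoidalCategory.tensorRight N ⋙ tilde.functor R ⟶ tilde.functor R ⋙ tensorRightF (tilde N) where
  app M := tildeTensorHom M N
  naturality {M M'} f := by
    change tilde.map (f ▷ N) ≫ tildeTensorHom M' N =
      tildeTensorHom M N ≫ tensorMap (tilde.map f) (𝟙 (tilde N))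
    rw [← tilde.map_id, ← tildeTensorHom_naturality, MonoidalCategory.tensorHom_id]

lemma tildeTensorHom_unit (N : ModuleCat.{u} R) :
    tildeTensorHom (ModuleCat.of R R) N ≫ (tensorUnitLeft (tilde N)).hom =
      tilde.map (λ_ N).hom := by
  refine ((tilde.adjunction (R := R)).homEquiv _ _).injective ?_
  refine (Adjunction.homEquiv_naturality_right (tilde.adjunction (R := R)) _ _).trans ?_
  refine (congrArg (fun k => k ≫ _) (((tilde.adjunction (R := R)).homEquiv _ _).apply_symm_apply _)).trans ?_
  refine Eq.trans ?_ ((tilde.adjunction (R := R)).homEquiv_unit (f := tilde.map (λ_ N).hom)).symm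
  refine ModuleCat.MonoidalCategory.tensor_ext fun r n => ?_
  let z : (pre (Coh.structureModule (Spec R)) ⊗ pre (tilde N)).obj (op ⊤) :=
    top (ModuleCat.of R R) r ⊗ₜ[(Spec R).sheaf.obj.obj (op ⊤)] top N n
  have e := congrArg (fun k => (ConcreteCategory.hom (PresheafOfModules.Hom.app k (op ⊤))) z)
    (unit_lift (λ_ (pre (tilde N))).hom)
  refine Eq.trans e ?_
  have h : top N ((r : R) • n) = topScalar r • top N n := map_smul (tilde.toOpen N ⊤).hom r n
  refine Eq.trans ?_ ((h.symm.trans (top_map (λ_ N).hom ((r : R) ⊗ₜ[R] n)).symm))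
  rfl

instance isIso_tildeTensor_unit (N : ModuleCat.{u} R) :
    IsIso ((tildeTensorNatTrans N).app (ModuleCat.of R R)) := by
  change IsIso (tildeTensorHom (ModuleCat.of R R) N)
  have : tildeTensorHom (ModuleCat.of R R) N =
      tilde.map (λ_ N).hom ≫ (tensorUnitLeft (tilde N)).inv :=
    (Iso.eq_comp_inv _).2 (tildeTensorHom_unit N)
  rw [this]
  exact ((tilde.functor R).mapIso (λ_ N) ≪≫ (tensorUnitLeft (tilde N)).symm).isIso_hom

/-- colimit-preserving functors on modules: invertible at `R` implies invertible everywhere -/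
theorem isIso_app_of_unit {D : Type*} [Category D] {F G : ModuleCat.{u} R ⥤ D}
    [PreservesColimitsOfSize.{u, u} F] [PreservesColimitsOfSize.{u, u} G] (θ : F ⟶ G)
    [IsIso (θ.app (ModuleCat.of R R))] (M : ModuleCat.{u} R) : IsIso (θ.app M) := by
  haveI : PreservesColimitsOfSize.{0, 0} F := preservesColimitsOfSize_shrink.{0, u, 0, u} F
  haveI : PreservesColimitsOfSize.{0, 0} G := preservesColimitsOfSize_shrink.{0, u, 0, u} G
  have hfree : ∀ ι : Type u, IsIso (θ.app (ModuleCat.of R (ι →₀ R))) := by
    intro ι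
    haveI : ∀ j, IsIso (θ.app ((Discrete.functor fun _ : ι => ModuleCat.of R R).obj j)) :=
      fun _ => inferInstanceAs (IsIso (θ.app (ModuleCat.of R R)))
    exact isIso_app_of_isColimit θ (ModuleCat.finsuppCoconeIsColimit R R ι)
  let b : ↑M → ↑M := id
  let t : Set (↑M →₀ R) := (LinearMap.ker (Finsupp.linearCombination R b) : Set _)
  let f : ModuleCat.of R (t →₀ R) ⟶ ModuleCat.of R (↑M →₀ R) :=
    ModuleCat.ofHom (Finsupp.linearCombination R Subtype.val)
  let g : ModuleCat.of R (↑M →₀ R) ⟶ M := ModuleCat.ofHom (Finsupp.linearCombination R b)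
  have H₁ : Function.Exact f g := LinearMap.exact_iff.mpr (by
    change LinearMap.ker (Finsupp.linearCombination R b) =
      LinearMap.range (Finsupp.linearCombination R (Subtype.val : t → _))
    rw [Finsupp.range_linearCombination, Subtype.range_coe]
    exact (Submodule.span_eq (LinearMap.ker (Finsupp.linearCombination R b))).symm)
  have H₂ : Function.Surjective g := fun m => ⟨Finsupp.single m 1, by simp [g, b]⟩
  haveI : ∀ j, IsIso (θ.app ((parallelPair f 0).obj j)) := by
    intro j
    cases j
    · exact hfree _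
    · exact hfree _
  exact isIso_app_of_isColimit θ (ModuleCat.isColimitCokernelCofork f g H₁ H₂)

theorem isIso_tildeTensorNatTrans (M N : ModuleCat.{u} R) :
    IsIso ((tildeTensorNatTrans N).app M) := by
  haveI : PreservesColimitsOfSize.{u, u} (MonoidalCategory.tensorRight N) :=
    preservesColimits_of_natIso (BraidedCategory.tensorLeftIsoTensorRight N)
  haveI : PreservesColimitsOfSize.{u, u} (tilde.functor R) :=
    (tilde.adjunction (R := R)).leftAdjoint_preservesColimits
  haveI : PreservesColimitsOfSize.{u, u} (MonoidalCategory.tensorRight N ⋙ tilde.functor R) :=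
    comp_preservesColimits _ _
  haveI : PreservesColimitsOfSize.{u, u} (tilde.functor R ⋙ tensorRightF (tilde N)) :=
    comp_preservesColimits _ _
  exact @isIso_app_of_unit R _ _ _ _ inferInstance inferInstance (tildeTensorNatTrans N)
    (isIso_tildeTensor_unit N) M

/-- `tilde (M ⊗ N) ≅ tilde M ⊗ tilde N` -/
noncomputable def tildeTensorIso (M N : ModuleCat.{u} R) :
    tilde (M ⊗ N) ≅ CohB1.tensorMod (tilde M) (tilde N) :=
  @asIso _ _ _ _ ((tildeTensorNatTrans N).app M) (isIso_tildeTensorNatTrans M N)

end Groth.L00.Tensor
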