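/-
Tensor products of quasi-coherent / finite type modules.
-/
import Groth.Agent.L00.TensorTilde
import Groth.Agent.L00.TensorRestrict
import Groth.Agent.L00.LocalData

set_option autoImplicit false

universe u

open CategoryTheory MonoidalCategory AlgebraicGeometry CategoryTheory.Limits

namespace Groth.L00.Tensor

variable {X : Scheme.{u}}

theorem isQCoh_tensorMod (F G : X.Modules) [Coh.IsQCoh F] [Coh.IsQCoh G] :
    Coh.IsQCoh (CohB1.tensorMod F G) := by
  refine Local.isQCoh_of_tilde_charts _ fun x => ?_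
  obtain ⟨R, j, hj, hx⟩ : ∃ (R : CommRingCat.{u}) (j : Spec R ⟶ X) (_ : IsOpenImmersion j),
      x ∈ j.opensRange :=
    ⟨_, X.affineCover.f (X.affineCover.idx x), X.affineCover.map_prop _, X.affineCover.covers x⟩
  obtain ⟨A, ⟨eA⟩⟩ := Local.exists_tilde_iso_restrict j F
  obtain ⟨B, ⟨eB⟩⟩ := Local.exists_tilde_iso_restrict j G
  exact ⟨R, j, hj, A ⊗ B, hx,
    ⟨(tensorRestrict j F G).symm ≪≫ tensorIso eA eB ≪≫ (tildeTensorIso A B).symm⟩⟩

/-- generators of a tensor product -/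
theorem exists_generators_tensor {A B : X.Modules} (σ : A.GeneratingSections)
    (τ : B.GeneratingSections) :
    ∃ ρ : (CohB1.tensorMod A B).GeneratingSections, ρ.I = (σ.I × τ.I) := by
  let O : X.Modules := SheafOfModules.unit X.ringCatSheaf
  let p : (∐ fun _ : σ.I => O) ⟶ A := σ.π
  let q : (∐ fun _ : τ.I => O) ⟶ B := τ.π
  haveI : Epi p := σ.epi
  haveI : Epi q := τ.epi
  let inc : ∀ _ : σ.I, B ⟶ CohB1.tensorMod A B := fun i =>
    (tensorUnitLeft B).inv ≫ tensorMap (Sigma.ι (fun _ : σ.I => O) i ≫ p) (𝟙 B)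
  let h : (∐ fun _ : σ.I × τ.I => O) ⟶ CohB1.tensorMod A B :=
    Sigma.desc fun k : σ.I × τ.I => (Sigma.ι (fun _ : τ.I => O) k.2 ≫ q) ≫ inc k.1
  haveI : PreservesColimitsOfSize.{u, u} (tensorRightF B) := preservesColimits_tensorRightF B
  haveI : PreservesColimitsOfSize.{0, 0} (tensorRightF B) :=
    preservesColimitsOfSize_shrink.{0, u, 0, u} _
  haveI hp : Epi ((tensorRightF B).map p) := inferInstance
  have hh : Epi h := ⟨fun {Z} a b hab => by
    have hinc : ∀ i, inc i ≫ a = inc i ≫ b := fun i => by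
      refine (cancel_epi q).1 (Sigma.hom_ext _ _ fun j => ?_)
      have := congrArg (fun k => Sigma.ι (fun _ : σ.I × τ.I => O) (i, j) ≫ k) hab
      simpa [h, Category.assoc] using this
    refine (cancel_epi ((tensorRightF B).map p)).1 ?_
    refine (isColimitOfPreserves (tensorRightF B) (coproductIsCoproduct fun _ : σ.I => O)).hom_ext
      fun i => ?_
    obtain ⟨i⟩ := i
    have hi : tensorMap (Sigma.ι (fun _ : σ.I => O) i ≫ p) (𝟙 B) ≫ a =
        tensorMap (Sigma.ι (fun _ : σ.I => O) i ≫ p) (𝟙 B) ≫ b := by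
      have := hinc i
      simp only [inc, Category.assoc] at this
      exact (cancel_epi (tensorUnitLeft B).inv).1 this
    change tensorMap (Sigma.ι (fun _ : σ.I => O) i) (𝟙 B) ≫ tensorMap p (𝟙 B) ≫ a =
      tensorMap (Sigma.ι (fun _ : σ.I => O) i) (𝟙 B) ≫ tensorMap p (𝟙 B) ≫ b
    rw [← Category.assoc, ← tensorMap_comp, Category.comp_id, ← Category.assoc,
      ← tensorMap_comp, Category.comp_id]
    exact hi⟩
  exact ⟨{ I := σ.I × τ.I
           s := SheafOfModules.freeHomEquiv _ h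
           epi := by rw [Equiv.symm_apply_apply]; exact hh }, rfl⟩

theorem isFT_tensorMod (F G : X.Modules) (hF : CohB1.IsFT F) (hG : CohB1.IsFT G) :
    CohB1.IsFT (CohB1.tensorMod F G) := by
  refine Local.isFT_of_generators _ fun x => ?_
  obtain ⟨U, σ, hxU, hσ⟩ := Local.exists_generators_of_isFT F hF x
  obtain ⟨V, τ, hxV, hτ⟩ := Local.exists_generators_of_isFT G hG x
  obtain ⟨σ', hσ'⟩ := Local.exists_generators_restrict_le F (inf_le_left : U ⊓ V ≤ U) σ
  obtain ⟨τ', hτ'⟩ := Local.exists_generators_restrict_le G (inf_le_right : U ⊓ V ≤ V) τ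
  obtain ⟨ρ, hρ⟩ := exists_generators_tensor σ' τ'
  refine ⟨U ⊓ V, ρ.ofEpi (tensorRestrict (U ⊓ V).ι F G).hom, ⟨hxU, hxV⟩, ?_⟩
  change Finite ρ.I
  rw [hρ, hσ', hτ']
  infer_instance

end Groth.L00.Tensor
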