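/-
Derived functors of right exact functors and triangles; tor amplitude.
-/
import Groth.Agent.L00.DerivedApi
import Mathlib.Algebra.Homology.DerivedCategory.Fractions
import Mathlib.RingTheory.Flat.Stability

set_option autoImplicit false
set_option backward.isDefEq.respectTransparency false
set_option backward.isDefEq.respectTransparency.types false

universe u

open CategoryTheory CategoryTheory.Limits MonoidalCategory AlgebraicGeometry CochainComplex Pretriangulated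

attribute [local instance] HasDerivedCategory.standard

namespace Groth.L00.TorAmp

open Groth.L00.KFlat Groth.L00.DerivedApi

variable {X Y : Scheme.{u}} {G : Y.Modules ⥤ X.Modules} [G.Additive]

variable (G) in
/-- homology of `G` of a complex -/
noncomputable abbrev HG (P : CochainComplex Y.Modules ℤ) (i : ℤ) : X.Modules :=
  ((G.mapHomologicalComplex (ComplexShape.up ℤ)).obj P).homology i

/-- shifts of representatives -/
theorem isZero_HG_shift (P : CochainComplex Y.Modules ℤ) (k i : ℤ) (h : IsZero (HG G P (k + i))) :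
    IsZero (HG G (P⟦k⟧) i) :=
  (h.of_iso ((CochainComplex.ShiftSequence.shiftIso X.Modules k i (k + i) rfl).app _)).of_iso
    ((HomologicalComplex.homologyFunctor _ _ i).mapIso
      (((G.mapHomologicalComplex (ComplexShape.up ℤ)).commShiftIso k).app P))

/-- a K-flat representative of the third vertex -/
theorem exists_rep_obj₃ (hG : AcyclicKFlat G) {T : Triangle (DCoh.D Y)} (hT : T ∈ distTriang (DCoh.D Y))
    {P₁ P₂ : CochainComplex Y.Modules ℤ} (h₁ : DCoh.IsKFlat P₁) (h₂ : DCoh.IsKFlat P₂)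
    (e₁ : DCoh.toD Y P₁ ≅ T.obj₁) (e₂ : DCoh.toD Y P₂ ≅ T.obj₂) :
    ∃ C : CochainComplex Y.Modules ℤ, DCoh.IsKFlat C ∧ Nonempty (DCoh.toD Y C ≅ T.obj₃) ∧
      ∀ i, IsZero (HG G P₁ (i + 1)) → IsZero (HG G P₂ i) → IsZero (HG G C i) := by
  obtain ⟨R, s, hs, g, hg⟩ := DerivedCategory.right_fac (e₁.hom ≫ T.mor₁ ≫ e₂.inv)
  haveI := hs
  let r := (rF Y).app R
  haveI : QuasiIso r := quasiIso_rF R
  haveI : IsIso (DerivedCategory.Q.map r) :=
    Localization.inverts DerivedCategory.Q (HomologicalComplex.quasiIso Y.Modules (ComplexShape.up ℤ))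
      _ ((HomologicalComplex.mem_quasiIso_iff _).2 inferInstance)
  haveI : QuasiIso s := (DerivedCategory.isIso_Q_map_iff_quasiIso (C := Y.Modules) (φ := s)).1 hs
  have hR : DCoh.IsKFlat ((RF Y).obj R) := isKFlat_RF R
  let φ : (RF Y).obj R ⟶ P₂ := r ≫ g
  refine ⟨mappingCone φ, isKFlat_cone φ hR h₂, ⟨?_⟩, fun i hz₁ hz₂ => ?_⟩
  · refine Triangle.π₃.mapIso (isoTriangleOfIso₁₂ _ T (DerivedCategory.mappingCone_triangle_distinguished φ) hT
      (asIso (DerivedCategory.Q.map (r ≫ s)) ≪≫ e₁) e₂ ?_)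
    change DerivedCategory.Q.map φ ≫ e₂.hom = (DerivedCategory.Q.map (r ≫ s) ≫ e₁.hom) ≫ T.mor₁
    rw [Category.assoc]
    have : e₁.hom ≫ T.mor₁ = inv (DerivedCategory.Q.map s) ≫ DerivedCategory.Q.map g ≫ e₂.hom := by
      rw [← Category.assoc, ← hg]; simp
    rw [this, Functor.map_comp, Functor.map_comp]
    simp
  · haveI := quasiIso_map hG (r ≫ s) hR h₁
    have hS := HomologicalComplex.shortExact_of_degreewise_shortExact
      ((mappingCone.triangleRotateShortComplex φ).map (G.mapHomologicalComplex (ComplexShape.up ℤ)))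
      (fun q => ((mappingCone.triangleRotateShortComplexSplitting φ q).map G).shortExact)
    have h₃ : IsZero (HG G (((RF Y).obj R)⟦(1 : ℤ)⟧) i) := by
      refine isZero_HG_shift _ 1 i ?_
      rw [add_comm]
      exact hz₁.of_iso (asIso (HomologicalComplex.homologyMap
        ((G.mapHomologicalComplex (ComplexShape.up ℤ)).map (r ≫ s)) (i + 1)))
    exact (hS.homology_exact₂ i).isZero_X₂ (hz₂.eq_of_src _ _) (h₃.eq_of_tgt _ _)

/-- shifting a representative -/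
noncomputable def toDShift (P : CochainComplex Y.Modules ℤ) (k : ℤ) :
    DCoh.toD Y (P⟦k⟧) ≅ (DCoh.toD Y P)⟦k⟧ :=
  ((DerivedCategory.Q (C := Y.Modules)).commShiftIso k).app P

end Groth.L00.TorAmp

namespace Groth.L00.TorAmp

open Groth.L00.KFlat Groth.L00.DerivedApi

variable {X Y : Scheme.{u}}

theorem isKFlat_of_vanishes {E : CochainComplex X.Modules ℤ} {a b : ℤ} (h : DCoh.VanishesOutside E a b)
    (hflat : ∀ i, FlatMod.IsFlat (E.X i)) : DCoh.IsKFlat E :=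
  of_bounded E b ((CochainComplex.isStrictlyLE_iff E b).2 fun i hi => h i (Or.inr hi)) hflat

theorem isZero_HG_of_isZero_X (G : Y.Modules ⥤ X.Modules) [G.Additive] (E : CochainComplex Y.Modules ℤ)
    (i : ℤ) (h : IsZero (E.X i)) : IsZero (HG G E i) :=
  ShortComplex.isZero_homology_of_isZero_X₂ _ (G.map_isZero h)

theorem torAmp_of_flatAmp {E : CochainComplex X.Modules ℤ} {a b : ℤ} (h : DCoh.VanishesOutside E a b)
    (hflat : ∀ i, FlatMod.IsFlat (E.X i)) {K : DCoh.D X} (e : DCoh.toD X E ≅ K) :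
    DCoh.HasTorAmplitudeIn a b K := fun M _ i hi =>
  (isZero_HD_iff (acyclicKFlat_tensorMod M) (isKFlat_of_vanishes h hflat) e i).2
    (isZero_HG_of_isZero_X _ _ i (h i hi))

theorem flat_extendScalars {A B : Type u} [CommRing A] [CommRing B] (g : A →+* B) (M : ModuleCat.{u} A)
    (h : Module.Flat A M) : Module.Flat B ((ModuleCat.extendScalars g).obj M) := by
  letI := g.toAlgebra
  haveI := h
  exact (inferInstance : Module.Flat B (TensorProduct A B M))

theorem flat_of_iso {B : Type u} [CommRing B] {M N : ModuleCat.{u} B} (e : M ≅ N) (h : Module.Flat B N) :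
    Module.Flat B M :=
  haveI := h
  Module.Flat.of_linearEquiv e.toLinearEquiv

theorem isFlat_pullback (f : X ⟶ Y) {M : Y.Modules} (h : FlatMod.IsFlat M) :
    FlatMod.IsFlat ((Scheme.Modules.pullback f).obj M) := fun x => by
  exact flat_of_iso ((PullStalk.stalkIso f x).app M)
    (flat_extendScalars (PullStalk.φ f x) ((Groth.L00.Stk.F Y (f x)).obj M) (h (f x)))

theorem torAmp_Lpull (f : X ⟶ Y) [DCoh.HasLpull f] (K : DCoh.D Y) (a b : ℤ)
    (hK : DCoh.HasFlatAmplitudeIn a b K) : DCoh.HasTorAmplitudeIn a b ((DCoh.Lpull f).obj K) := by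
  obtain ⟨E, hv, hfl, ⟨e⟩⟩ := hK
  exact torAmp_of_flatAmp (E := ((Scheme.Modules.pullback f).mapHomologicalComplex (ComplexShape.up ℤ)).obj E)
    (fun i hi => (Scheme.Modules.pullback f).map_isZero (hv i hi)) (fun i => isFlat_pullback f (hfl i))
    ((objIso (acyclicKFlat_pullback f) E (isKFlat_of_vanishes hv hfl)).symm ≪≫
      (DCoh.Lpull f).mapIso e)

theorem torAmp_triangle (T : Triangle (DCoh.D X)) (hT : T ∈ distTriang (DCoh.D X)) (a b : ℤ) :
    (DCoh.HasFlatAmplitudeIn (a + 1) (b + 1) T.obj₁ → DCoh.HasFlatAmplitudeIn a b T.obj₂ →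
      DCoh.HasTorAmplitudeIn a b T.obj₃) ∧
    (DCoh.HasFlatAmplitudeIn a b T.obj₁ → DCoh.HasFlatAmplitudeIn a b T.obj₃ → DCoh.HasTorAmplitudeIn a b T.obj₂) ∧
    (DCoh.HasFlatAmplitudeIn (a + 1) (b + 1) T.obj₂ → DCoh.HasFlatAmplitudeIn a b T.obj₃ →
      DCoh.HasTorAmplitudeIn (a + 1) (b + 1) T.obj₁) := by
  refine ⟨?_, ?_, ?_⟩
  · rintro ⟨E₁, hv₁, hf₁, ⟨e₁⟩⟩ ⟨E₂, hv₂, hf₂, ⟨e₂⟩⟩ M _ i hi
    obtain ⟨C, hC, ⟨e₃⟩, hz⟩ := exists_rep_obj₃ (acyclicKFlat_tensorMod M) hT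
      (isKFlat_of_vanishes hv₁ hf₁) (isKFlat_of_vanishes hv₂ hf₂) e₁ e₂
    exact (isZero_HD_iff (acyclicKFlat_tensorMod M) hC e₃ i).2 (hz i
      (isZero_HG_of_isZero_X _ _ _ (hv₁ _ (hi.imp (by omega) (by omega))))
      (isZero_HG_of_isZero_X _ _ _ (hv₂ _ hi)))
  · rintro ⟨E₁, hv₁, hf₁, ⟨e₁⟩⟩ ⟨E₃, hv₃, hf₃, ⟨e₃⟩⟩ M _ i hi
    obtain ⟨C, hC, ⟨e⟩, hz⟩ := exists_rep_obj₃ (acyclicKFlat_tensorMod M) (inv_rot_of_distTriang _ hT)
      (shift _ (-1) (isKFlat_of_vanishes hv₃ hf₃)) (isKFlat_of_vanishes hv₁ hf₁)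
      (toDShift E₃ (-1) ≪≫ (CategoryTheory.shiftFunctor _ (-1 : ℤ)).mapIso e₃) e₁
    exact (isZero_HD_iff (acyclicKFlat_tensorMod M) hC e i).2 (hz i
      (isZero_HG_shift _ _ _ (isZero_HG_of_isZero_X _ _ _ (hv₃ _ (hi.imp (by omega) (by omega)))))
      (isZero_HG_of_isZero_X _ _ _ (hv₁ _ hi)))
  · rintro ⟨E₂, hv₂, hf₂, ⟨e₂⟩⟩ ⟨E₃, hv₃, hf₃, ⟨e₃⟩⟩ M _ i hi
    obtain ⟨C, hC, ⟨e⟩, hz⟩ := exists_rep_obj₃ (acyclicKFlat_tensorMod M) (rot_of_distTriang _ hT)
      (isKFlat_of_vanishes hv₂ hf₂) (isKFlat_of_vanishes hv₃ hf₃) e₂ e₃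
    refine (isZero_HD_iff (acyclicKFlat_tensorMod M) (shift C (-1) hC)
      (toDShift C (-1) ≪≫ (CategoryTheory.shiftFunctor _ (-1 : ℤ)).mapIso e ≪≫
        (shiftFunctorCompIsoId _ (1 : ℤ) (-1) (by omega)).app T.obj₁) i).2 ?_
    exact isZero_HG_shift _ _ _ (hz _
      (isZero_HG_of_isZero_X _ _ _ (hv₂ _ (hi.imp (by omega) (by omega))))
      (isZero_HG_of_isZero_X _ _ _ (hv₃ _ (hi.imp (by omega) (by omega)))))

theorem torAmp_of_biprod (K L : DCoh.D X) [HasBinaryBiproduct K L] (a b : ℤ)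
    (h : DCoh.HasFlatAmplitudeIn a b (K ⊞ L)) :
    DCoh.HasTorAmplitudeIn a b K ∧ DCoh.HasTorAmplitudeIn a b L := by
  obtain ⟨E, hv, hfl, ⟨e⟩⟩ := h
  have key : ∀ (Z : DCoh.D X) (i : Z ⟶ K ⊞ L) (p : K ⊞ L ⟶ Z), i ≫ p = 𝟙 Z →
      DCoh.HasTorAmplitudeIn a b Z := by
    intro Z i p hip M _ n hn
    have hz : IsZero (DCoh.HD ((DCoh.LTensorMod M).obj (K ⊞ L)) n) :=
      torAmp_of_flatAmp hv hfl e M n hn
    let F := DCoh.LTensorMod M ⋙ DerivedCategory.homologyFunctor X.Modules n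
    change IsZero (F.obj Z)
    rw [IsZero.iff_id_eq_zero, ← F.map_id, ← hip, F.map_comp]
    exact (congrArg (fun k => k ≫ F.map p) (hz.eq_of_tgt (F.map i) 0)).trans zero_comp
  exact ⟨key K biprod.inl biprod.fst biprod.inl_fst, key L biprod.inr biprod.snd biprod.inr_snd⟩

end Groth.L00.TorAmp
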