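/-
Tor amplitude against flat representatives.
-/
import Groth.Agent.L00.TorAmp
import Groth.Agent.L02.Flat

set_option autoImplicit false
set_option backward.isDefEq.respectTransparency false
set_option backward.isDefEq.respectTransparency.types false

universe u

open CategoryTheory CategoryTheory.Limits MonoidalCategory AlgebraicGeometry CochainComplex

attribute [local instance] HasDerivedCategory.standard

namespace Groth.L00.TorAmp

open Groth.L00.KFlat Groth.L00.DerivedApi

variable {X : Scheme.{u}}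

/-- stalks of `- ⊗ G` -/
noncomputable def stalkTensorIso (G : X.Modules) (x : X) :
    DCoh.tensorRightMod G ⋙ Groth.L00.Stk.F X x ≅
      Groth.L00.Stk.F X x ⋙ tensorRight ((Groth.L00.Stk.F X x).obj G) :=
  Functor.isoWhiskerRight (tensorRightModIso G) _ ≪≫
    (NatIso.ofComponents (fun M => Groth.L00.Stk.β x M G)
      (fun f => Groth.L00.Stk.β_natural₁ x f G)).symm

/-- vanishing of `H^j(E ⊗ G)` on stalks -/
theorem exact_rTensor (E : CochainComplex X.Modules ℤ) (G : X.Modules) (x : X) (i j k : ℤ) (hij : i + 1 = j)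
    (hjk : j + 1 = k) (h : IsZero (HG (DCoh.tensorRightMod G) E j)) :
    Function.Exact (((Groth.L00.Stk.F X x).map (E.d i j)).hom.rTensor ((Groth.L00.Stk.F X x).obj G))
      (((Groth.L00.Stk.F X x).map (E.d j k)).hom.rTensor ((Groth.L00.Stk.F X x).obj G)) := by
  let T := ((DCoh.tensorRightMod G).mapHomologicalComplex (ComplexShape.up ℤ)).obj E
  have h₁ : (T.sc' i j k).Exact :=
    (HomologicalComplex.exactAt_iff' T i j k (by simp; omega) (by simp; omega)).1
      ((HomologicalComplex.exactAt_iff_isZero_homology T j).2 h)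
  let Φ := stalkTensorIso G x
  have e : (T.sc' i j k).map (Groth.L00.Stk.F X x) ≅
      (E.sc' i j k).map (Groth.L00.Stk.F X x ⋙ tensorRight ((Groth.L00.Stk.F X x).obj G)) :=
    ShortComplex.isoMk (Φ.app (E.X i)) (Φ.app (E.X j)) (Φ.app (E.X k))
      (Φ.hom.naturality (E.d i j)).symm (Φ.hom.naturality (E.d j k)).symm
  exact (ShortComplex.ShortExact.moduleCat_exact_iff_function_exact _).1
    ((ShortComplex.exact_iff_of_iso e).1 (h₁.map (Groth.L00.Stk.F X x)))

theorem flat_of_shifted_exact {A : Type u} [CommRing A] {M₀ M₁ M₂ M₃ : Type u} [AddCommGroup M₀]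
    [AddCommGroup M₁] [AddCommGroup M₂] [AddCommGroup M₃] [Module A M₀] [Module A M₁] [Module A M₂]
    [Module A M₃] [Module.Flat A M₂] (d : M₀ →ₗ[A] M₁) (f : M₁ →ₗ[A] M₂) (g : M₂ →ₗ[A] M₃)
    (hfg : Function.Exact f g) (hg : Function.Surjective g) (hdf : f ∘ₗ d = 0)
    (h : ∀ I : Ideal A, I.FG → Function.Exact (d.rTensor (A ⧸ I)) (f.rTensor (A ⧸ I))) :
    Module.Flat A M₃ := by
  let D := LinearMap.range d
  have hD : D ≤ LinearMap.ker f := by
    rintro _ ⟨y, rfl⟩
    exact LinearMap.congr_fun hdf y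
  let f' : (M₁ ⧸ D) →ₗ[A] M₂ := D.liftQ f hD
  have hexact : Function.Exact f' g := by
    intro y
    rw [hfg y]
    constructor
    · rintro ⟨m, rfl⟩; exact ⟨Submodule.Quotient.mk m, rfl⟩
    · rintro ⟨m, rfl⟩
      obtain ⟨m, rfl⟩ := Submodule.Quotient.mk_surjective D m
      exact ⟨m, rfl⟩
  refine Groth.L02.flat_of_exact_of_rTensor_quotient f' g hexact hg fun I hI => ?_
  rw [injective_iff_map_eq_zero]
  intro z hz
  obtain ⟨w, rfl⟩ := LinearMap.rTensor_surjective (A ⧸ I) D.mkQ_surjective z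
  have hw : f.rTensor (A ⧸ I) w = 0 := by
    rw [← D.liftQ_mkQ f hD, LinearMap.rTensor_comp]
    exact hz
  obtain ⟨v, rfl⟩ := (h I hI w).1 hw
  rw [← LinearMap.comp_apply, ← LinearMap.rTensor_comp]
  have : D.mkQ ∘ₗ d = 0 := LinearMap.ext fun y => (Submodule.Quotient.mk_eq_zero D).2 ⟨y, rfl⟩
  rw [this, LinearMap.rTensor_zero, LinearMap.zero_apply]

theorem exact_rTensor_congr {A : Type u} [CommRing A] {M₀ M₁ M₂ : Type u} [AddCommGroup M₀]
    [AddCommGroup M₁] [AddCommGroup M₂] [Module A M₀] [Module A M₁] [Module A M₂] {P Q : Type u}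
    [AddCommGroup P] [AddCommGroup Q] [Module A P] [Module A Q] (e : P ≃ₗ[A] Q) (d : M₀ →ₗ[A] M₁)
    (f : M₁ →ₗ[A] M₂) (h : Function.Exact (d.rTensor P) (f.rTensor P)) :
    Function.Exact (d.rTensor Q) (f.rTensor Q) := by
  refine (Function.Exact.iff_of_ladder_linearEquiv (e₁ := TensorProduct.congr (LinearEquiv.refl A M₀) e)
    (e₂ := TensorProduct.congr (LinearEquiv.refl A M₁) e)
    (e₃ := TensorProduct.congr (LinearEquiv.refl A M₂) e) ?_ ?_).2 h
  · ext m p; simp
  · ext m p; simp

/-- cokernels in a flat complex with one vanishing Tor are flat -/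
theorem isFlat_cokernel (E : CochainComplex X.Modules ℤ) (hflat : ∀ i, FlatMod.IsFlat (E.X i)) (a : ℤ)
    (h : ∀ G : X.Modules, IsZero (HG (DCoh.tensorRightMod G) E (a - 1))) :
    FlatMod.IsFlat (cokernel (E.d (a - 1) a)) := fun x => by
  let F := Groth.L00.Stk.F X x
  let S : ShortComplex X.Modules := ShortComplex.mk (E.d (a - 1) a) (cokernel.π _) (cokernel.condition _)
  have hS : (S.map F).Exact :=
    (S.exact_of_g_is_cokernel (cokernelIsCokernel (E.d (a - 1) a))).map F
  haveI : Epi (F.map S.g) := by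
    haveI : Epi S.g := inferInstanceAs (Epi (cokernel.π _))
    infer_instance
  haveI : Module.Flat (X.presheaf.stalk x) (F.obj (E.X a)) := hflat a x
  refine flat_of_shifted_exact (F.map (E.d (a - 1 - 1) (a - 1))).hom (F.map (E.d (a - 1) a)).hom
    (F.map S.g).hom ((ShortComplex.ShortExact.moduleCat_exact_iff_function_exact _).1 hS)
    ((ModuleCat.epi_iff_surjective _).1 inferInstance) ?_ fun I _ => ?_
  · rw [← ModuleCat.hom_comp, ← Functor.map_comp, HomologicalComplex.d_comp_d, Functor.map_zero]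
    rfl
  · let Q : ModuleCat.{u} (X.presheaf.stalk x) := ModuleCat.of _ (X.presheaf.stalk x ⧸ I)
    exact exact_rTensor_congr ((Sky.counitIso x).app Q).toLinearEquiv _ _
      (exact_rTensor E ((Sky.skyF x).obj Q) x (a - 1 - 1) (a - 1) a (by omega) (by omega) (h _))

theorem isFlat_cokernel_of_torAmp (E : CochainComplex X.Modules ℤ) (hE : DCoh.IsKFlat E)
    (hflat : ∀ i, FlatMod.IsFlat (E.X i)) {K : DCoh.D X} (e : DCoh.toD X E ≅ K)
    (hL : ∀ G : X.Modules, DCoh.HasLTensorMod G) (a : ℤ)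
    (h : ∀ (G : X.Modules) [DCoh.HasLTensorMod G], IsZero (DCoh.HD ((DCoh.LTensorMod G).obj K) (a - 1))) :
    FlatMod.IsFlat (cokernel (E.d (a - 1) a)) :=
  isFlat_cokernel E hflat a fun G =>
    haveI := hL G
    (isZero_HD_iff (acyclicKFlat_tensorMod G) hE e (a - 1)).1 (h G)

/-- the resolution of a complex bounded above is bounded above -/
theorem isStrictlyLE_RF (K : CochainComplex X.Modules ℤ) (b : ℤ) (hb : K.IsStrictlyLE b) :
    ((RF X).obj K).IsStrictlyLE b := by
  rw [CochainComplex.isStrictlyLE_iff]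
  refine Cell.res_induction (FlatCover.cover X) (FlatCover.π X) ((zeroArrow X).obj K)
    (fun N => ∀ n, b < n → IsZero (N.X n)) ?_ ?_ ?_
  · exact fun n _ => (HomologicalComplex.eval X.Modules (ComplexShape.up ℤ) n).map_isZero HomologicalComplex.isZero_zero
  · intro N f hN n hn
    refine IsZero.of_iso ?_ (HomologicalComplex.homotopyCofiber.XIsoBiprod (Cell.φ (FlatCover.cover X) (FlatCover.π X) f) n (n + 1) rfl)
    suffices h : IsZero ((Cell.P (FlatCover.cover X) f).X (n + 1)) by
      rw [IsZero.iff_id_eq_zero]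
      exact biprod.hom_ext _ _ (h.eq_of_tgt _ _) ((hN n hn).eq_of_tgt _ _)
    refine FlatCover.isZero_cover ?_
    have h₁ : IsZero (N.cycles (n + 1)) :=
      IsZero.of_mono (N.iCycles (n + 1)) (hN (n + 1) (by omega))
    have h₂ : IsZero (K.X (n + 1 - 1)) := (CochainComplex.isStrictlyLE_iff K b).1 hb _ (by omega)
    rw [IsZero.iff_id_eq_zero]
    exact pullback.hom_ext (h₁.eq_of_tgt _ _) (h₂.eq_of_tgt _ _)
  · intro D c hc hD n hn
    rw [IsZero.iff_id_eq_zero]
    exact (isColimitOfPreserves (HomologicalComplex.eval X.Modules (ComplexShape.up ℤ) n) hc).hom_ext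
      fun k => (hD k n hn).eq_of_src _ _

theorem isFlat_RF (K : CochainComplex X.Modules ℤ) (n : ℤ) : FlatMod.IsFlat (((RF X).obj K).X n) :=
  isFlat_res _ (fun m => isFlat_zero ((HomologicalComplex.eval X.Modules (ComplexShape.up ℤ) m).map_isZero HomologicalComplex.isZero_zero)) n

theorem isIso_Q_rF (K : CochainComplex X.Modules ℤ) : IsIso (DerivedCategory.Q.map ((rF X).app K)) :=
  Localization.inverts DerivedCategory.Q (HomologicalComplex.quasiIso X.Modules (ComplexShape.up ℤ)) _
    ((HomologicalComplex.mem_quasiIso_iff _).2 (quasiIso_rF K))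

theorem isFlat_iff_tor_one (M : X.Modules) (hL : ∀ G : X.Modules, DCoh.HasLTensorMod G) :
    FlatMod.IsFlat M ↔ ∀ (G : X.Modules) [DCoh.HasLTensorMod G],
      IsZero (DCoh.HD ((DCoh.LTensorMod G).obj (DCoh.inD X M)) (-1)) := by
  let K : CochainComplex X.Modules ℤ := (HomologicalComplex.single X.Modules (ComplexShape.up ℤ) 0).obj M
  constructor
  · intro hM G _
    refine torAmp_of_flatAmp (a := 0) (b := 0) (E := K)
      (fun i hi => HomologicalComplex.isZero_single_obj_X _ _ _ _ (by omega)) (fun i => ?_)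
      (Iso.refl _) G (-1) (Or.inl (by omega))
    rcases eq_or_ne i 0 with rfl | hi
    · exact isFlat_of_iso (HomologicalComplex.singleObjXSelf (ComplexShape.up ℤ) 0 M).symm hM
    · exact isFlat_zero (HomologicalComplex.isZero_single_obj_X _ _ _ _ hi)
  · intro h
    let E := (RF X).obj K
    haveI := isIso_Q_rF K
    haveI := quasiIso_rF K
    have hc := isFlat_cokernel_of_torAmp E (isKFlat_RF K) (isFlat_RF K)
      (asIso (DerivedCategory.Q.map ((rF X).app K)) : DCoh.toD X E ≅ DCoh.inD X M) hL 0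
      (fun G _ => h G)
    have hd : E.d 0 1 = 0 :=
      ((CochainComplex.isStrictlyLE_iff E 0).1 (isStrictlyLE_RF K 0 inferInstance) 1 (by omega)).eq_of_tgt _ _
    haveI := E.isIso_homologyι 0 1 (by simp) hd
    exact isFlat_of_iso
      ((IsColimit.coconePointUniqueUpToIso (cokernelIsCokernel (E.d (0 - 1) 0))
          (E.opcyclesIsCokernel (0 - 1) 0 (by simp))) ≪≫ (asIso (E.homologyι 0)).symm ≪≫
        asIso (HomologicalComplex.homologyMap ((rF X).app K) 0) ≪≫
        HomologicalComplex.singleObjHomologySelfIso (ComplexShape.up ℤ) 0 M) hc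

theorem exact_of_rTensor_self {A : Type u} [CommRing A] {M₀ M₁ M₂ : Type u} [AddCommGroup M₀]
    [AddCommGroup M₁] [AddCommGroup M₂] [Module A M₀] [Module A M₁] [Module A M₂] (d : M₀ →ₗ[A] M₁)
    (f : M₁ →ₗ[A] M₂) (h : Function.Exact (d.rTensor A) (f.rTensor A)) : Function.Exact d f :=
  (Function.Exact.iff_of_ladder_linearEquiv (e₁ := TensorProduct.rid A M₀) (e₂ := TensorProduct.rid A M₁)
    (e₃ := TensorProduct.rid A M₂) (by ext m; simp) (by ext m; simp)).2 h

theorem isZero_homology_of_torAmp (P : CochainComplex X.Modules ℤ) (hP : DCoh.IsKFlat P) {K : DCoh.D X}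
    (e : DCoh.toD X P ≅ K) {a b : ℤ} (h : DCoh.HasTorAmplitudeIn a b K) (i : ℤ) (hi : i < a ∨ b < i) :
    IsZero (P.homology i) := by
  rw [Groth.L00.Stk.acyclic_iff]
  intro x
  let A : ModuleCat.{u} (X.presheaf.stalk x) := ModuleCat.of _ (X.presheaf.stalk x)
  let G := (Sky.skyF x).obj A
  haveI := hasLTensorMod G
  have h₁ := exact_rTensor P G x (i - 1) i (i + 1) (by omega) rfl
    ((isZero_HD_iff (acyclicKFlat_tensorMod G) hP e i).1 (h G i hi))
  have h₂ := exact_of_rTensor_self _ _
    (exact_rTensor_congr ((Sky.counitIso x).app A).toLinearEquiv _ _ h₁)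
  rw [← HomologicalComplex.exactAt_iff_isZero_homology,
    HomologicalComplex.exactAt_iff' _ (i - 1) i (i + 1) (by simp) (by simp)]
  exact (ShortComplex.ShortExact.moduleCat_exact_iff_function_exact _).2 h₂

theorem torAmp_iff_flatAmp (E : DCoh.D X) (a b : ℤ) (hab : a ≤ b)
    (hL : ∀ G : X.Modules, DCoh.HasLTensorMod G) :
    DCoh.HasTorAmplitudeIn a b E ↔ DCoh.HasFlatAmplitudeIn a b E := by
  refine ⟨fun h => ?_, fun ⟨P, hv, hf, ⟨e⟩⟩ => torAmp_of_flatAmp hv hf e⟩
  let K₀ := DerivedCategory.Q.objPreimage E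
  let R := (RF X).obj K₀
  haveI := isIso_Q_rF K₀
  let eR : DCoh.toD X R ≅ E := asIso (DerivedCategory.Q.map ((rF X).app K₀)) ≪≫ DerivedCategory.Q.objObjPreimageIso E
  haveI : R.IsLE b := by
    rw [CochainComplex.isLE_iff]
    intro i hi
    exact (HomologicalComplex.exactAt_iff_isZero_homology _ _).2
      (isZero_homology_of_torAmp R (isKFlat_RF _) eR h i (Or.inr hi))
  let K := R.truncLE b
  let P := (RF X).obj K
  haveI := isIso_Q_rF K
  haveI : IsIso (DerivedCategory.Q.map (R.ιTruncLE b)) :=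
    Localization.inverts DerivedCategory.Q (HomologicalComplex.quasiIso X.Modules (ComplexShape.up ℤ)) _
      ((HomologicalComplex.mem_quasiIso_iff _).2 inferInstance)
  let eP : DCoh.toD X P ≅ E :=
    asIso (DerivedCategory.Q.map ((rF X).app K)) ≪≫ asIso (DerivedCategory.Q.map (R.ιTruncLE b)) ≪≫ eR
  haveI : P.IsStrictlyLE b := isStrictlyLE_RF K b inferInstance
  haveI : P.IsGE a := by
    rw [CochainComplex.isGE_iff]
    intro i hi
    exact (HomologicalComplex.exactAt_iff_isZero_homology _ _).2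
      (isZero_homology_of_torAmp P (isKFlat_RF _) eP h i (Or.inl hi))
  haveI : IsIso (DerivedCategory.Q.map (P.πTruncGE a)) :=
    Localization.inverts DerivedCategory.Q (HomologicalComplex.quasiIso X.Modules (ComplexShape.up ℤ)) _
      ((HomologicalComplex.mem_quasiIso_iff _).2 inferInstance)
  refine ⟨P.truncGE a, fun i hi => ?_, fun i => ?_, ⟨(asIso (DerivedCategory.Q.map (P.πTruncGE a))).symm ≪≫ eP⟩⟩
  · rcases hi with hi | hi
    · exact (CochainComplex.isStrictlyGE_iff _ a).1 inferInstance i hi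
    · exact ((CochainComplex.isStrictlyLE_iff P b).1 inferInstance i hi).of_iso
        (P.truncGEXIso a i (by omega))
  · rcases lt_trichotomy i a with hi | rfl | hi
    · exact isFlat_zero ((CochainComplex.isStrictlyGE_iff _ a).1 inferInstance i hi)
    · refine isFlat_of_iso ((P.truncGEXIsoOpcycles i) ≪≫ (IsColimit.coconePointUniqueUpToIso
        (P.opcyclesIsCokernel (i - 1) i (by simp)) (cokernelIsCokernel (P.d (i - 1) i)))).symm
        (isFlat_cokernel_of_torAmp P (isKFlat_RF _) (isFlat_RF _) eP hL i fun G _ => h G (i - 1) (Or.inl (by omega)))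
    · exact isFlat_of_iso (P.truncGEXIso a i hi).symm (isFlat_RF K i)

end Groth.L00.TorAmp
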