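import Groth.Agent.L00.IsogenyDual
import Groth.Agent.L26.AbDual.Additive
import Mathlib.AlgebraicGeometry.AlgClosed.Basic

/-!
The transpose of an isogeny of abelian schemes is an isogeny.
-/

set_option autoImplicit false
set_option linter.style.haveILetI false
set_option backward.isDefEq.respectTransparency.types false

universe u

open CategoryTheory CategoryTheory.Limits MonoidalCategory CartesianMonoidalCategory MonObj GrpObj AlgebraicGeometry
open Groth.Agent.AbDualLib

noncomputable section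

namespace Groth.L00.TransIsog

/-- A nonempty scheme locally of finite type over an algebraically closed field has a point. -/
theorem exists_point {Ω : Type u} [Field Ω] [IsAlgClosed Ω] {P : Scheme.{u}}
    (q : P ⟶ Spec (CommRingCat.of Ω)) [LocallyOfFiniteType q] [Nonempty P] :
    ∃ s : Spec (CommRingCat.of Ω) ⟶ P, s ≫ q = 𝟙 _ := by
  haveI : JacobsonSpace P := LocallyOfFiniteType.jacobsonSpace q
  obtain ⟨x, -, hx⟩ := nonempty_inter_closedPoints (Z := (Set.univ : Set P)) Set.univ_nonempty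
    isClosed_univ.isLocallyClosed
  exact ⟨pointOfClosedPoint q x hx, pointOfClosedPoint_comp q x hx⟩

variable {S : Scheme.{u}} {X Y : Over S} [GrpObj X] [GrpObj Y]
  [IsProper X.hom] [Smooth X.hom] [GeometricallyConnected X.hom]
  [IsProper Y.hom] [Smooth Y.hom] [GeometricallyConnected Y.hom]

omit [GeometricallyConnected X.hom] [GeometricallyConnected Y.hom] in
theorem isFinite_flat (φ : X ⟶ Y) [IsMonHom φ] [Surjective φ.left] {N : Over S} (i : N ⟶ X)
    (hN : AlgGrp.IsKernel i φ) [IsFinite N.hom] : IsFinite φ.left ∧ Flat φ.left := by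
  haveI := Groth.Agent.AV.geometricallyReduced_of_smooth Y.hom
  haveI : Flat φ.left := (Groth.L08.FlatHom.flat_of_surjective_fibres X Y φ).1
  haveI : IsProper (φ.left ≫ Y.hom) := by rw [Over.w]; infer_instance
  haveI : IsProper φ.left := IsProper.of_comp _ Y.hom
  have h2 := (Groth.L15.KerFlat.isPullback_kernelPair hN).map (Over.forget _)
  have h3 : IsFinite (fst X N).left := MorphismProperty.pullback_fst X.hom N.hom ‹_›
  exact ⟨MorphismProperty.of_isPullback_of_descendsAlong (P := @IsFinite)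
    (Q := @Surjective ⊓ @Flat ⊓ @QuasiCompact) h2
    ⟨⟨‹Surjective φ.left›, ‹Flat φ.left›⟩, (inferInstance : QuasiCompact φ.left)⟩ h3, ‹_›⟩

/-- Over a geometric point, multiplication by some positive integer factors through an isogeny on both sides. -/
theorem exists_factor_pt (φ : X ⟶ Y) [IsMonHom φ] [IsFinite φ.left] [Flat φ.left] [Surjective φ.left]
    {Ω : Type u} [Field Ω] [IsAlgClosed Ω] (σ : Spec (CommRingCat.of Ω) ⟶ S) :
    let n := Scheme.Hom.finrank φ.left (η[Y].left (σ (IsLocalRing.closedPoint Ω)))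
    1 ≤ n ∧ ∃ (h : PicF.XT Y.hom (Over.mk σ) ⟶ PicF.XT X.hom (Over.mk σ)),
      h ≫ PicF.XTproj X.hom (Over.mk σ) = PicF.XTproj Y.hom (Over.mk σ) ≫ 𝟙 _ ∧
      AbDual.bcMap φ (Over.mk σ) ≫ h = AbDual.bcMap (𝟙 X ^ n) (Over.mk σ) ∧
      h ≫ AbDual.bcMap φ (Over.mk σ) = AbDual.bcMap (𝟙 Y ^ n) (Over.mk σ) := by
  have hm : ∀ {A B : Over S} (a : A ⟶ B),
      ((Over.pullback σ).map a).left = AbDual.bcMap a (Over.mk σ) := fun a => by
    apply pullback.hom_ext
    · exact (pullback.lift_fst _ _ _).trans (pullback.lift_fst _ _ _).symm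
    · refine (Over.w ((Over.pullback σ).map a)).trans ?_
      exact ((pullback.lift_snd _ _ _).trans (Category.comp_id _)).symm
  let X' := (Over.pullback σ).obj X
  let Y' := (Over.pullback σ).obj Y
  letI : GrpObj X' := Functor.grpObjObj
  letI : GrpObj Y' := Functor.grpObjObj
  haveI := Groth.Agent.AV.geometricallyReduced_of_smooth X.hom
  haveI := Groth.Agent.AV.geometricallyReduced_of_smooth Y.hom
  haveI : IsProper X'.hom := inferInstanceAs (IsProper (pullback.snd X.hom σ))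
  haveI : Smooth X'.hom := inferInstanceAs (Smooth (pullback.snd X.hom σ))
  haveI : GeometricallyReduced X'.hom := inferInstanceAs (GeometricallyReduced (pullback.snd X.hom σ))
  haveI : GeometricallyConnected X'.hom := inferInstanceAs (GeometricallyConnected (pullback.snd X.hom σ))
  haveI : IsProper Y'.hom := inferInstanceAs (IsProper (pullback.snd Y.hom σ))
  haveI : Smooth Y'.hom := inferInstanceAs (Smooth (pullback.snd Y.hom σ))
  haveI : GeometricallyReduced Y'.hom := inferInstanceAs (GeometricallyReduced (pullback.snd Y.hom σ))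
  haveI : GeometricallyConnected Y'.hom := inferInstanceAs (GeometricallyConnected (pullback.snd Y.hom σ))
  let f : X' ⟶ Y' := (Over.pullback σ).map φ
  haveI : IsMonHom f := Functor.map.instIsMonHom (F := Over.pullback σ) (f := φ)
  have hP := Groth.L08.MulEtale.isPullback_map σ φ
  haveI : IsFinite f.left := MorphismProperty.of_isPullback (P := @IsFinite) hP.flip ‹_›
  haveI : Flat f.left := MorphismProperty.of_isPullback (P := @Flat) hP.flip ‹_›
  haveI : Surjective f.left := MorphismProperty.of_isPullback (P := @Surjective) hP.flip ‹_›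
  haveI := Groth.L00.IsogDual.lfp_left f
  haveI := Groth.L00.IsogDual.lfp_left φ
  intro n
  have hn : 1 ≤ n := (Scheme.Hom.one_le_finrank_iff_surjective _).2 ‹Surjective φ.left› _
  haveI : ConnectedSpace ↥Y'.left := GeometricallyConnected.connectedSpace_of_subsingleton Y'.hom
  let o' : Spec (CommRingCat.of Ω) ⟶ pullback Y.hom σ :=
    pullback.lift (σ ≫ η[Y].left) (𝟙 _) (by
      rw [Category.assoc, Category.id_comp, Over.w η[Y]]
      exact Category.comp_id σ)
  have hdeg : ∀ w : ↥Y'.left, Scheme.Hom.finrank f.left w = n := fun w => by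
    rw [(Scheme.Hom.isLocallyConstant_finrank f.left).apply_eq_of_preconnectedSpace w (o' (IsLocalRing.closedPoint Ω)),
      Scheme.Hom.finrank_of_isPullback _ _ _ _ hP.flip]
    exact congrArg (Scheme.Hom.finrank φ.left)
      ((Scheme.Hom.comp_apply _ _ _).symm.trans (congrArg (fun q => q (IsLocalRing.closedPoint Ω))
        (pullback.lift_fst (σ ≫ η[Y].left) (𝟙 _) _)))
  obtain ⟨⟨g, ⟨hgm, hg⟩, -⟩, hall⟩ := Groth.L00.IsogDual.exists_factor f n hn (fun _ => hdeg _)
  obtain ⟨hgf, -⟩ := hall g hgm hg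
  refine ⟨hn, g.left, (Over.w g).trans (Category.comp_id _).symm, ?_, ?_⟩
  · rw [← hm φ, ← hm (𝟙 X ^ n)]
    refine (congrArg CommaMorphism.left hg).trans ?_
    have h := Groth.L08.MulEtale.map_pow_eq σ X (n : ℤ)
    rw [zpow_natCast, zpow_natCast] at h
    exact (congrArg CommaMorphism.left h).symm
  · rw [← hm φ, ← hm (𝟙 Y ^ n)]
    refine (congrArg CommaMorphism.left hgf).trans ?_
    have h := Groth.L08.MulEtale.map_pow_eq σ Y (n : ℤ)
    rw [zpow_natCast, zpow_natCast] at h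
    exact (congrArg CommaMorphism.left h).symm

section Dual

variable [IsLocallyNoetherian S] {Xt Yt : Over S} [GrpObj Xt] [GrpObj Yt]
  {φX : ∀ T : Over S, PicF.Cl (PicF.XT X.hom T) → (T ⟶ Xt)}
  {φY : ∀ T : Over S, PicF.Cl (PicF.XT Y.hom T) → (T ⟶ Yt)}

omit [GeometricallyConnected X.hom] [IsProper X.hom] [Smooth X.hom] [GrpObj X] [IsLocallyNoetherian S] in
theorem exists_class (hX : AbDual.IsDualAV Scheme.fppfPrecoverage X Xt φX) {Ω : Type u} [Field Ω] [IsAlgClosed Ω]
    (σ : Spec (CommRingCat.of Ω) ⟶ S) (x : Over.mk σ ⟶ Xt) :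
    ∃ c, AbDual.IsPicZeroCl X.hom (Over.mk σ) c ∧ φX (Over.mk σ) c = x := by
  obtain ⟨R, hR, hs⟩ := hX.relPic.locallySurjective _ x
  obtain ⟨J, Z, u', rfl⟩ := Presieve.exists_eq_ofArrows R
  have h := (Scheme.ofArrows_mem_precoverage_iff _).1 hR
  obtain ⟨k, z, -⟩ := h.1 (IsLocalRing.closedPoint Ω)
  have hlfp : LocallyOfFinitePresentation (u' k) := (h.2 k).2
  let U := Z k
  let u : U ⟶ Spec (CommRingCat.of Ω) := u' k
  have hu : Presieve.ofArrows Z u' u := ⟨k⟩
  haveI : LocallyOfFinitePresentation u := hlfp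
  haveI : Nonempty U := ⟨z⟩
  obtain ⟨s, hsu⟩ := exists_point (Ω := Ω) u
  obtain ⟨c, hc, he⟩ := hs u hu
  let j : Over.mk σ ⟶ AbDual.ovr (Over.mk σ) u := Over.homMk s (by
    show s ≫ u ≫ σ = σ
    rw [reassoc_of% hsu])
  refine ⟨_, isPicZeroCl_XTmap X.hom j hc, ?_⟩
  rw [hX.relPic.natural _ _ j c hc, he, ← Category.assoc,
    show j ≫ AbDual.ovrHom (Over.mk σ) u = 𝟙 _ from Over.OverMorphism.ext hsu, Category.id_comp]

theorem map_pullCl_pow (hX : AbDual.IsDualAV Scheme.fppfPrecoverage X Xt φX) (n : ℕ) (T : Over S)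
    {c : PicF.Cl (PicF.XT X.hom T)} (hc : AbDual.IsPicZeroCl X.hom T c) :
    φX T (PicF.pullCl (AbDual.bcMap (𝟙 X ^ n) T) c) = φX T c ^ n := by
  induction n with
  | zero => rw [pow_zero, pow_zero, map_pullCl_one hX hX T hc]
  | succ n ih => rw [pow_succ, pow_succ, map_pullCl_mul hX hX _ _ T hc, ih, bcMap_id, PicLoc.pullCl_id]

variable [IsProper Xt.hom] [Smooth Xt.hom] [GeometricallyConnected Xt.hom]

theorem lift_and_torsion (hX : AbDual.IsDualAV Scheme.fppfPrecoverage X Xt φX)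
    (hY : AbDual.IsDualAV Scheme.fppfPrecoverage Y Yt φY) (φ : X ⟶ Y) [IsMonHom φ]
    [IsFinite φ.left] [Flat φ.left] [Surjective φ.left] (ft : Yt ⟶ Xt)
    (hft : AbDual.IsTranspose φ φX φY ft) {Ω : Type u} [Field Ω] [IsAlgClosed Ω]
    (σ : Spec (CommRingCat.of Ω) ⟶ S) :
    (∀ x : Over.mk σ ⟶ Xt, ∃ y : Over.mk σ ⟶ Yt, y ≫ ft = x) ∧
      ∀ y : Over.mk σ ⟶ Yt, y ≫ ft = 1 →
        y ^ Scheme.Hom.finrank φ.left (η[Y].left (σ (IsLocalRing.closedPoint Ω))) = 1 := by
  obtain ⟨hn, h, hw, h1, h2⟩ := exists_factor_pt φ σ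
  generalize Scheme.Hom.finrank φ.left (η[Y].left (σ (IsLocalRing.closedPoint Ω))) = n at hn h1 h2 ⊢
  refine ⟨fun x => ?_, fun y hy => ?_⟩
  · haveI := Groth.Agent.AV.geometricallyReduced_of_smooth Xt.hom
    obtain ⟨hs, -⟩ := Groth.L00.IsogDual.surjective_and_quasiFinite_pow Xt n hn
    haveI : IsProper ((𝟙 Xt ^ n).left ≫ Xt.hom) := by rw [Over.w]; infer_instance
    haveI : IsProper (𝟙 Xt ^ n).left := IsProper.of_comp _ Xt.hom
    haveI : Surjective (pullback.snd (𝟙 Xt ^ n).left x.left) := MorphismProperty.pullback_snd _ _ hs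
    haveI : Nonempty ↥(pullback (𝟙 Xt ^ n).left x.left) :=
      ⟨((pullback.snd (𝟙 Xt ^ n).left x.left).surjective (IsLocalRing.closedPoint Ω)).choose⟩
    obtain ⟨s, hs'⟩ := exists_point (Ω := Ω) (pullback.snd (𝟙 Xt ^ n).left x.left)
    have hz : (s ≫ pullback.fst (𝟙 Xt ^ n).left x.left) ≫ (𝟙 Xt ^ n).left = x.left := by
      rw [Category.assoc, pullback.condition, reassoc_of% hs']
    let z : Over.mk σ ⟶ Xt := Over.homMk (s ≫ pullback.fst (𝟙 Xt ^ n).left x.left) (by
      rw [← Over.w (𝟙 Xt ^ n), ← Category.assoc, hz, Over.w x])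
    obtain ⟨c, hc, hcz⟩ := exists_class hX σ z
    have hc' := isPicZeroCl_pullCl X.hom Y.hom (T := Over.mk σ) (T' := Over.mk σ) (𝟙 _) h hw hc
    refine ⟨φY _ (PicF.pullCl h c), ?_⟩
    rw [← hft _ _ hc', ← PicLoc.pullCl_comp, h1, map_pullCl_pow hX n _ hc, hcz]
    have : z ≫ 𝟙 Xt ^ n = x := Over.OverMorphism.ext hz
    rwa [MonObj.comp_pow, Category.comp_id] at this
  · obtain ⟨c, hc, rfl⟩ := exists_class hY σ y
    have hd := isPicZeroCl_bcMap φ (Over.mk σ) hc
    haveI : Subsingleton ↥(Over.mk σ).left := inferInstanceAs (Subsingleton (PrimeSpectrum Ω))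
    have htriv : PicF.pullCl (AbDual.bcMap φ (Over.mk σ)) c = oneCl _ := by
      refine eq_of_map_eq hX hd (isPicZeroCl_oneCl _ _)
        (eq_oneCl_of_subsingleton (PicLoc.isInvertibleCl_pullCl _ (isInvertibleCl_of_isPicZeroCl hd)))
        (pullCl_oneCl _) ?_
      rw [hft _ c hc, hy, map_oneCl hX]
    rw [← map_pullCl_pow hY n _ hc, ← h2, PicLoc.pullCl_comp, htriv, pullCl_oneCl, map_oneCl hY]

variable [IsProper Yt.hom] [Smooth Yt.hom] [GeometricallyConnected Yt.hom]

theorem surjective_flat_finite (hX : AbDual.IsDualAV Scheme.fppfPrecoverage X Xt φX)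
    (hY : AbDual.IsDualAV Scheme.fppfPrecoverage Y Yt φY) (φ : X ⟶ Y) [IsMonHom φ] [Surjective φ.left]
    {N : Over S} (i : N ⟶ X) (hN : AlgGrp.IsKernel i φ) [IsFinite N.hom]
    (ft : Yt ⟶ Xt) [IsMonHom ft] (hft : AbDual.IsTranspose φ φX φY ft) :
    Surjective ft.left ∧ Flat ft.left ∧
      ∀ (M : Over S) (j : M ⟶ Yt), AlgGrp.IsKernel j ft → IsFinite M.hom ∧ Flat M.hom := by
  obtain ⟨hfin, hflat⟩ := isFinite_flat φ i hN
  haveI : Surjective ft.left := ⟨fun a => by
    obtain ⟨Ω, _, _, p, hp⟩ := exists_geomPoint a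
    obtain ⟨y, hy⟩ := (lift_and_torsion hX hY φ ft hft (p ≫ Xt.hom)).1 (Over.homMk p rfl)
    refine ⟨y.left (IsLocalRing.closedPoint Ω), ?_⟩
    rw [← Scheme.Hom.comp_apply, ← Over.comp_left, hy]
    exact hp _⟩
  haveI := Groth.Agent.AV.geometricallyReduced_of_smooth Xt.hom
  haveI := Groth.Agent.AV.geometricallyReduced_of_smooth Yt.hom
  haveI : Flat ft.left := (Groth.L08.FlatHom.flat_of_surjective_fibres Yt Xt ft).1
  refine ⟨inferInstance, inferInstance, fun M j hM => ?_⟩
  haveI : IsProper (ft.left ≫ Xt.hom) := by rw [Over.w]; infer_instance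
  haveI : IsProper ft.left := IsProper.of_comp _ Xt.hom
  have hl := hM.map (Over.forget _)
  haveI : IsIso (𝟙_ (Over S)).hom := inferInstanceAs (IsIso (𝟙 _))
  have hMhom : M.hom = (toUnit M).left ≫ (𝟙_ (Over S)).hom := (Over.w _).symm
  haveI : IsProper (toUnit M).left := MorphismProperty.of_isPullback (P := @IsProper) hl ‹_›
  haveI : Flat (toUnit M).left := MorphismProperty.of_isPullback (P := @Flat) hl ‹_›
  haveI : IsProper M.hom := hMhom ▸ (inferInstance : IsProper ((toUnit M).left ≫ (𝟙_ (Over S)).hom))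
  haveI : Flat M.hom := hMhom ▸ (inferInstance : Flat ((toUnit M).left ≫ (𝟙_ (Over S)).hom))
  refine ⟨?_, inferInstance⟩
  haveI : IsSplitMono η[Xt].left := IsSplitMono.mk' ⟨Xt.hom ≫ inv (𝟙_ (Over S)).hom,
    by rw [← Category.assoc, Over.w η[Xt], IsIso.hom_inv_id]⟩
  haveI : IsClosedImmersion η[Xt].left := by
    haveI : IsClosedImmersion (η[Xt].left ≫ Xt.hom) := by rw [Over.w]; infer_instance
    exact IsClosedImmersion.of_comp _ Xt.hom
  haveI : IsClosedImmersion j.left := MorphismProperty.of_isPullback (P := @IsClosedImmersion) hl.flip ‹_›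
  haveI := Groth.L00.IsogDual.lfp_left φ
  haveI : LocallyQuasiFinite M.hom := LocallyQuasiFinite.of_finite_preimage_singleton _ fun s => by
    let n := Scheme.Hom.finrank φ.left (η[Y].left s)
    have hn : 1 ≤ n := (Scheme.Hom.one_le_finrank_iff_surjective _).2 ‹Surjective φ.left› _
    obtain ⟨-, hq⟩ := Groth.L00.IsogDual.surjective_and_quasiFinite_pow Yt n hn
    haveI : IsProper ((𝟙 Yt ^ n).left ≫ Yt.hom) := by rw [Over.w]; infer_instance
    haveI : IsProper (𝟙 Yt ^ n).left := IsProper.of_comp _ Yt.hom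
    haveI := hq
    refine Set.Finite.subset (((𝟙 Yt ^ n).left.finite_preimage_singleton (η[Yt].left s)).preimage
      j.left.isClosedEmbedding.injective.injOn) ?_
    intro m (hm : M.hom m = s)
    obtain ⟨Ω, _, _, p, hp⟩ := exists_geomPoint m
    let t : Over.mk (p ≫ M.hom) ⟶ M := Over.homMk p rfl
    have hs : (p ≫ M.hom) (IsLocalRing.closedPoint Ω) = s := by rw [Scheme.Hom.comp_apply, hp, hm]
    have hy : (t ≫ j) ≫ ft = 1 := by
      rw [Category.assoc, hM.w, ← Category.assoc, Hom.one_def, toUnit_unique (t ≫ toUnit M) (toUnit _)]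
    have htor := (lift_and_torsion hX hY φ ft hft (p ≫ M.hom)).2 (t ≫ j) hy
    rw [hs] at htor
    have he : (t ≫ j) ≫ 𝟙 Yt ^ n = toUnit _ ≫ η[Yt] := by
      rw [MonObj.comp_pow, Category.comp_id, htor, Hom.one_def]
    have he' := congrArg (fun q => q.left (IsLocalRing.closedPoint Ω)) he
    simp only [Over.comp_left, Scheme.Hom.comp_apply, Over.toUnit_left] at he'
    show (𝟙 Yt ^ n).left (j.left m) = η[Yt].left s
    rw [← hp (IsLocalRing.closedPoint Ω), ← hs, Scheme.Hom.comp_apply]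
    exact he'
  exact IsFinite.of_isProper_of_locallyQuasiFinite _

end Dual

end Groth.L00.TransIsog
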