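import Mathlib.AlgebraicGeometry.Morphisms.FormallyUnramified
import Mathlib.AlgebraicGeometry.Morphisms.Separated

/-! Morphisms into an unramified separated scheme agreeing at a point of a connected source. -/

universe u

open CategoryTheory CategoryTheory.Limits AlgebraicGeometry

set_option backward.isDefEq.respectTransparency.types false

namespace Groth.L00.UnramEq

theorem eq_of_connected {X S Z W : Scheme.{u}} (p : X ⟶ S) [FormallyUnramified p] [LocallyOfFiniteType p]
    [IsSeparated p] [ConnectedSpace ↥Z] [Nonempty ↥W] (φ₁ φ₂ : Z ⟶ X) (h : φ₁ ≫ p = φ₂ ≫ p)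
    (z : W ⟶ Z) (hz : z ≫ φ₁ = z ≫ φ₂) : φ₁ = φ₂ := by
  let Δ := pullback.diagonal p
  let c : Z ⟶ pullback p p := pullback.lift φ₁ φ₂ h
  have hE : IsClopen (c ⁻¹' Set.range Δ) :=
    ⟨Δ.isClosedEmbedding.isClosed_range.preimage c.continuous,
      Δ.isOpenEmbedding.isOpen_range.preimage c.continuous⟩
  have hne : (c ⁻¹' Set.range Δ).Nonempty := by
    obtain ⟨w⟩ := ‹Nonempty W›
    refine ⟨z w, (z ≫ φ₁) w, ?_⟩
    have e : (z ≫ φ₁) ≫ Δ = z ≫ c := by
      apply pullback.hom_ext
      · rw [Category.assoc, pullback.diagonal_fst, Category.comp_id, Category.assoc, pullback.lift_fst]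
      · rw [Category.assoc, pullback.diagonal_snd, Category.comp_id, Category.assoc, pullback.lift_snd, hz]
    rw [← Scheme.Hom.comp_apply, ← Scheme.Hom.comp_apply, e]
  have hall := hE.eq_univ hne
  have hr : Set.range c ⊆ Set.range Δ := by rintro _ ⟨v, rfl⟩; exact hall.ge (Set.mem_univ v)
  have hfac := IsOpenImmersion.lift_fac Δ c hr
  have h1 : IsOpenImmersion.lift Δ c hr = φ₁ := by
    have := congr($hfac ≫ pullback.fst p p)
    rwa [Category.assoc, pullback.diagonal_fst, Category.comp_id, pullback.lift_fst] at this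
  have h2 : IsOpenImmersion.lift Δ c hr = φ₂ := by
    have := congr($hfac ≫ pullback.snd p p)
    rwa [Category.assoc, pullback.diagonal_snd, Category.comp_id, pullback.lift_snd] at this
  exact h1.symm.trans h2

end Groth.L00.UnramEq
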