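import Groth.Agent.L18.VeryAmpleOver

/-!
All large powers of an ample module are very ample relative to any base of locally finite type.
-/

set_option autoImplicit false
set_option backward.isDefEq.respectTransparency false
set_option linter.style.haveILetI false
universe u

open CategoryTheory CategoryTheory.Limits AlgebraicGeometry TopologicalSpace

noncomputable section

namespace Groth.L00.VeryAmpleBase

open Groth.L18.Frame (rs ro rs_rs rs_self rs_smul ro_ro ro_self ro_mul IsFrame)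
open Groth.L18.GenLoc Groth.L18.Ample Groth.L22.VeryAmple Groth.L18.VeryAmpleOver

variable {X Y : Scheme.{u}}

theorem exists_common_degree_over (f : X ⟶ Y) {L : X.Modules} (hL : CohB1.IsAmple L) :
    ∃ (d : ℕ) (_ : 0 < d) (ι : Type u) (_ : Finite ι) (s : ι → (Coh.structureModule X ⟶ CohB1.tensorPow L d))
      (V : ι → Y.Opens),
      (∀ x, ∃ i, x ∈ CohB1.genLocus _ (s i)) ∧ (∀ i, IsAffineOpen (CohB1.genLocus _ (s i))) ∧
        (∀ i, IsAffineOpen (V i)) ∧ ∀ i, CohB1.genLocus _ (s i) ≤ f ⁻¹ᵁ V i := by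
  classical
  haveI := hL.2.1
  haveI : X.IsSeparated := Groth.L18.Ample.isSeparated_of_isAmple hL
  choose V hV hxV _ using fun x : X => exists_affine_le (Opens.mem_top (f x))
  choose m s hx hle hs using fun x : X => exists_affine_genLocus_subset hL (f ⁻¹ᵁ V x) (x := x) (hxV x)
  obtain ⟨T, hT⟩ := isCompact_univ.elim_finite_subcover
    (fun x : X => (CohB1.genLocus _ (s x) : Set X)) (fun x => (CohB1.genLocus _ (s x)).2)
    (fun x _ => Set.mem_iUnion.2 ⟨x, hx x⟩)
  have hd : 0 < ∏ x ∈ T, (m x + 1) := Finset.prod_pos fun x _ => Nat.succ_pos _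
  have hex : ∀ x : T, ∃ c, ∏ y ∈ T, (m y + 1) = (m x.1 + 1) * (c + 1) := fun x => by
    obtain ⟨c, hc⟩ := Finset.dvd_prod_of_mem (fun y => m y + 1) x.2
    refine ⟨c - 1, ?_⟩
    rcases c with _ | c
    · simp [hc] at hd
    · simpa using hc
  choose c hc using hex
  have hloc : ∀ x : T, ∃ s' : Coh.structureModule X ⟶ CohB1.tensorPow L (∏ y ∈ T, (m y + 1)),
      CohB1.genLocus _ s' = CohB1.genLocus _ (s x.1) := fun x => by
    rw [hc x]
    refine ⟨pw (s x.1) (c x + 1) ≫ (Groth.L00.Tensor.tensorPowMul L (m x.1 + 1) (c x + 1)).hom, ?_⟩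
    rw [Groth.L16.genLocus_comp_iso, genLocus_pw_succ (isInvertible_tensorPow hL.1 _)]
  choose s' hs' using hloc
  refine ⟨_, hd, T, inferInstance, s', fun i => V i.1, fun x => ?_, fun i => ?_, fun i => hV _, fun i => ?_⟩
  · obtain ⟨y, hy, hxy⟩ := Set.mem_iUnion₂.1 (hT (Set.mem_univ x))
    exact ⟨⟨y, hy⟩, by rw [hs']; exact hxy⟩
  · rw [hs' i]; exact hs i.1
  · rw [hs' i]; exact hle i.1

theorem exists_forall_isRelVeryAmplePn (f : X ⟶ Y) [LocallyOfFiniteType f] {L : X.Modules}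
    (hL : CohB1.IsAmple L) :
    ∃ N₀ : ℕ, ∀ N, N₀ ≤ N → RelAmple.IsRelVeryAmplePn f (CohB1.tensorPow L N) := by
  classical
  haveI := hL.2.1
  haveI : X.IsSeparated := Groth.L18.Ample.isSeparated_of_isAmple hL
  obtain ⟨d, hd, ι, hι, s, V, hcov, haff, hV, hle⟩ := exists_common_degree_over f hL
  obtain ⟨n₁, hn₁⟩ := exists_gg_powers hL
  have hM := isInvertible_tensorPow hL.1 d
  have hb : ∀ j : Fin d, ∃ k : ℕ, ∀ K, k ≤ K →
      RelAmple.IsRelVeryAmplePn f (tw (CohB1.tensorPow L (n₁ + j)) (CohB1.tensorPow L d) K) := fun j => by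
    obtain ⟨σ, hσ, u, hu⟩ := hn₁ (n₁ + j) (by omega)
    have hB := isInvertible_tensorPow hL.1 (n₁ + (j : ℕ))
    choose γ hγ g hg using fun i : ι => exists_generators_affine f (hV i) (haff i) (hle i)
    obtain ⟨k, hk⟩ := exists_sections hM hB s u γ g
    refine ⟨k + 1, fun K hK => ?_⟩
    choose t ht using hk K (by omega)
    have hK1 : 1 ≤ K := by omega
    let G : ι × σ → X.Opens := fun p => CohB1.genLocus _ (s p.1) ⊓ CohB1.genLocus _ (u p.2)
    let B := CohB1.tensorPow L (n₁ + (j : ℕ))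
    let M := CohB1.tensorPow L d
    have hfr : ∀ p, IsFrame (tw B M K) (G p) (rs (tw B M K) le_top (powSec (s p.1) (secOf (u p.2)) K)) := fun p => by
      rw [rs_powSec]
      refine isFrame_powFrame inf_le_left ?_
      have := (isFrame_genLocus (u p.2)).mono (inf_le_right : G p ≤ _)
      rwa [rs_rs] at this
    have hGle : ∀ p, G p ≤ f ⁻¹ᵁ V p.1 := fun p => inf_le_left.trans (hle p.1)
    refine exists_immersion_over f (isInvertible_tw hB hM K)
      (κ := (ι × σ) ⊕ ((Σ i, γ i) × σ)) (Sum.elim (fun p => powSec (s p.1) (secOf (u p.2)) K) t) Sum.inl G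
      (fun p => V p.1) (fun x => ?_) (fun p => ?_) (fun p => hV p.1) hGle hfr (fun p W hW => ?_) fun p A hc hj => ?_
    · obtain ⟨i, hi⟩ := hcov x
      obtain ⟨m, hm⟩ := hu x
      exact ⟨(i, m), hi, hm⟩
    · show IsAffineOpen (_ ⊓ _)
      rw [inf_comm]
      exact isAffineOpen_genLocus_inf hB (u p.2) (haff p.1)
    · exact le_genLocus_of_isFrame_powSec hM hB (s p.1) (u p.2) hK1 hW
    · let φ := (X.presheaf.map (homOfLE (inf_le_left : G p ≤ CohB1.genLocus M (s p.1))).op).hom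
      have htop : A.comap φ = ⊤ := hg p.1 _ (fun c => by
        show φ (f.appLE (V p.1) (CohB1.genLocus M (s p.1)) _ c) ∈ A
        rw [show φ (f.appLE (V p.1) (CohB1.genLocus M (s p.1)) _ c) = (f.appLE (V p.1) (CohB1.genLocus M (s p.1)) _ ≫
          X.presheaf.map (homOfLE (inf_le_left : G p ≤ CohB1.genLocus M (s p.1))).op) c from rfl,
          Scheme.Hom.appLE_map]
        exact hc c) fun j => hj (Sum.inr (⟨p.1, j⟩, p.2)) _ (by
          show _ • rs (tw B M K) le_top (powSec (s p.1) (secOf (u p.2)) K) = rs (tw B M K) le_top (t (⟨p.1, j⟩, p.2))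
          have h := congrArg (rs (tw B M K) (inf_le_left : G p ≤ CohB1.genLocus M (s p.1))) (ht (⟨p.1, j⟩, p.2))
          rw [rs_rs, rs_smul, it_rs, rs_rs] at h
          rw [rs_powSec]
          exact h.symm)
      refine mem_of_generated (haff p.1) u hu p.2 ?_ A (fun a => htop.ge (x := a) trivial) fun m w hw =>
        hj (Sum.inl (p.1, m)) w ?_
      · rw [inf_comm]
        exact isAffineOpen_genLocus_inf hB (u p.2) (haff p.1)
      · show w • rs (tw B M K) le_top (powSec (s p.1) (secOf (u p.2)) K) = rs (tw B M K) le_top (powSec (s p.1) (secOf (u m)) K)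
        rw [rs_powSec, rs_powSec, it_smul_of_le inf_le_left, hw]
  choose k hk using hb
  refine ⟨n₁ + d * (Finset.univ.sup k + 1), fun N hN => ?_⟩
  let j : Fin d := ⟨(N - n₁) % d, Nat.mod_lt _ hd⟩
  have hK : k j ≤ (N - n₁) / d := by
    have h1 : Finset.univ.sup k + 1 ≤ (N - n₁) / d :=
      (Nat.le_div_iff_mul_le hd).2 (by rw [mul_comm]; omega)
    have h2 : k j ≤ Finset.univ.sup k := Finset.le_sup (Finset.mem_univ j)
    omega
  obtain ⟨n, r, hr, hf, ⟨e⟩⟩ := hk j _ hK
  refine ⟨n, r, hr, hf, ⟨?_⟩⟩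
  have hN' : n₁ + (j : ℕ) + d * ((N - n₁) / d) = N := by
    have := Nat.div_add_mod (N - n₁) d
    have hj : (j : ℕ) = (N - n₁) % d := rfl
    omega
  exact (twTensorPow L (n₁ + j) d _ ≪≫ eqToIso (congrArg (CohB1.tensorPow L) hN')).symm ≪≫ e

end Groth.L00.VeryAmpleBase
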